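import Cfsg.Agent.Lib.Blocks.Watanabe
import Cfsg.Agent.Lib.Star.Nilpotent
import Cfsg.Agent.Lib.BrauerPairs.CyclicFree
import Cfsg.Agent.Lib.BrauerPairs.InducedPairs
import Cfsg.Agent.S4687

/-!
# Blocks with cyclic defect groups: the local subgroups

For a maximal pair `(D, eD)` with `D` cyclic:
* `free`, `relIndex_dvd`: the inertial quotient acts freely, its order divides `p - 1`;
* `exists_local`: a pair `(Q, f)` below `(D, eD)` has `(D, eD)` as maximal pair inside `C(Q)`;
* `mem_pairStab_local_iff`, `pairStab_local_eq`, `relIndex_local`: its stabiliser is `T C(Q)`;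
* `nilpotent_local`, `blockRank_local`: for `Q ≠ ⊥` the block `f` is nilpotent of rank one;
* `blockRank_of_nilpotent`, `rank_one_iff`.
-/

set_option autoImplicit false
set_option maxHeartbeats 1000000
set_option linter.unusedSectionVars false

namespace Cfsg.Agent.CycDefect

open Cfsg Cfsg.Agent.Blocks Cfsg.Agent.BrauerPairs Cfsg.Agent.LocalRank

variable {G : Type*} [Group G] [Finite G] {p : ℕ} [Fact p.Prime] {M : Ideal AlgInt}

/-- The rank of a nilpotent block with abelian defect group is one. -/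
theorem blockRank_of_nilpotent (hM : IsPModular p M) {B : Set (IrrCharacter G)} {P : Subgroup G}
    (hnil : IsNilpotentBlock p M B) (hP : IsDefectGroup p M B P) : blockRank p B = 1 := by
  classical
  obtain ⟨χ, hχ, -, Ψ, hΨ⟩ := Star.nilpotent_summary hM hnil hP
  have hspan : Submodule.span ℂ ((fun χ : IrrCharacter G => pRegularPart p (χ : G → ℂ)) '' B) =
      Submodule.span ℂ {pRegularPart p (χ : G → ℂ)} := by
    refine le_antisymm (Submodule.span_le.2 ?_) (Submodule.span_mono (Set.singleton_subset_iff.2 ⟨χ, hχ, rfl⟩))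
    rintro _ ⟨ψ, hψ, rfl⟩
    refine Submodule.mem_span_singleton.2 ⟨(charDegree ((Ψ.symm ⟨ψ, hψ⟩ : IrrCharacter P) : P → ℂ) : ℂ),
      funext fun s => ?_⟩
    have h := (hΨ (Ψ.symm ⟨ψ, hψ⟩)).2 s
    rw [Ψ.apply_symm_apply] at h
    simpa using h.symm
  rw [blockRank, hspan, finrank_span_singleton]
  intro h0
  have h1 := congrFun h0 1
  rw [SecondMain.pRegularPart_of_regular (by rw [orderOf_one]; exact (Fact.out : p.Prime).not_dvd_one)] at h1
  exact irr_one_ne_zero χ h1

variable {B : Set (IrrCharacter G)} {D : Subgroup G}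
  {eD : Set (IrrCharacter (Subgroup.centralizer (D : Set G)))}

theorem comm_of_cyclic (hcyc : IsCyclic D) : ∀ x ∈ D, ∀ y ∈ D, x * y = y * x := fun x hx y hy => by
  have := hcyc.isMulCommutative
  exact congrArg Subtype.val (mul_comm' (⟨x, hx⟩ : D) ⟨y, hy⟩)

theorem le_centralizer_self (hcyc : IsCyclic D) : D ≤ Subgroup.centralizer (D : Set G) :=
  fun x hx => Subgroup.mem_centralizer_iff.2 fun y hy => comm_of_cyclic hcyc y hy x hx

theorem normalizer_le_of_le (hcyc : IsCyclic D) {Q : Subgroup G} (hQ : Q ≤ D) :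
    Subgroup.normalizer (D : Set G) ≤ Subgroup.normalizer (Q : Set G) := by
  obtain ⟨u, hu⟩ := hcyc.exists_generator
  intro g hg
  have key : ∀ g ∈ Subgroup.normalizer (D : Set G), ∀ x ∈ Q, g * x * g⁻¹ ∈ Q := by
    intro g hg x hx
    obtain ⟨a, ha⟩ := exists_conj_eq_zpow hu hg
    obtain ⟨z, hz⟩ := Subgroup.mem_zpowers_iff.1 (hu ⟨x, hQ hx⟩)
    have hzu : (u : G) ^ z = x := by rw [← Subgroup.coe_zpow, hz]
    have : g * x * g⁻¹ = x ^ a := by
      rw [← hzu, ← conj_zpow, ha, ← zpow_mul, ← zpow_mul, mul_comm]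
    exact this ▸ Q.zpow_mem hx a
  rw [Subgroup.mem_normalizer_iff]
  refine fun x => ⟨key g hg x, fun h => ?_⟩
  simpa [mul_assoc] using key g⁻¹ (inv_mem hg) _ h

section pair

variable (hM : IsPModular p M) (hmax : IsMaximalBrauerPair p M B D eD) (hcyc : IsCyclic D)
include hM hmax hcyc

/-- The inertial quotient acts freely on `D`. -/
theorem free {g : G} (hg : g ∈ pairStab M D eD) {x : G} (hx : x ∈ D) (hx1 : x ≠ 1)
    (hfix : g * x * g⁻¹ = x) : g ∈ Subgroup.centralizer (D : Set G) := by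
  have hPC := le_centralizer_self hcyc
  obtain ⟨F, hF, hFeq, -⟩ := exists_block_pairStab hM hmax.1.1
  have hnd := not_dvd_local_index hM hmax.1.1.2 (pairStab_le_normalizer D eD)
    (centralizer_le_pairStab hM D eD) hF hFeq (defect_pairStab_top hM hmax hF hFeq)
  have hle : (D ⊓ pairStab M D eD).subgroupOf (pairStab M D eD) ≤
      (Subgroup.centralizer (D : Set G)).subgroupOf (pairStab M D eD) := fun z hz => hPC hz.1
  rw [sup_eq_right.2 hle] at hnd
  have hN : ((Subgroup.centralizer (D : Set G)).subgroupOf (pairStab M D eD)).Normal :=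
    ⟨fun n hn t => (Subgroup.mem_normalizer_iff.1
      (mem_normalizer_centralizer (pairStab_le_normalizer D eD t.2)) _).1 hn⟩
  obtain ⟨k, hk⟩ := exists_pow_mem_centralizer_of_fix hmax.1.1.1 hcyc
    (pairStab_le_normalizer D eD hg) hx hx1 hfix
  have hm : g ^ ((Subgroup.centralizer (D : Set G)).subgroupOf (pairStab M D eD)).index ∈
      Subgroup.centralizer (D : Set G) := Subgroup.pow_index_mem
        ((Subgroup.centralizer (D : Set G)).subgroupOf (pairStab M D eD))
        (⟨g, hg⟩ : pairStab M D eD)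
  have h := Nat.gcd_eq_gcd_ab (p ^ k)
    ((Subgroup.centralizer (D : Set G)).subgroupOf (pairStab M D eD)).index
  rw [(Nat.Coprime.pow_left k ((Fact.out : p.Prime).coprime_iff_not_dvd.2 hnd)).gcd_eq_one] at h
  rw [← zpow_one g, show (1 : ℤ) = _ from h, zpow_add, zpow_mul, zpow_mul, zpow_natCast,
    zpow_natCast]
  exact mul_mem (zpow_mem hk _) (zpow_mem hm _)

theorem normal_centralizer :
    ((Subgroup.centralizer (D : Set G)).subgroupOf (pairStab M D eD)).Normal :=
  ⟨fun _ hn t => (Subgroup.mem_normalizer_iff.1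
    (mem_normalizer_centralizer (pairStab_le_normalizer D eD t.2)) _).1 hn⟩

theorem cyclic_quotient (hD1 : D ≠ ⊥) :
    haveI := normal_centralizer hM hmax hcyc
    IsCyclic (pairStab M D eD ⧸ (Subgroup.centralizer (D : Set G)).subgroupOf (pairStab M D eD)) :=
  haveI := normal_centralizer hM hmax hcyc
  (cyclic_quotient_of_free hmax.1.1.1 hcyc hD1 (pairStab_le_normalizer D eD)
    fun _ hg _ hx hx1 hfix => free hM hmax hcyc hg hx hx1 hfix).1

theorem relIndex_dvd (hD1 : D ≠ ⊥) :
    (Subgroup.centralizer (D : Set G)).relIndex (pairStab M D eD) ∣ p - 1 :=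
  haveI := normal_centralizer hM hmax hcyc
  (cyclic_quotient_of_free hmax.1.1.1 hcyc hD1 (pairStab_le_normalizer D eD)
    fun _ hg _ hx hx1 hfix => free hM hmax hcyc hg hx hx1 hfix).2

variable {Q : Subgroup G} (hQ : Q ≤ D)
  {f : Set (IrrCharacter (Subgroup.centralizer (Q : Set G)))} (hf : IsPBlock M f)
  (hle : SubpairLE p M Q f D eD)
include hQ hf hle

/-- The pair `(D, eD)` seen inside `C(Q)`. -/
theorem exists_local :
    ∃ (P' : Subgroup (Subgroup.centralizer (Q : Set G)))
      (e' : Set (IrrCharacter (Subgroup.centralizer (P' : Set (Subgroup.centralizer (Q : Set G)))))),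
      IsMaximalBrauerPair p M f P' e' ∧ P'.map (Subgroup.centralizer (Q : Set G)).subtype = D ∧
      IsCyclic P' ∧
      ∀ x : Subgroup.centralizer (Q : Set G), x ∈ pairStab M P' e' ↔ (x : G) ∈ pairStab M D eD := by
  obtain ⟨P', e', h1, h2, h3, -⟩ := Watanabe.exists_down hM hmax (comm_of_cyclic hcyc) hQ hf hle
  subst h2
  exact ⟨P', e', h1, rfl, isCyclic_of_injective
    (Subgroup.equivMapOfInjective P' _ (Subgroup.subtype_injective _)).toMonoidHom
    (MulEquiv.injective _), h3⟩

/-- The stabiliser of the pair at `Q` is `C(Q) T`. -/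
theorem mem_pairStab_local_iff {x : G} :
    x ∈ pairStab M Q f ↔ ∃ c ∈ Subgroup.centralizer (Q : Set G), c * x ∈ pairStab M D eD := by
  refine ⟨abelian_decomp hM hmax (comm_of_cyclic hcyc) hf hle, ?_⟩
  rintro ⟨c, hc, hcx⟩
  have h := inf_normalizer_le_pairStab hM hmax.1.1 hf hle hcx
    (normalizer_le_of_le hcyc hQ (pairStab_le_normalizer D eD hcx))
  simpa using mul_mem (inv_mem (centralizer_le_pairStab hM Q f hc)) h

theorem le_pairStab_local : pairStab M D eD ≤ pairStab M Q f := fun x hx =>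
  (mem_pairStab_local_iff hM hmax hcyc hQ hf hle).2 ⟨1, one_mem _, by rwa [one_mul]⟩

theorem pairStab_local_eq :
    pairStab M Q f = pairStab M D eD ⊔ Subgroup.centralizer (Q : Set G) := by
  refine le_antisymm (fun x hx => ?_)
    (sup_le (le_pairStab_local hM hmax hcyc hQ hf hle) (centralizer_le_pairStab hM Q f))
  obtain ⟨c, hc, hcx⟩ := (mem_pairStab_local_iff hM hmax hcyc hQ hf hle).1 hx
  have := mul_mem (inv_mem (Subgroup.mem_sup_right (S := pairStab M D eD) hc))
    (Subgroup.mem_sup_left (T := Subgroup.centralizer (Q : Set G)) hcx)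
  rwa [inv_mul_cancel_left] at this

theorem relIndex_local (hQ1 : Q ≠ ⊥) :
    (Subgroup.centralizer (Q : Set G)).relIndex (pairStab M Q f) =
      (Subgroup.centralizer (D : Set G)).relIndex (pairStab M D eD) := by
  set C := Subgroup.centralizer (Q : Set G)
  set T := pairStab M D eD
  have hNC : T ≤ Subgroup.normalizer (C : Set G) := fun t ht =>
    mem_normalizer_centralizer (normalizer_le_of_le hcyc hQ (pairStab_le_normalizer D eD ht))
  have hinf : C ⊓ T = Subgroup.centralizer (D : Set G) := by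
    refine le_antisymm ?_ (le_inf (Subgroup.centralizer_le hQ) (centralizer_le_pairStab hM D eD))
    rintro g ⟨hgC, hgT⟩
    obtain ⟨x, hx, hx1⟩ := Q.bot_or_exists_ne_one.resolve_left hQ1
    refine free hM hmax hcyc hgT (hQ hx) hx1 ?_
    rw [← Subgroup.mem_centralizer_iff.1 hgC x hx, mul_inv_cancel_right]
  rw [pairStab_local_eq hM hmax hcyc hQ hf hle]
  show C.relIndex (T ⊔ C) = (Subgroup.centralizer (D : Set G)).relIndex T
  have hN : (C.subgroupOf (T ⊔ C)).Normal :=
    Subgroup.normal_subgroupOf_iff_le_normalizer le_sup_right |>.2 (sup_le hNC Subgroup.le_normalizer)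
  rw [← hinf, Subgroup.inf_relIndex_right,
    ← Subgroup.relIndex_subgroupOf (le_refl (T ⊔ C)) (H := C),
    ← Subgroup.relIndex_subgroupOf (le_sup_left : T ≤ T ⊔ C) (H := C),
    ← Subgroup.relIndex_sup_right (T.subgroupOf (T ⊔ C)) (C.subgroupOf (T ⊔ C)),
    ← Subgroup.subgroupOf_sup le_sup_left le_sup_right]

/-- The blocks at the nontrivial subgroups are nilpotent. -/
theorem nilpotent_local (hQ1 : Q ≠ ⊥) : IsNilpotentBlock p M f := by
  have := Fintype.ofFinite (Subgroup.centralizer (Q : Set G))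
  obtain ⟨P', e', hmax', rfl, hcyc', hst⟩ := exists_local hM hmax hcyc hQ hf hle
  rw [S4687.result p M hM f P' e' hmax' (comm_of_cyclic hcyc')]
  intro g hgN hgst
  have hg : (g : G) ∈ pairStab M _ eD := (hst g).1 ((mem_pairStab_iff hM hmax'.1.1.2).2 ⟨hgN, hgst⟩)
  obtain ⟨x, hx, hx1⟩ := Q.bot_or_exists_ne_one.resolve_left hQ1
  refine (mem_centralizer_sub_iff P' g).2 (free hM hmax hcyc hg (hQ hx) hx1 ?_)
  rw [← Subgroup.mem_centralizer_iff.1 g.2 x hx, mul_inv_cancel_right]

theorem blockRank_local (hQ1 : Q ≠ ⊥) : blockRank p f = 1 := by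
  obtain ⟨P', e', hmax', -, -, -⟩ := exists_local hM hmax hcyc hQ hf hle
  exact blockRank_of_nilpotent hM (nilpotent_local hM hmax hcyc hQ hf hle hQ1)
    (maximal_isDefectGroup hM hmax')

end pair

end Cfsg.Agent.CycDefect
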