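import Cfsg.Agent.Lib.CyclicDefect.Lower
import Cfsg.Agent.Lib.BrauerPairs.GroupRing
import Cfsg.Agent.Lib.BrauerPairs.Transport

/-!
# Small facts on representations and group algebras

`conjRep` (transport of structure), `finModel`, `funEl` (linear functionals as elements),
`exists_idem_of_image`, `exists_asAlgebraHom_eq` (density).
-/

set_option autoImplicit false
set_option linter.unusedSectionVars false
set_option linter.style.haveILetI false

namespace Cfsg.Agent.CycDefect

open Representation

variable {k : Type*} [Field k] {K : Type*} [Group K]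

/-- Transport of a representation along a linear equivalence. -/
noncomputable def conjRep {V W : Type*} [AddCommGroup V] [Module k V] [AddCommGroup W] [Module k W]
    (ρ : Representation k K V) (e : V ≃ₗ[k] W) : Representation k K W where
  toFun g := e.conj (ρ g)
  map_one' := by rw [map_one]; exact e.conj_id
  map_mul' g h := by rw [map_mul]; exact e.conj_comp (ρ h) (ρ g)

theorem conjRep_asAlgebraHom {V W : Type*} [AddCommGroup V] [Module k V] [AddCommGroup W]
    [Module k W] (ρ : Representation k K V) (e : V ≃ₗ[k] W) (x : MonoidAlgebra k K) :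
    (conjRep ρ e).asAlgebraHom x = e.conj (ρ.asAlgebraHom x) := by
  induction x using MonoidAlgebra.induction_linear with
  | zero => simp
  | add a b ha hb => simp [map_add, ha, hb]
  | single g t => simp [Representation.asAlgebraHom_single, conjRep, map_smul]

theorem conjRep_irreducible {V W : Type*} [AddCommGroup V] [Module k V] [AddCommGroup W]
    [Module k W] (ρ : Representation k K V) (e : V ≃ₗ[k] W) [hρ : ρ.IsIrreducible] :
    (conjRep ρ e).IsIrreducible := by
  refine (OrderIso.isSimpleOrder_iff (β := Subrepresentation (conjRep ρ e)) ?_).1 hρ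
  exact
  { toFun := fun T => ⟨T.toSubmodule.map e.toLinearMap, fun g v hv => by
      obtain ⟨t, ht, rfl⟩ := hv
      exact ⟨ρ g t, T.apply_mem_toSubmodule g ht, (LinearEquiv.conj_apply_apply e _ _).trans
        (by simp) |>.symm⟩⟩
    invFun := fun T => ⟨T.toSubmodule.comap e.toLinearMap, fun g v hv => by
      have := T.apply_mem_toSubmodule g hv
      simpa [conjRep, LinearEquiv.conj_apply_apply] using this⟩
    left_inv := fun T => Subrepresentation.toSubmodule_injective
      (Submodule.comap_map_eq_of_injective e.injective _)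
    right_inv := fun T => Subrepresentation.toSubmodule_injective
      (Submodule.map_comap_eq_of_surjective e.surjective _)
    map_rel_iff' := fun {S T} =>
      Submodule.map_le_map_iff_of_injective (f := e.toLinearMap) e.injective _ _ }

/-- The model on coordinate vectors. -/
noncomputable def finModel {V : Type*} [AddCommGroup V] [Module k V] [FiniteDimensional k V]
    (ρ : Representation k K V) : Representation k K (Fin (Module.finrank k V) → k) :=
  conjRep ρ (Module.finBasis k V).equivFun

theorem cj_asAlgebraHom {V : Type*} [AddCommGroup V] [Module k V] (ρ : Representation k K V)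
    (g : K) (x : MonoidAlgebra k K) :
    ρ.asAlgebraHom (BrauerPairs.cj g x) = ρ g * ρ.asAlgebraHom x * ρ g⁻¹ := by
  induction x using MonoidAlgebra.induction_linear with
  | zero => simp
  | add a b ha hb => simp [map_add, ha, hb, mul_add, add_mul]
  | single h t =>
    rw [BrauerPairs.cj_single, asAlgebraHom_single, asAlgebraHom_single, map_mul, map_mul,
      mul_smul_comm, smul_mul_assoc]

theorem asAlgebraHom_comm_of_fixed [Finite K] {V : Type*} [AddCommGroup V] [Module k V]
    (ρ : Representation k K V) {z : MonoidAlgebra k K} (hz : BrauerPairs.Fixed ⊤ z) (g : K) :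
    ρ g * ρ.asAlgebraHom z = ρ.asAlgebraHom z * ρ g := by
  conv_rhs => rw [← hz g (Subgroup.mem_top g), cj_asAlgebraHom, mul_assoc, ← map_mul,
    inv_mul_cancel, map_one, mul_one]

/-- A central idempotent is `0` or `1` on a simple module, a central nilpotent is `0`. -/
theorem central_scalar [Finite K] [IsAlgClosed k] {V : Type*} [AddCommGroup V] [Module k V]
    [FiniteDimensional k V] (ρ : Representation k K V) [ρ.IsIrreducible] {z : MonoidAlgebra k K}
    (hz : BrauerPairs.Fixed ⊤ z) : ∃ c : k, ρ.asAlgebraHom z = c • 1 := by
  obtain ⟨c, hc⟩ := ModRep.exists_scalar ρ (ρ.asAlgebraHom z) fun g v =>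
    (LinearMap.congr_fun (asAlgebraHom_comm_of_fixed ρ hz g) v).symm
  exact ⟨c, LinearMap.ext fun v => by simpa using hc v⟩

/-- Density: the group algebra maps onto the endomorphisms of a simple module. -/
theorem exists_asAlgebraHom_eq [IsAlgClosed k] {V : Type*} [AddCommGroup V] [Module k V]
    [FiniteDimensional k V] (ρ : Representation k K V) [ρ.IsIrreducible] (f : Module.End k V) :
    ∃ r : MonoidAlgebra k K, ρ.asAlgebraHom r = f := by
  classical
  let A := MonoidAlgebra k K
  let N := ρ.asModule
  have hcomp : ∀ (φ : Module.End A N) (v : N), φ (f v) = f (φ v) := by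
    intro φ v
    obtain ⟨s, hs⟩ := ModRep.exists_scalar ρ
      ((IntertwiningMap.equivLinearMapAsModule ρ ρ).symm φ).toLinearMap
      (fun g w => LinearMap.congr_fun
        (((IntertwiningMap.equivLinearMapAsModule ρ ρ).symm φ).isIntertwining' g) w)
    have hφ : ∀ w : N, φ w = (s • (show V from w) : V) := fun w => hs w
    refine (hφ (f v)).trans ?_
    exact ((congrArg f (hφ v)).trans (map_smul f s (v : V))).symm
  let FL : Module.End (Module.End A N) N :=
    { toFun := fun v => f v
      map_add' := fun a b => map_add f a b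
      map_smul' := fun φ v => (hcomp φ v).symm }
  obtain ⟨r, hr⟩ := jacobson_density (R := A) FL
    (Finset.univ.image fun i => (Module.finBasis k V i : N))
  refine ⟨r, (Module.finBasis k V).ext fun i => ?_⟩
  exact (hr _ (Finset.mem_image_of_mem _ (Finset.mem_univ i))).symm

/-- The element attached to a linear functional on the group algebra. -/
noncomputable def funEl [Finite K] (L : MonoidAlgebra k K →ₗ[k] k) : MonoidAlgebra k K :=
  MonoidAlgebra.ofCoeff (Finsupp.equivFunOnFinite.symm fun g => L (MonoidAlgebra.single g⁻¹ 1))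

theorem coeff_funEl [Finite K] (L : MonoidAlgebra k K →ₗ[k] k) (g : K) :
    (funEl L).coeff g = L (MonoidAlgebra.single g⁻¹ 1) := by simp [funEl]

theorem coeff_funEl_mul [Fintype K] (L : MonoidAlgebra k K →ₗ[k] k) (a : MonoidAlgebra k K)
    (g : K) : (funEl L * a).coeff g = L (a * MonoidAlgebra.single g⁻¹ 1) := by
  classical
  rw [BrauerPairs.coeff_mul_eq_sum]
  simp only [coeff_funEl]
  have ha : a = ∑ w, a.coeff w • MonoidAlgebra.single w (1 : k) := by
    ext x
    simp [MonoidAlgebra.coeff_sum]
  conv_rhs => rw [ha, Finset.sum_mul, map_sum]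
  refine Fintype.sum_equiv (((Equiv.inv K).trans (Equiv.mulRight g))) _ _ fun y => ?_
  simp only [Equiv.trans_apply, Equiv.inv_apply, Equiv.coe_mulRight, smul_mul_assoc, map_smul,
    MonoidAlgebra.single_mul_single, mul_inv_cancel_right, mul_one, smul_eq_mul]
  rw [mul_comm]

theorem fixed_funEl [Finite K] (L : MonoidAlgebra k K →ₗ[k] k)
    (hL : ∀ x y, L (x * y) = L (y * x)) : BrauerPairs.Fixed ⊤ (funEl L) := by
  intro u _
  ext x
  rw [BrauerPairs.coeff_cj, coeff_funEl, coeff_funEl]
  rw [show (u⁻¹ * x * u)⁻¹ = u⁻¹ * x⁻¹ * u by group,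
    show MonoidAlgebra.single (u⁻¹ * x⁻¹ * u) (1 : k) =
      MonoidAlgebra.single (u⁻¹ * x⁻¹) 1 * MonoidAlgebra.single u 1 by
        rw [MonoidAlgebra.single_mul_single, one_mul],
    hL, MonoidAlgebra.single_mul_single, one_mul, mul_inv_cancel_left]

theorem funEl_injective [Finite K] {L L' : MonoidAlgebra k K →ₗ[k] k}
    (h : funEl L = funEl L') : L = L' := by
  refine LinearMap.ext fun x => ?_
  induction x using MonoidAlgebra.induction_linear with
  | zero => simp
  | add a b ha hb => simp [map_add, ha, hb]
  | single g t =>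
    have := congrArg (fun z : MonoidAlgebra k K => z.coeff g⁻¹) h
    simp only [coeff_funEl, inv_inv] at this
    rw [show MonoidAlgebra.single g t = t • MonoidAlgebra.single g (1 : k) by simp, map_smul,
      map_smul, this]

theorem funEl_smul [Finite K] (c : k) (L : MonoidAlgebra k K →ₗ[k] k) :
    funEl (c • L) = c • funEl L := by
  ext g
  simp [coeff_funEl]

theorem aeval_mul_idem {A : Type*} [Ring A] [Algebra k A] {E : A} (hE : E * E = E)
    (q : Polynomial k) : Polynomial.aeval E q * E = q.eval 1 • E := by
  induction q using Polynomial.induction_on' with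
  | add a b ha hb => simp [add_mul, ha, hb, add_smul]
  | monomial n c =>
    rw [Polynomial.aeval_monomial, Polynomial.eval_monomial, one_pow, mul_one, mul_assoc,
      ← Algebra.smul_def, ← pow_succ, (show IsIdempotentElem E from hE).pow_succ_eq]

/-- An idempotent over a prescribed idempotent image, inside the ideal of a central idempotent. -/
theorem exists_idem_of_image {A B : Type*} [Ring A] [Algebra k A] [FiniteDimensional k A] [Ring B]
    [Algebra k B] (F : A →ₐ[k] B) {a bb : A} (hab : a * bb = a) {E : B} (hE : E * E = E)
    (hFa : F a = E) : ∃ f : A, f * f = f ∧ f * bb = f ∧ F f = E := by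
  classical
  have hint : IsIntegral k a := IsIntegral.of_finite k a
  have hμ0 := minpoly.ne_zero hint
  obtain ⟨h, hh, hnd⟩ := Polynomial.exists_eq_pow_rootMultiplicity_mul_and_not_dvd _ hμ0 (0 : k)
  rw [map_zero, sub_zero] at hh hnd
  set m := Polynomial.rootMultiplicity (0 : k) (minpoly k a)
  obtain ⟨u, v, huv⟩ : IsCoprime ((Polynomial.X : Polynomial k) ^ (m + 1)) h :=
    ((Polynomial.irreducible_X.coprime_iff_not_dvd).2 hnd).pow_left
  have h0 : Polynomial.aeval a ((Polynomial.X : Polynomial k) ^ m * h) = 0 := by
    rw [← hh, minpoly.aeval]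
  set f := Polynomial.aeval a (u * Polynomial.X ^ (m + 1)) with hf
  have hff : f * f = f := by
    have e : (u * Polynomial.X ^ (m + 1)) * (u * Polynomial.X ^ (m + 1)) =
        u * Polynomial.X ^ (m + 1) - u * v * Polynomial.X * (Polynomial.X ^ m * h) := by
      linear_combination (u * Polynomial.X ^ (m + 1)) * huv
    rw [hf, ← map_mul, e, map_sub, map_mul _ _ ((Polynomial.X : Polynomial k) ^ m * h), h0,
      mul_zero, sub_zero]
  have hpow : ∀ i : ℕ, E ^ (i + 1) = E := fun i => (show IsIdempotentElem E from hE).pow_succ_eq i
  refine ⟨f, hff, ?_, ?_⟩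
  · rw [hf, map_mul, map_pow, Polynomial.aeval_X, pow_succ, mul_assoc, mul_assoc, hab, ← pow_succ]
  · have hFf : F f = u.eval 1 • E := by
      rw [hf, ← Polynomial.aeval_algHom_apply, hFa, map_mul, map_pow, Polynomial.aeval_X, hpow,
        aeval_mul_idem hE]
    have h1 : F (a ^ (m + 1) * (1 - f)) = 0 := by
      have e : (Polynomial.X : Polynomial k) ^ (m + 1) * (1 - u * Polynomial.X ^ (m + 1)) =
          (Polynomial.X * v) * (Polynomial.X ^ m * h) := by
        linear_combination (-(Polynomial.X : Polynomial k) ^ (m + 1)) * huv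
      have : a ^ (m + 1) * (1 - f) = 0 := by
        have := congrArg (Polynomial.aeval a) e
        rw [map_mul, map_pow, Polynomial.aeval_X, map_sub, map_one, ← hf,
          map_mul _ (Polynomial.X * v), h0, mul_zero] at this
        exact this
      rw [this, map_zero]
    rw [map_mul, map_pow, hFa, hpow, map_sub, map_one, mul_sub, mul_one, hFf, mul_smul_comm, hE,
      sub_eq_zero] at h1
    rw [hFf, ← h1]

end Cfsg.Agent.CycDefect
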