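import Cfsg.Agent.Lib.CycDefect.Structure
import Cfsg.Agent.Lib.BrauerPairs.InducedPairs

/-!
# From induced blocks to maximal pairs
-/

set_option autoImplicit false
set_option linter.unusedSectionVars false

namespace Cfsg.Agent.CycDefect

open Cfsg Cfsg.Agent.Blocks Cfsg.Agent.BrauerPairs

variable {G : Type*} [Group G] [Finite G] {p : ℕ} [Fact p.Prime] {M : Ideal AlgInt}

theorem isMaximal_of_induced (hM : IsPModular p M) {B : Set (IrrCharacter G)} {D : Subgroup G}
    (hcyc : IsCyclic D) (hBD : IsDefectGroup p M B D)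
    {b : Set (IrrCharacter (Subgroup.centralizer (D : Set G)))}
    (hind : IsInducedBlock M (Subgroup.centralizer (D : Set G)) b B) :
    IsMaximalBrauerPair p M B D b :=
  isMaximal_of_isDefectGroup hM
    (isBrauerPairOf_of_induced hM (isPGroup_defectGroup hM hBD) (le_centralizer_self hcyc) hind) hBD

theorem eq_pairStab (hM : IsPModular p M) {D : Subgroup G}
    {b : Set (IrrCharacter (Subgroup.centralizer (D : Set G)))} (hb : IsPBlock M b) {T : Subgroup G}
    (hT : ∀ g : G, g ∈ T ↔ (g ∈ Subgroup.normalizer (D : Set G) ∧ ∀ θ ∈ b,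
      ∀ θ' : IrrCharacter (Subgroup.centralizer (D : Set G)),
        (∀ h h' : Subgroup.centralizer (D : Set G), (h' : G) = g * h * g⁻¹ →
          (θ' : Subgroup.centralizer (D : Set G) → ℂ) h' =
            (θ : Subgroup.centralizer (D : Set G) → ℂ) h) → θ' ∈ b)) :
    T = pairStab M D b := by
  ext g
  rw [hT g, mem_pairStab_iff hM hb]
  refine and_congr_right fun hg => ?_
  have hgC := mem_normalizer_centralizer hg
  constructor
  · intro h
    refine ⟨hgC, fun χ hχ => ?_⟩
    set ξ := pullIrr (conjEquiv _ _ g (mem_normalizer_iff_conj hgC)).symm χ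
    have hξ : IsConjCharOf (Subgroup.centralizer (D : Set G)) g
        (χ : Subgroup.centralizer (D : Set G) → ℂ) (ξ : Subgroup.centralizer (D : Set G) → ℂ) := by
      intro k k' hk
      rw [pullIrr_apply]
      exact congrArg _ ((MulEquiv.symm_apply_eq _).2 (Subtype.ext hk))
    exact ⟨ξ, h χ hχ ξ hξ, hξ⟩
  · intro h θ hθ θ' hθ'
    obtain ⟨χ', hχ', hconj⟩ := h.2 θ hθ
    have : θ' = χ' := by
      refine Subtype.ext (funext fun k => ?_)
      have hk : g⁻¹ * (k : G) * g ∈ Subgroup.centralizer (D : Set G) := by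
        simpa using (Subgroup.mem_normalizer_iff.1 (inv_mem hgC) (k : G)).1 k.2
      have e : (k : G) = g * ((⟨_, hk⟩ : Subgroup.centralizer (D : Set G)) : G) * g⁻¹ := by
        show (k : G) = g * (g⁻¹ * (k : G) * g) * g⁻¹
        group
      rw [hθ' _ k e, hconj _ k e]
    exact this ▸ hχ'

theorem ne_bot_of_card {D : Subgroup G} {a : ℕ} (ha : 1 ≤ a) (hDa : Nat.card D = p ^ a) : D ≠ ⊥ := by
  intro h
  have h1 : Nat.card D = 1 := by rw [h]; exact Subgroup.card_bot
  rw [hDa, Nat.pow_eq_one] at h1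
  rcases h1 with h1 | h1
  · exact (Fact.out : p.Prime).one_lt.ne' h1
  · omega

end Cfsg.Agent.CycDefect
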