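import Cfsg.Agent.Lib.Star.Prim
import Cfsg.Agent.Lib.SecondMain.Sections

/-!
# A block algebra with Brauer image `k[u] * ce`

If the fixed elements `x` with `x * bb = x` form a space of dimension at most `|P|` (`P = ⟨u⟩`),
`br P bb * ce = ce` and some fixed `w` has `br P w * ce = u * ce`, then this space is spanned by the
powers of `π = (w - 1) * bb` and the annihilator of `π` there is at most one-dimensional.
-/

set_option autoImplicit false
set_option maxHeartbeats 1000000
set_option linter.unusedSectionVars false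
set_option linter.style.haveILetI false

namespace Cfsg.Agent.CycDefect

open Cfsg Cfsg.Agent.Blocks Cfsg.Agent.BrauerPairs Cfsg.Agent.Star

variable {G : Type*} [Group G] {k : Type*} [Field k]

/-- The invariant elements of the ideal of `bb`. -/
def fixedIdeal (bb : MonoidAlgebra k G) : Submodule k (MonoidAlgebra k G) where
  carrier := {x | Fixed ⊤ x ∧ x * bb = x}
  add_mem' := fun {x y} hx hy => ⟨hx.1.add hy.1, by rw [add_mul, hx.2, hy.2]⟩
  zero_mem' := ⟨fixed_zero, zero_mul _⟩
  smul_mem' := fun c x hx => ⟨fixed_smul hx.1 c, by rw [smul_mul_assoc, hx.2]⟩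

theorem mem_fixedIdeal {bb x : MonoidAlgebra k G} :
    x ∈ fixedIdeal bb ↔ Fixed ⊤ x ∧ x * bb = x := Iff.rfl

theorem br_smul (P : Subgroup G) (c : k) (a : MonoidAlgebra k G) :
    br P (c • a) = c • br P a := by
  classical
  ext x
  simp only [coeff_br, MonoidAlgebra.coeff_smul, Finsupp.smul_apply]
  split_ifs <;> simp

/-- The Brauer map followed by multiplication with `ce`. -/
noncomputable def brMul (P : Subgroup G) (ce : MonoidAlgebra k G) :
    MonoidAlgebra k G →ₗ[k] MonoidAlgebra k G where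
  toFun a := br P a * ce
  map_add' a c := by rw [br_add, add_mul]
  map_smul' c a := by rw [br_smul, smul_mul_assoc]; rfl

theorem brMul_apply (P : Subgroup G) (ce a : MonoidAlgebra k G) : brMul P ce a = br P a * ce := rfl

variable {p : ℕ} [Fact p.Prime] [CharP k p] [Finite G]

theorem brMul_mul {P : Subgroup G} (hP : IsPGroup p P) {ce : MonoidAlgebra k G}
    (hs : SuppIn (Subgroup.centralizer (P : Set G)) ce) (hcc : ce * ce = ce)
    (hN : Subgroup.centralizer (P : Set G) ≤ Subgroup.normalizer (P : Set G))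
    {a c : MonoidAlgebra k G} (ha : Fixed ⊤ a) (hc : Fixed ⊤ c) :
    brMul P ce (a * c) = brMul P ce a * brMul P ce c := by
  have := Fintype.ofFinite G
  have hcom : br P c * ce = ce * br P c := (Fixed.br (hc.mono le_top) hN).commute hs
  rw [brMul_apply, brMul_apply, brMul_apply, br_mul (p := p) hP (ha.mono le_top) (hc.mono le_top),
    mul_assoc, mul_assoc (br P a), ← mul_assoc ce, ← hcom, mul_assoc (br P c), hcc]

theorem independent_pow_mul {P : Subgroup G} (hP : IsPGroup p P) {u : G} (huP : u ∈ P)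
    {ce : MonoidAlgebra k G} (hs : SuppIn (Subgroup.centralizer (P : Set G)) ce) (hne : ce ≠ 0)
    (hreg : ∀ x, ce.coeff x ≠ 0 → ¬ p ∣ orderOf x) :
    LinearIndependent k fun i : Fin (orderOf u) => MonoidAlgebra.single u (1 : k) ^ (i : ℕ) * ce := by
  classical
  have hcoeff : ∀ (i : ℕ) (x : G),
      (MonoidAlgebra.single u (1 : k) ^ i * ce).coeff (u ^ i * x) = ce.coeff x := fun i x => by
    rw [MonoidAlgebra.single_pow, one_pow, MonoidAlgebra.coeff_single_mul_mul, one_mul]
  obtain ⟨x₀, hx₀⟩ : ∃ x, ce.coeff x ≠ 0 := by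
    by_contra hno
    push Not at hno
    exact hne (MonoidAlgebra.coeff_injective (Finsupp.ext hno))
  have hord : ∀ i : ℕ, ∃ k, orderOf (u ^ i) = p ^ k := fun i => by
    obtain ⟨m, hm⟩ := IsPGroup.iff_orderOf.1 hP ⟨u ^ i, P.pow_mem huP i⟩
    exact ⟨m, by rwa [← Subgroup.orderOf_coe] at hm⟩
  have hcx : ∀ (i : ℕ) (x : G), ce.coeff x ≠ 0 → Commute (u ^ i) x := fun i x hx =>
    (show Commute u x from Subgroup.mem_centralizer_iff.1 (hs.mem_of_ne hx) u huP).pow_left i
  rw [Fintype.linearIndependent_iff]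
  intro c hc i
  have h := congrArg (fun z : MonoidAlgebra k G => z.coeff (u ^ (i : ℕ) * x₀)) hc
  simp only [MonoidAlgebra.coeff_sum, Finsupp.finsetSum_apply, MonoidAlgebra.coeff_smul,
    Finsupp.smul_apply, MonoidAlgebra.coeff_zero, Finsupp.zero_apply, smul_eq_mul] at h
  rw [Finset.sum_eq_single i, hcoeff] at h
  · exact (mul_eq_zero.1 h).resolve_right hx₀
  · intro j _ hji
    set y := (u ^ (j : ℕ))⁻¹ * (u ^ (i : ℕ) * x₀) with hy
    have e1 : (MonoidAlgebra.single u (1 : k) ^ (j : ℕ) * ce).coeff (u ^ (i : ℕ) * x₀) =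
        ce.coeff y := by
      rw [← hcoeff j y, hy, mul_inv_cancel_left]
    rw [e1]
    by_cases hy0 : ce.coeff y = 0
    · rw [hy0, mul_zero]
    exfalso
    have huniq := SecondMain.pPart_unique (p := p) (hord i) (hord j) (hreg x₀ hx₀) (hreg y hy0)
      (hcx i x₀ hx₀) (hcx j y hy0) (by rw [hy, mul_inv_cancel_left])
    exact hji (Fin.ext ((pow_injOn_Iio_orderOf i.2 j.2 huniq.1).symm))
  · exact fun h' => absurd (Finset.mem_univ _) h'

theorem exists_gen {P : Subgroup G} (hP : IsPGroup p P) {u : G} (huP : u ∈ P)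
    {ce : MonoidAlgebra k G} (hs : SuppIn (Subgroup.centralizer (P : Set G)) ce)
    (hcc : ce * ce = ce) (hne : ce ≠ 0) (hreg : ∀ x, ce.coeff x ≠ 0 → ¬ p ∣ orderOf x)
    (hN : Subgroup.centralizer (P : Set G) ≤ Subgroup.normalizer (P : Set G))
    {bb : MonoidAlgebra k G} (hbfix : Fixed ⊤ bb) (hbb : bb * bb = bb)
    (hbr : br P bb * ce = ce) {w : MonoidAlgebra k G} (hwfix : Fixed ⊤ w)
    (hw : br P w * ce = MonoidAlgebra.single u 1 * ce)
    (hdim : Module.finrank k (fixedIdeal bb) ≤ orderOf u) :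
    ∃ π : MonoidAlgebra k G, π ∈ fixedIdeal bb ∧ π ^ orderOf u * bb = 0 ∧
      (∀ x ∈ fixedIdeal bb, x ∈ Submodule.span k
        (Set.range fun i : Fin (orderOf u) => π ^ (i : ℕ) * bb)) ∧
      ∀ x ∈ fixedIdeal bb, ∀ y ∈ fixedIdeal bb, π * x = 0 → π * y = 0 → y ≠ 0 →
        ∃ c : k, x = c • y := by
  classical
  have := Fintype.ofFinite G
  set U : MonoidAlgebra k G := MonoidAlgebra.single u 1 with hU
  have hUce : ∀ i : ℕ, U ^ i * ce = ce * U ^ i := fun i => by
    refine Fixed.commute (H := Subgroup.centralizer (P : Set G)) (fun v hv => ?_) hs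
    have hc : Commute v (u ^ i) :=
      (show Commute v u from (Subgroup.mem_centralizer_iff.1 hv u huP).symm).pow_right i
    rw [hU, MonoidAlgebra.single_pow, one_pow, cj_single, hc.eq, mul_inv_cancel_right]
  have hψmul : ∀ a c, Fixed ⊤ a → Fixed ⊤ c →
      brMul P ce (a * c) = brMul P ce a * brMul P ce c := fun a c ha hc =>
    brMul_mul (p := p) hP hs hcc hN ha hc
  have hmulce : ∀ (a : MonoidAlgebra k G) (i : ℕ), a * ce * (U ^ i * ce) = a * U ^ i * ce := by
    intro a i
    rw [hUce i, mul_assoc a, ← mul_assoc ce, hcc, ← hUce i, ← mul_assoc]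
  have hpw : ∀ i : ℕ, w ^ i * bb ∈ fixedIdeal bb ∧ brMul P ce (w ^ i * bb) = U ^ i * ce := by
    intro i
    induction i with
    | zero =>
      rw [pow_zero, pow_zero, one_mul, one_mul]
      exact ⟨⟨hbfix, hbb⟩, hbr⟩
    | succ i ih =>
      have e1 : w ^ (i + 1) * bb = w * (w ^ i * bb) := by rw [pow_succ', mul_assoc]
      refine ⟨⟨?_, by rw [mul_assoc, hbb]⟩, ?_⟩
      · rw [e1]; exact hwfix.mul ih.1.1
      · rw [e1, hψmul _ _ hwfix ih.1.1, ih.2, brMul_apply, hw, hmulce, pow_succ']
  have hind : LinearIndependent k fun i : Fin (orderOf u) => U ^ (i : ℕ) * ce :=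
    independent_pow_mul hP huP hs hne hreg
  let vw : Fin (orderOf u) → fixedIdeal bb := fun i => ⟨_, (hpw i).1⟩
  have hindw : LinearIndependent k vw :=
    LinearIndependent.of_comp ((brMul P ce).comp (fixedIdeal bb).subtype) (by
      have hψvw : ((brMul P ce).comp (fixedIdeal bb).subtype) ∘ vw =
          fun i : Fin (orderOf u) => U ^ (i : ℕ) * ce := funext fun i => (hpw i).2
      rw [hψvw]; exact hind)
  have hspan : Submodule.span k (Set.range vw) = ⊤ := by
    refine Submodule.eq_top_of_finrank_eq (le_antisymm (Submodule.finrank_le _) ?_)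
    rw [finrank_span_eq_card hindw, Fintype.card_fin]
    exact hdim
  have hrep : ∀ x ∈ fixedIdeal bb, ∃ c : Fin (orderOf u) → k,
      x = ∑ i, c i • (w ^ (i : ℕ) * bb) := by
    intro x hx
    have hmem : (⟨x, hx⟩ : fixedIdeal bb) ∈ Submodule.span k (Set.range vw) :=
      hspan ▸ Submodule.mem_top
    obtain ⟨c, hc⟩ := (Submodule.mem_span_range_iff_exists_fun _).1 hmem
    exact ⟨c, by simpa [vw] using (congrArg Subtype.val hc).symm⟩
  have hψinj : ∀ x ∈ fixedIdeal bb, brMul P ce x = 0 → x = 0 := by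
    intro x hx h0
    obtain ⟨c, rfl⟩ := hrep x hx
    rw [map_sum] at h0
    simp only [map_smul, (hpw _).2] at h0
    exact Finset.sum_eq_zero fun i _ => by
      rw [Fintype.linearIndependent_iff.1 hind c h0 i, zero_smul]
  set π := (w - 1) * bb with hπ
  have hπ1 : π = w ^ 1 * bb - bb := by rw [hπ, sub_mul, one_mul, pow_one]
  have hπmem : π ∈ fixedIdeal bb := hπ1 ▸ sub_mem (hpw 1).1 ⟨hbfix, hbb⟩
  have hψπ : brMul P ce π = (U - 1) * ce := by
    rw [hπ1, map_sub, (hpw 1).2, pow_one, brMul_apply, hbr, sub_mul, one_mul]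
  have hU1ce : ∀ i : ℕ, (U - 1) ^ i * ce = ce * (U - 1) ^ i := fun i => by
    have h1 : Commute ce U := by
      have := hUce 1
      rw [pow_one] at this
      exact this.symm
    exact (((h1.sub_right (Commute.one_right ce))).pow_right i).symm.eq
  have hπpow : ∀ i : ℕ, π ^ i * bb ∈ fixedIdeal bb ∧
      brMul P ce (π ^ i * bb) = (U - 1) ^ i * ce := by
    intro i
    induction i with
    | zero =>
      rw [pow_zero, pow_zero, one_mul, one_mul]
      exact ⟨⟨hbfix, hbb⟩, hbr⟩
    | succ i ih =>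
      have e1 : π ^ (i + 1) * bb = π * (π ^ i * bb) := by rw [pow_succ', mul_assoc]
      refine ⟨⟨?_, by rw [mul_assoc, hbb]⟩, ?_⟩
      · rw [e1]; exact hπmem.1.mul ih.1.1
      · rw [e1, hψmul _ _ hπmem.1 ih.1.1, hψπ, ih.2, hU1ce i, mul_assoc (U - 1), ← mul_assoc ce,
          hcc, ← hU1ce i, ← mul_assoc, pow_succ']
  have hUn : U ^ orderOf u = 1 := by
    rw [hU, MonoidAlgebra.single_pow, one_pow, pow_orderOf_eq_one, MonoidAlgebra.one_def]
  refine ⟨π, hπmem, hψinj _ (hπpow _).1 ?_, fun x hx => ?_, ?_⟩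
  · obtain ⟨m, hm⟩ := IsPGroup.iff_orderOf.1 hP ⟨u, huP⟩
    rw [← Subgroup.orderOf_coe] at hm
    have : CharP (MonoidAlgebra k G) p :=
      charP_of_injective_algebraMap (R := k) (FaithfulSMul.algebraMap_injective _ _) p
    rw [(hπpow _).2, show orderOf u = p ^ m from hm,
      sub_pow_char_pow_of_commute (p := p) (h := Commute.one_right U), one_pow, ← show orderOf u = p ^ m from hm,
      hUn, sub_self, zero_mul]
  · -- `w ^ i` in terms of `π`
    obtain ⟨c, rfl⟩ := hrep x hx
    have key : ∀ i : ℕ, w ^ i * bb ∈ Submodule.span k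
        ((fun j : ℕ => π ^ j * bb) '' Set.Iic i) := by
      intro i
      induction i with
      | zero => exact Submodule.subset_span ⟨0, Set.mem_Iic.2 le_rfl, by simp⟩
      | succ i ih =>
        have hcm : Commute bb w := hbfix.commute SuppIn.top
        have e1 : w ^ (i + 1) * bb = π * (w ^ i * bb) + w ^ i * bb := by
          rw [hπ, sub_mul (a := w), one_mul, sub_mul, mul_assoc w, ← mul_assoc bb,
            (hcm.pow_right i).eq, mul_assoc (w ^ i), hbb, ← mul_assoc w, ← pow_succ', sub_add_cancel]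
        rw [e1]
        refine add_mem ?_ (Submodule.span_mono (Set.image_mono (Set.Iic_subset_Iic.2 i.le_succ)) ih)
        have := Submodule.mem_map_of_mem (f := LinearMap.mulLeft k π) ih
        rw [Submodule.map_span, Set.image_image] at this
        refine Submodule.span_mono ?_ this
        rintro _ ⟨j, hj, rfl⟩
        refine ⟨j + 1, Set.mem_Iic.2 (Nat.succ_le_succ hj), ?_⟩
        show π ^ (j + 1) * bb = π * (π ^ j * bb)
        rw [pow_succ', mul_assoc]
    refine Submodule.sum_mem _ fun i _ => Submodule.smul_mem _ _ (Submodule.span_mono ?_ (key i))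
    rintro _ ⟨j, hj, rfl⟩
    exact ⟨⟨j, lt_of_le_of_lt hj i.2⟩, rfl⟩
  · -- the annihilator of `π`
    have hann : ∀ x ∈ fixedIdeal bb, π * x = 0 → ∃ c : k,
        brMul P ce x = c • ∑ i : Fin (orderOf u), U ^ (i : ℕ) * ce := by
      intro x hx h0
      obtain ⟨c, rfl⟩ := hrep x hx
      haveI : NeZero (orderOf u) := ⟨(orderOf_pos u).ne'⟩
      refine ⟨c 0, ?_⟩
      have h1 := congrArg (brMul P ce) h0
      rw [hψmul _ _ hπmem.1 hx.1, hψπ, map_zero] at h1
      simp only [map_sum, map_smul, (hpw _).2, Finset.mul_sum, mul_smul_comm, hmulce] at h1 ⊢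
      have hshift : ∀ i : Fin (orderOf u), (U - 1) * U ^ (i : ℕ) * ce =
          U ^ ((i + 1 : Fin (orderOf u)) : ℕ) * ce - U ^ (i : ℕ) * ce := by
        intro i
        rw [sub_mul, one_mul, sub_mul, ← pow_succ']
        congr 2
        rw [Fin.val_add, Fin.val_one', Nat.add_mod_mod, pow_eq_pow_mod _ hUn]
      simp only [hshift, smul_sub, Finset.sum_sub_distrib] at h1
      rw [← Equiv.sum_comp (Equiv.addRight (1 : Fin (orderOf u))).symm] at h1
      simp only [Equiv.addRight_symm, Equiv.coe_addRight, neg_add_cancel_right,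
        ← Finset.sum_sub_distrib, ← sub_smul] at h1
      have h3 := Fintype.linearIndependent_iff.1 hind _ h1
      have h4 : ∀ j : ℕ, c (Fin.ofNat (orderOf u) j) = c 0 := by
        intro j
        induction j with
        | zero => exact congrArg c (Fin.ext (by simp))
        | succ j ih =>
          have hj : Fin.ofNat (orderOf u) (j + 1) = Fin.ofNat (orderOf u) j + 1 :=
            Fin.ext (by simp [Fin.val_add, Nat.add_mod])
          have := sub_eq_zero.1 (h3 (Fin.ofNat (orderOf u) j + 1))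
          rw [add_neg_cancel_right, ih] at this
          rw [hj, ← this]
      rw [Finset.smul_sum]
      refine Finset.sum_congr rfl fun i _ => ?_
      rw [← h4 i]
      congr 2
      exact Fin.ext (by simp [Nat.mod_eq_of_lt i.2])
    intro x hx y hy hx0 hy0 hy1
    obtain ⟨a, ha⟩ := hann x hx hx0
    obtain ⟨a', ha'⟩ := hann y hy hy0
    have ha'0 : a' ≠ 0 := fun h => hy1 (hψinj y hy (by rw [ha', h, zero_smul]))
    refine ⟨a / a', sub_eq_zero.1 (hψinj _ (sub_mem hx (Submodule.smul_mem _ _ hy)) ?_)⟩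
    rw [map_sub, map_smul, ha, ha', smul_smul, div_mul_cancel₀ _ ha'0, sub_self]

end Cfsg.Agent.CycDefect
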