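import Cfsg.Agent.Lib.CycDefect.Isometry
import Cfsg.Agent.Lib.CycDefect.Apply
import Cfsg.Agent.Lib.Blocks.KernelPairs
import Cfsg.Agent.Lib.BrauerPairs.LocalFusion
import Cfsg.Agent.Lib.BrauerPairs.Transport

/-!
# A block with cyclic defect group and its correspondents

`isometry_correspondent`: for `P ≤ H` with `N(P) ≤ H`, a block of `H` with defect group `P` and the
block it induces have equal counts and are perfectly isometric.
-/

set_option autoImplicit false
set_option maxHeartbeats 1000000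
set_option linter.unusedSectionVars false

namespace Cfsg.Agent.CycDefect

open Cfsg Cfsg.Agent.Blocks Cfsg.Agent.BrauerPairs

variable {G : Type*} [Group G] [Finite G] {p : ℕ} [Fact p.Prime] {M : Ideal AlgInt}

theorem isometry_correspondent (hM : IsPModular p M) {B : Set (IrrCharacter G)} {P : Subgroup G}
    (hPD : IsDefectGroup p M B P) (hP1 : P ≠ ⊥) (hcyc : IsCyclic P) {N : Subgroup G}
    (hPN : P ≤ N) (hN : Subgroup.normalizer (P : Set G) ≤ N)
    {c : Set (IrrCharacter N)} (hcD : IsDefectGroup p M c (P.subgroupOf N))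
    (hc : IsInducedBlock M N c B) :
    Nat.card c = Nat.card B ∧ blockRank p c = blockRank p B ∧
      ∃ (I : IrrCharacter N → IrrCharacter G) (ε : IrrCharacter N → ℤ),
        IsPerfectIsometry p M c B I ε := by
  classical
  have := Fintype.ofFinite G
  have := Fintype.ofFinite N
  have hPp : IsPGroup p P := isPGroup_defectGroup hM hPD
  have hCN : Subgroup.centralizer (P : Set G) ≤ N := (centralizer_le_normalizer hM P).trans hN
  obtain ⟨e₀, he₀, hbr⟩ := KernelPairs.exists_pair hM hc.1 hPp hPN hCN (by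
    have := sub_br_defectGroup_ne_zero hM hcD
    rwa [Subgroup.map_subgroupOf_eq_of_le hPN] at this)
  have hmax := isMaximal_of_isDefectGroup hM
    (KernelPairs.isBrauerPairOf_of_induced hM hc he₀ hPN hCN hbr) hPD
  obtain ⟨P', hmap, hP'⟩ : ∃ P' : Subgroup N, P'.map N.subtype = P ∧ P' = P.subgroupOf N :=
    ⟨_, Subgroup.map_subgroupOf_eq_of_le hPN, rfl⟩
  rw [← hP'] at hcD
  subst hmap
  have hC : Subgroup.centralizer ((P'.map N.subtype : Subgroup G) : Set G) ≤ N := hCN
  obtain ⟨e', he', hup⟩ := exists_upBlock hM P' hC he₀.2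
  subst hup
  have hmax' := isMaximal_of_isDefectGroup hM
    ((isBrauerPairOf_sub_iff hM P' hC hc.1 he').2 ⟨he₀.1, hbr⟩) hcD
  let θ : P' ≃* (P'.map N.subtype : Subgroup G) :=
    Subgroup.equivMapOfInjective P' _ N.subtype_injective
  have hcyc' : IsCyclic P' := isCyclic_of_injective θ.toMonoidHom θ.injective
  have hP'1 : P' ≠ ⊥ := fun h => hP1 (by rw [h, Subgroup.map_bot])
  have hstab : pairStab M P' e' =
      (pairStab M (P'.map N.subtype) (upBlock P' e')).subgroupOf N := by
    ext x
    rw [Subgroup.mem_subgroupOf, mem_pairStab, mem_pairStab, mem_normalizer_sub_iff hM P' x,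
      ← emb_cb hM P' hC, ← emb_cj, (emb_injective N).eq_iff]
  have hcent : Subgroup.centralizer (P' : Set N) =
      (Subgroup.centralizer ((P'.map N.subtype : Subgroup G) : Set G)).subgroupOf N :=
    Subgroup.ext fun x => (mem_centralizer_sub_iff P' x).trans Subgroup.mem_subgroupOf.symm
  have hTN : pairStab M (P'.map N.subtype) (upBlock P' e') ≤ N :=
    (pairStab_le_normalizer _ _).trans hN
  obtain ⟨e, he⟩ : ∃ e, (Subgroup.centralizer (P' : Set N)).relIndex (pairStab M P' e') = e := ⟨_, rfl⟩
  have he' := he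
  rw [hstab, hcent, Subgroup.relIndex_subgroupOf hTN] at he'
  obtain ⟨hlB, f, hf, hqB, hkB, ⟨DB⟩⟩ := exists_param hM hmax hcyc hP1 he'
  obtain ⟨hlc, f', -, hqc, hkc, ⟨DC⟩⟩ := exists_param hM hmax' hcyc' hP'1 he
  have he0 : 0 < e := he ▸ Nat.pos_of_ne_zero Subgroup.index_ne_zero_of_finite
  obtain rfl : f = f' := by
    have hcard : Nat.card P' = Nat.card (P'.map N.subtype : Subgroup G) := Nat.card_congr θ.toEquiv
    exact Nat.eq_of_mul_eq_mul_left he0 (by omega)
  obtain ⟨-, I, ε, hIso, -⟩ := exists_isometry hM hmax hmax' hcyc θ he0 hf DB DC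
  exact ⟨by omega, by omega, I, ε, hIso⟩

end Cfsg.Agent.CycDefect
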