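import Cfsg.Agent.Lib.CycDefect.Apply
import Cfsg.Agent.Lib.Blocks.HeightZero

/-!
# Degrees in a block with cyclic defect group

`sign_relation`: heights zero, the signed relation and the congruences of degrees.
-/

set_option autoImplicit false
set_option linter.unusedSectionVars false

namespace Cfsg.Agent.CycDefect

open Cfsg Cfsg.Agent.Blocks Cfsg.Agent.BrauerPairs

variable {G : Type*} [Group G] [Finite G] {p : ℕ} [Fact p.Prime] {M : Ideal AlgInt}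
  {B : Set (IrrCharacter G)} {D : Subgroup G}
  {b : Set (IrrCharacter (Subgroup.centralizer (D : Set G)))}

theorem sign_relation (hM : IsPModular p M) (hmax : IsMaximalBrauerPair p M B D b) (hD : IsCyclic D)
    {a : ℕ} (ha : 1 ≤ a) (hDa : Nat.card D = p ^ a) {e : ℕ}
    (he : (Subgroup.centralizer (D : Set G)).relIndex (pairStab M D b) = e) :
    e ∣ p - 1 ∧ (∀ χ ∈ B, blockHeight p B (χ : G → ℂ) = 0) ∧
    ∃ X Y : Set (IrrCharacter G), B = X ∪ Y ∧ Disjoint X Y ∧ Nat.card X = e ∧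
      Nat.card Y = (p ^ a - 1) / e ∧
      (∀ ψ ∈ Y, ∀ ψ' ∈ Y, ∀ g : G, ¬ p ∣ orderOf g → (ψ : G → ℂ) g = (ψ' : G → ℂ) g) ∧
      ∃ (δ : IrrCharacter G → ℤ) (δ₀ : ℤ), (∀ χ ∈ X, δ χ = 1 ∨ δ χ = -1) ∧ (δ₀ = 1 ∨ δ₀ = -1) ∧
        (∀ ψ ∈ Y, ∀ g : G, ¬ p ∣ orderOf g →
          (δ₀ : ℂ) * (ψ : G → ℂ) g + ∑ᶠ χ ∈ X, (δ χ : ℂ) * (χ : G → ℂ) g = 0) ∧
        (∀ χ ∈ X, ∀ χ' ∈ X, δ χ * (charDegree (χ : G → ℂ) : ℤ) ≡
          δ χ' * (charDegree (χ' : G → ℂ) : ℤ) [ZMOD (p : ℤ) ^ a]) ∧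
        (∀ ψ ∈ Y, ∀ χ ∈ X, (charDegree (ψ : G → ℂ) : ℤ) ≡
          -((e : ℤ) * δ₀ * δ χ * (charDegree (χ : G → ℂ) : ℤ)) [ZMOD (p : ℤ) ^ a]) := by
  classical
  have := Fintype.ofFinite (IrrCharacter G)
  have hp : p.Prime := Fact.out
  have hB : IsPBlock M B := hmax.1.2.1
  have hP1 := ne_bot_of_card ha hDa
  have hdvd : e ∣ p - 1 := he ▸ relIndex_dvd hM hmax hD hP1
  obtain ⟨-, f, exc, δ₀, δ, hf, hq, hk, hinj, hexc, hδ₀, hδ, hrel, hdec⟩ :=
    exists_structure hM hmax hD hP1 he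
  set X : Set (IrrCharacter G) := B \ Set.range exc with hX
  set α := (Nat.card G).factorization p with hα
  have he0 : 0 < e := by
    rcases Nat.eq_zero_or_pos e with h | h
    · have := hp.two_le
      rw [h, zero_dvd_iff] at hdvd
      omega
    · exact h
  have hYB : Set.range exc ⊆ B := by rintro _ ⟨j, rfl⟩; exact hexc j
  have hYc : Nat.card (Set.range exc) = f := by
    rw [Nat.card_range_of_injective hinj, Nat.card_fin]
  have hXc : Nat.card X = e := by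
    have h := Set.ncard_sdiff_add_ncard_of_subset hYB (Set.toFinite B)
    rw [← Nat.card_coe_set_eq, ← Nat.card_coe_set_eq, ← Nat.card_coe_set_eq, ← hX, hYc, hk] at h
    omega
  have haα : a ≤ α := (hp.pow_dvd_iff_le_factorization Nat.card_pos.ne').1
    (hDa ▸ Subgroup.card_subgroup_dvd_card D)
  have hsum : ∀ g : G, ∑ᶠ χ ∈ X, (δ χ : ℂ) * (χ : G → ℂ) g =
      ∑ χ ∈ Finset.univ.filter (fun χ => χ ∈ B ∧ χ ∉ Set.range exc), (δ χ : ℂ) * (χ : G → ℂ) g := by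
    intro g
    rw [finsum_mem_eq_toFinset_sum]
    congr 1
    ext χ
    simp [hX]
  -- congruences modulo the order of a Sylow subgroup
  have hXX : ∀ χ ∈ X, ∀ χ' ∈ X, δ χ * (charDegree (χ : G → ℂ) : ℤ) ≡
      δ χ' * (charDegree (χ' : G → ℂ) : ℤ) [ZMOD (p : ℤ) ^ α] := fun χ hχ χ' hχ' => by
    rw [Int.modEq_comm, Int.modEq_iff_dvd]
    exact dvd_degree_sub_of_dec hM hmax (comm_of_cyclic hD) (freeInertial hM hmax hD) hχ.1 hχ'.1
      (hdec χ hχ.1 hχ.2 χ' hχ'.1 hχ'.2)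
  have hYX : ∀ ψ ∈ Set.range exc, ∀ χ ∈ X, (charDegree (ψ : G → ℂ) : ℤ) ≡
      -((e : ℤ) * δ₀ * δ χ * (charDegree (χ : G → ℂ) : ℤ)) [ZMOD (p : ℤ) ^ α] := by
    rintro _ ⟨j, rfl⟩ χ hχ
    have h := hrel 1 (by simpa using hp.ne_one) j
    simp only [← charDegree_cast] at h
    have h' : δ₀ * (charDegree (exc j : G → ℂ) : ℤ) + ∑ χ ∈ Finset.univ.filter
        (fun χ => χ ∈ B ∧ χ ∉ Set.range exc), δ χ * (charDegree (χ : G → ℂ) : ℤ) = 0 :=
      Int.cast_injective (α := ℂ) (by push_cast; exact h)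
    have hs : ∑ χ' ∈ Finset.univ.filter (fun χ => χ ∈ B ∧ χ ∉ Set.range exc),
        δ χ' * (charDegree (χ' : G → ℂ) : ℤ) ≡ (e : ℤ) * (δ χ * (charDegree (χ : G → ℂ) : ℤ))
          [ZMOD (p : ℤ) ^ α] := by
      have hc : (Finset.univ.filter (fun χ => χ ∈ B ∧ χ ∉ Set.range exc)).card = e := by
        rw [← hXc, ← Set.ncard_coe_finset, ← Nat.card_coe_set_eq]
        congr
        ext χ
        simp [hX]
      calc _ ≡ ∑ _χ' ∈ Finset.univ.filter (fun χ => χ ∈ B ∧ χ ∉ Set.range exc),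
            δ χ * (charDegree (χ : G → ℂ) : ℤ) [ZMOD (p : ℤ) ^ α] :=
          Int.ModEq.sum fun χ' hχ' => hXX χ' ⟨(Finset.mem_filter.1 hχ').2.1,
            (Finset.mem_filter.1 hχ').2.2⟩ χ hχ
        _ = _ := by rw [Finset.sum_const, hc, nsmul_eq_mul]
    have hψ : (charDegree (exc j : G → ℂ) : ℤ) = -(δ₀ * ∑ χ' ∈ Finset.univ.filter
        (fun χ => χ ∈ B ∧ χ ∉ Set.range exc), δ χ' * (charDegree (χ' : G → ℂ) : ℤ)) := by
      rcases hδ₀ with e0 | e0 <;> rw [e0] at h' ⊢ <;> linarith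
    rw [hψ, show -((e : ℤ) * δ₀ * δ χ * (charDegree (χ : G → ℂ) : ℤ)) =
      -(δ₀ * ((e : ℤ) * (δ χ * (charDegree (χ : G → ℂ) : ℤ)))) by ring]
    exact (hs.mul_left δ₀).neg
  refine ⟨hdvd, ?_, X, Set.range exc, (Set.sdiff_union_of_subset hYB).symm, Set.disjoint_sdiff_left,
    hXc, ?_, ?_, δ, δ₀, fun χ hχ => hδ χ hχ.1 hχ.2, hδ₀, ?_,
    fun χ hχ χ' hχ' => (hXX χ hχ χ' hχ').of_dvd (pow_dvd_pow _ haα),
    fun ψ hψ χ hχ => (hYX ψ hψ χ hχ).of_dvd (pow_dvd_pow _ haα)⟩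
  · -- all degrees have the same power of `p`
    obtain ⟨⟨χ₀, hχ₀⟩⟩ : Nonempty X := (Nat.card_pos_iff.1 (hXc ▸ he0)).1
    have hpe : ¬ p ∣ e := fun h => by
      have := Nat.le_of_dvd he0 h
      have := Nat.le_of_dvd (by have := hp.two_le; omega) hdvd
      omega
    have key : ∀ η ∈ B, ∀ i ≤ α,
        p ^ i ∣ charDegree (η : G → ℂ) ↔ p ^ i ∣ charDegree (χ₀ : G → ℂ) := by
      intro η hη i hi
      have hsign : ∀ (s : ℤ) (n : ℕ), (s = 1 ∨ s = -1) →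
          (((p : ℤ) ^ i ∣ s * (n : ℤ)) ↔ p ^ i ∣ n) := by
        rintro s n (rfl | rfl)
        · rw [one_mul, ← Nat.cast_pow, Int.natCast_dvd_natCast]
        · rw [neg_one_mul, dvd_neg, ← Nat.cast_pow, Int.natCast_dvd_natCast]
      have hmod : ∀ {x y : ℤ}, x ≡ y [ZMOD (p : ℤ) ^ α] → ((p : ℤ) ^ i ∣ x ↔ (p : ℤ) ^ i ∣ y) :=
        fun h => (h.of_dvd (pow_dvd_pow _ hi)).dvd_iff
      by_cases hηY : η ∈ Set.range exc
      · rw [← hsign 1 _ (Or.inl rfl), one_mul, hmod (hYX η hηY χ₀ hχ₀), dvd_neg,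
          show (e : ℤ) * δ₀ * δ χ₀ * (charDegree (χ₀ : G → ℂ) : ℤ) =
            δ₀ * δ χ₀ * ((e * charDegree (χ₀ : G → ℂ) : ℕ) : ℤ) by push_cast; ring,
          hsign _ _ (by rcases hδ₀ with h | h <;> rcases hδ χ₀ hχ₀.1 hχ₀.2 with h' | h' <;>
            rw [h, h'] <;> norm_num)]
        exact ⟨((hp.coprime_iff_not_dvd.2 hpe).pow_left i).dvd_of_dvd_mul_left, fun h => h.mul_left _⟩
      · rw [← hsign _ _ (hδ η hη hηY), ← hsign _ _ (hδ χ₀ hχ₀.1 hχ₀.2), hmod (hXX η ⟨hη, hηY⟩ χ₀ hχ₀)]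
    obtain ⟨η₀, hη₀, hη₀0⟩ := exists_blockHeight_eq_zero p (isPBlock_nonempty hM hB)
    have hbd : blockDefect p B = a := Nat.pow_right_injective hp.two_le
      ((card_defectGroup hM hB (maximal_isDefectGroup hM hmax)).symm.trans hDa)
    have hlt : (charDegree (η₀ : G → ℂ)).factorization p < α := by
      unfold blockHeight at hη₀0
      unfold blockDefect at hbd
      rw [← hα] at hbd
      have hle := Nat.sInf_le (s := (fun χ : IrrCharacter G => (charDegree (χ : G → ℂ)).factorization p) '' B)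
        ⟨η₀, hη₀, rfl⟩
      omega
    intro η hη
    have hsame : (charDegree (η : G → ℂ)).factorization p =
        (charDegree (η₀ : G → ℂ)).factorization p := by
      have hiff : ∀ i ≤ α, i ≤ (charDegree (η : G → ℂ)).factorization p ↔
          i ≤ (charDegree (η₀ : G → ℂ)).factorization p := fun i hi => by
        rw [← hp.pow_dvd_iff_le_factorization (charDegree_pos η).ne',
          ← hp.pow_dvd_iff_le_factorization (charDegree_pos η₀).ne', key η hη i hi, key η₀ hη₀ i hi]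
      have h1 := (hiff _ hlt.le).2 le_rfl
      have h2 := mt (hiff _ hlt).1 (Nat.not_succ_le_self _)
      omega
    unfold blockHeight at hη₀0 ⊢
    rw [hsame]
    exact hη₀0
  · rw [hYc, ← hDa, hq, Nat.add_sub_cancel, Nat.mul_div_cancel_left f he0]
  · rintro _ ⟨j, rfl⟩ _ ⟨j', rfl⟩ g hg
    have h := (hrel g hg j).trans (hrel g hg j').symm
    rw [add_right_cancel_iff] at h
    exact mul_left_cancel₀ (Int.cast_ne_zero.2 (by rcases hδ₀ with h0 | h0 <;> omega)) h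
  · rintro _ ⟨j, rfl⟩ g hg
    rw [hsum]
    exact hrel g hg j

end Cfsg.Agent.CycDefect
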