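import Cfsg.Agent.Lib.CycDefect.Reps
import Mathlib.FieldTheory.IsAlgClosed.Basic
import Mathlib.RingTheory.RootsOfUnity.EnoughRootsOfUnity
import Mathlib.RingTheory.RootsOfUnity.AlgebraicallyClosed

/-!
# Extensions of an invariant simple module along a cyclic quotient

`exists_extensions`: a simple module of `C` with an intertwiner for a generator `g` of `H / C` has
`e = |H / C|` pairwise non-isomorphic extensions to `H`.
-/

set_option autoImplicit false
set_option linter.unusedSectionVars false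
set_option linter.style.haveILetI false

namespace Cfsg.Agent.CycDefect

variable {k : Type*} [Field k] {G : Type*} [Group G] {V : Type*} [AddCommGroup V] [Module k V]

/-- The extension of `ρ` determined by an intertwiner of a generator. -/
theorem exists_extension {C H : Subgroup G} (hCH : C ≤ H) {g : G} (hg : g ∈ H)
    (hgN : g ∈ Subgroup.normalizer (C : Set G)) {e : ℕ} (he : ∀ i : ℤ, g ^ i ∈ C ↔ (e : ℤ) ∣ i)
    (hgen : ∀ h ∈ H, ∃ i : ℤ, g ^ i * (1 : G) * h ∈ C) (ρ : Representation k C V)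
    (X : (Module.End k V)ˣ)
    (hX : ∀ (c : C) (h : g * c * g⁻¹ ∈ C),
      (X : Module.End k V) * ρ c = ρ ⟨g * c * g⁻¹, h⟩ * X)
    (hXe : ∀ h : g ^ e ∈ C, (X : Module.End k V) ^ e = ρ ⟨g ^ e, h⟩) :
    ∃ τ : Representation k H V, (∀ c : C, τ ⟨c, hCH c.2⟩ = ρ c) ∧ τ ⟨g, hg⟩ = X := by
  classical
  let ρu : C →* (Module.End k V)ˣ := MonoidHom.toHomUnits ρ
  have hρu : ∀ c, ((ρu c : (Module.End k V)ˣ) : Module.End k V) = ρ c := fun c => rfl
  let R : Subgroup (G × (Module.End k V)ˣ) :=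
    { carrier := {q | q.1 ∈ Subgroup.normalizer (C : Set G) ∧
        ∀ (c : C) (h : q.1 * c * q.1⁻¹ ∈ C), q.2 * ρu c = ρu ⟨q.1 * c * q.1⁻¹, h⟩ * q.2}
      one_mem' := ⟨one_mem _, fun c h => by
        rw [Prod.snd_one, one_mul, mul_one]
        exact congrArg ρu (Subtype.ext (by simp))⟩
      mul_mem' := fun {a b} ha hb => ⟨mul_mem ha.1 hb.1, fun c h => by
        have h1 : b.1 * c * b.1⁻¹ ∈ C := (Subgroup.mem_normalizer_iff.1 hb.1 _).1 c.2
        have h2 : a.1 * (b.1 * c * b.1⁻¹) * a.1⁻¹ ∈ C := (Subgroup.mem_normalizer_iff.1 ha.1 _).1 h1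
        rw [Prod.snd_mul, mul_assoc, hb.2 c h1, ← mul_assoc, ha.2 ⟨_, h1⟩ h2, mul_assoc]
        refine congrArg (· * _) (congrArg ρu (Subtype.ext ?_))
        simp [mul_assoc]⟩
      inv_mem' := fun {a} ha => ⟨inv_mem ha.1, fun c h => by
        rw [Prod.snd_inv, eq_mul_inv_iff_mul_eq, mul_assoc, inv_mul_eq_iff_eq_mul]
        have h' : a.1 * (a.1⁻¹ * c * a.1⁻¹⁻¹) * a.1⁻¹ ∈ C := by simp [mul_assoc]
        show ρu c * a.2 = a.2 * ρu ⟨a.1⁻¹ * c * a.1⁻¹⁻¹, h⟩
        rw [ha.2 (⟨a.1⁻¹ * (c : G) * a.1⁻¹⁻¹, h⟩ : C) h']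
        refine congrArg (· * _) (congrArg ρu (Subtype.ext ?_))
        simp [mul_assoc]⟩ }
  have hgX : (g, X) ∈ R := ⟨hgN, fun c h => Units.ext (by simpa [hρu] using hX c h)⟩
  have hpow : ∀ j : ℤ, (g ^ j, X ^ j) ∈ R := fun j => by
    have := R.zpow_mem hgX j
    exact this
  have hge : g ^ e ∈ C := by
    rw [← zpow_natCast]; exact (he _).2 dvd_rfl
  have hXq : ∀ (q : ℤ) (h : g ^ ((e : ℤ) * q) ∈ C), X ^ ((e : ℤ) * q) = ρu ⟨_, h⟩ := by
    intro q h
    rw [zpow_mul, zpow_natCast, show X ^ e = ρu ⟨g ^ e, hge⟩ from Units.ext (by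
      rw [Units.val_pow_eq_pow_val, hρu, hXe hge]), ← map_zpow]
    refine congrArg ρu (Subtype.ext ?_)
    show (g ^ e) ^ q = g ^ ((e : ℤ) * q)
    rw [zpow_mul, zpow_natCast]
  have hrep : ∀ h : H, ∃ (i : ℤ) (c : C), (h : G) = g ^ i * c := fun h => by
    obtain ⟨i, hi⟩ := hgen h h.2
    refine ⟨-i, ⟨_, hi⟩, ?_⟩
    simp
  choose i0 c0 hic using hrep
  let f : H → (Module.End k V)ˣ := fun h => X ^ i0 h * ρu (c0 h)
  have hf : ∀ (h : H) (i : ℤ) (c : C), (h : G) = g ^ i * c → f h = X ^ i * ρu c := by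
    intro h i c hh
    have h1 : g ^ (i0 h - i) = (c : G) * (c0 h : G)⁻¹ := by
      rw [show i0 h - i = -i + i0 h by ring, zpow_add, zpow_neg, eq_mul_inv_iff_mul_eq, mul_assoc,
        ← hic h, hh, inv_mul_cancel_left]
    obtain ⟨q, hq⟩ := (he _).1 (h1 ▸ C.mul_mem c.2 (C.inv_mem (c0 h).2))
    have hmem : g ^ ((e : ℤ) * q) ∈ C := (he _).2 ⟨q, rfl⟩
    show X ^ i0 h * ρu (c0 h) = X ^ i * ρu c
    rw [show i0 h = i + (e : ℤ) * q by omega, zpow_add, hXq q hmem, mul_assoc, ← map_mul]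
    refine congrArg (X ^ i * ·) (congrArg ρu (Subtype.ext ?_))
    show g ^ ((e : ℤ) * q) * (c0 h : G) = c
    rw [← hq, h1, inv_mul_cancel_right]
  let τu : H →* (Module.End k V)ˣ := MonoidHom.mk' f fun a b => by
    obtain ⟨hN, hcomm⟩ := hpow (i0 b)
    have hmem : (g ^ i0 b)⁻¹ * (c0 a : G) * g ^ i0 b ∈ C := by
      have := (Subgroup.mem_normalizer_iff.1 (inv_mem hN) _).1 (c0 a).2
      simpa using this
    rw [hf (a * b) (i0 a + i0 b) (⟨_, hmem⟩ * c0 b) (by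
      rw [Subgroup.coe_mul, hic a, hic b, Subgroup.coe_mul, zpow_add]; simp [mul_assoc])]
    show _ = X ^ i0 a * ρu (c0 a) * (X ^ i0 b * ρu (c0 b))
    have h' : g ^ i0 b * ((g ^ i0 b)⁻¹ * (c0 a : G) * g ^ i0 b) * (g ^ i0 b)⁻¹ ∈ C := by
      simp [mul_assoc]
    rw [map_mul, zpow_add, mul_assoc (X ^ i0 a), mul_assoc (X ^ i0 a), ← mul_assoc (X ^ i0 b),
      ← mul_assoc (ρu (c0 a)), hcomm ⟨_, hmem⟩ h']
    refine congrArg (X ^ i0 a * ·) (congrArg (· * _) (congrArg (· * _) (congrArg ρu (Subtype.ext ?_))))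
    simp [mul_assoc]
  refine ⟨(Units.coeHom _).comp τu, fun c => ?_, ?_⟩
  · show ((f _ : (Module.End k V)ˣ) : Module.End k V) = ρ c
    rw [hf _ 0 c (by simp), zpow_zero, one_mul, hρu]
  · show ((f _ : (Module.End k V)ˣ) : Module.End k V) = X
    rw [hf _ 1 1 (by simp), zpow_one, map_one, mul_one]

/-- `e` pairwise non-isomorphic extensions. -/
theorem exists_extensions [IsAlgClosed k] [FiniteDimensional k V] {C H : Subgroup G} (hCH : C ≤ H)
    {g : G} (hg : g ∈ H) (hgN : g ∈ Subgroup.normalizer (C : Set G)) {e : ℕ} [NeZero (e : k)]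
    (he : ∀ i : ℤ, g ^ i ∈ C ↔ (e : ℤ) ∣ i)
    (hgen : ∀ h ∈ H, ∃ i : ℤ, g ^ i * (1 : G) * h ∈ C)
    (ρ : Representation k C V) [hρ : ρ.IsIrreducible] (X : (Module.End k V)ˣ)
    (hX : ∀ (c : C) (h : g * c * g⁻¹ ∈ C),
      (X : Module.End k V) * ρ c = ρ ⟨g * c * g⁻¹, h⟩ * X) :
    ∃ τ : Fin e → Representation k H V, (∀ i (c : C), τ i ⟨c, hCH c.2⟩ = ρ c) ∧
      (∀ i, (τ i).IsIrreducible) ∧ ∀ i j, i ≠ j → IsEmpty ((τ i).Equiv (τ j)) := by
  classical
  obtain ⟨v₀, hv₀⟩ : ∃ v : V, v ≠ 0 := by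
    by_contra hno
    push Not at hno
    obtain ⟨a, b, hab⟩ := (IsSimpleModule.nontrivial (MonoidAlgebra k C) ρ.asModule).exists_pair_ne
    exact hab ((hno a).trans (hno b).symm)
  have hge : g ^ e ∈ C := by
    rw [← zpow_natCast]; exact (he _).2 dvd_rfl
  -- the scalar by which `X ^ e` differs from `ρ (g ^ e)`
  have hXpow : ∀ (n : ℕ) (c : C) (h : g ^ n * c * (g ^ n)⁻¹ ∈ C),
      (X : Module.End k V) ^ n * ρ c = ρ ⟨g ^ n * c * (g ^ n)⁻¹, h⟩ * (X : Module.End k V) ^ n := by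
    intro n
    induction n with
    | zero => intro c h; simp
    | succ n ih =>
      intro c h
      have h1 : g * c * g⁻¹ ∈ C := (Subgroup.mem_normalizer_iff.1 hgN _).1 c.2
      have h2 : g ^ n * (g * c * g⁻¹) * (g ^ n)⁻¹ ∈ C :=
        (Subgroup.mem_normalizer_iff.1 (pow_mem hgN n) _).1 h1
      rw [pow_succ, mul_assoc, hX c h1, ← mul_assoc, ih ⟨_, h1⟩ h2, mul_assoc]
      refine congrArg (fun z => ρ z * _) (Subtype.ext ?_)
      simp [pow_succ, mul_assoc]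
  set Y : Module.End k V := ρ ⟨g ^ e, hge⟩⁻¹ * (X : Module.End k V) ^ e with hY
  obtain ⟨μ, hμ⟩ := ModRep.exists_scalar ρ Y fun c v => by
    have h : g ^ e * c * (g ^ e)⁻¹ ∈ C := C.mul_mem (C.mul_mem hge c.2) (C.inv_mem hge)
    rw [← Module.End.mul_apply, ← Module.End.mul_apply, hY, mul_assoc, hXpow e c h, ← mul_assoc,
      ← map_mul, ← mul_assoc, ← map_mul]
    refine congrArg (fun z => (ρ z * (X : Module.End k V) ^ e) v) (Subtype.ext ?_)
    simp [mul_assoc]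
  have hXe : (X : Module.End k V) ^ e = μ • ρ ⟨g ^ e, hge⟩ := by
    have hYμ : Y = μ • 1 := LinearMap.ext fun v => by simpa using hμ v
    calc (X : Module.End k V) ^ e = ρ ⟨g ^ e, hge⟩ * Y := by
          rw [hY, ← mul_assoc, ← map_mul, mul_inv_cancel, map_one, one_mul]
      _ = _ := by rw [hYμ, mul_smul_comm, mul_one]
  have he0 : 0 < e := Nat.pos_of_ne_zero fun h => NeZero.ne (e : k) (by rw [h, Nat.cast_zero])
  have hμ0 : μ ≠ 0 := by
    rintro rfl
    rw [zero_smul, ← Units.val_pow_eq_pow_val] at hXe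
    exact hv₀ (by simpa [hXe] using
      (LinearMap.congr_fun (Units.inv_mul (X ^ e)) v₀).symm)
  obtain ⟨r, hr⟩ := IsAlgClosed.exists_pow_nat_eq (μ⁻¹ : k) he0
  have hr0 : r ≠ 0 := by
    rintro rfl
    rw [zero_pow he0.ne'] at hr
    exact inv_ne_zero hμ0 hr.symm
  obtain ⟨ω, hω⟩ := HasEnoughRootsOfUnity.exists_primitiveRoot k e
  let Xs : Fin e → (Module.End k V)ˣ := fun i =>
    Units.map (algebraMap k (Module.End k V)).toMonoidHom
      (Units.mk0 (ω ^ (i : ℕ) * r) (mul_ne_zero (pow_ne_zero _ (hω.ne_zero he0.ne')) hr0)) * X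
  have hXs : ∀ i, (Xs i : Module.End k V) = (ω ^ (i : ℕ) * r) • (X : Module.End k V) := fun i => by
    show algebraMap k (Module.End k V) (ω ^ (i : ℕ) * r) * (X : Module.End k V) = _
    rw [Algebra.smul_def]
  have hext : ∀ i, ∃ τ : Representation k H V, (∀ c : C, τ ⟨c, hCH c.2⟩ = ρ c) ∧
      τ ⟨g, hg⟩ = Xs i := fun i => exists_extension hCH hg hgN he hgen ρ (Xs i)
    (fun c h => by rw [hXs, smul_mul_assoc, hX c h, mul_smul_comm])
    (fun h => by
      rw [hXs, smul_pow, mul_pow, ← pow_mul, mul_comm (i : ℕ) e, pow_mul, hω.pow_eq_one, one_pow,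
        one_mul, hr, hXe, smul_smul, inv_mul_cancel₀ hμ0, one_smul])
  choose τ hτC hτg using hext
  refine ⟨τ, hτC, fun i => ?_, fun i j hij => ⟨fun f => hij ?_⟩⟩
  · haveI : Nontrivial V := nontrivial_of_ne v₀ 0 hv₀
    haveI : Nontrivial (Subrepresentation (τ i)) := ⟨⟨⊥, ⊤, fun h =>
      bot_ne_top (congrArg Subrepresentation.toSubmodule h :)⟩⟩
    refine ⟨fun W => ?_⟩
    let W' : Subrepresentation ρ := ⟨W.toSubmodule, fun c v hv => by
      rw [← hτC i c]; exact W.apply_mem_toSubmodule _ hv⟩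
    rcases IsSimpleOrder.eq_bot_or_eq_top W' with h | h
    · exact Or.inl (Subrepresentation.toSubmodule_injective (congrArg Subrepresentation.toSubmodule h :))
    · exact Or.inr (Subrepresentation.toSubmodule_injective (congrArg Subrepresentation.toSubmodule h :))
  · have hf : ∀ (h : H) (v : V), f.toLinearEquiv (τ i h v) = τ j h (f.toLinearEquiv v) := fun h v =>
      LinearMap.congr_fun (f.toIntertwiningMap.isIntertwining' h) v
    obtain ⟨s, hs⟩ := ModRep.exists_scalar ρ f.toLinearEquiv.toLinearMap fun c v => by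
      show f.toLinearEquiv (ρ c v) = ρ c (f.toLinearEquiv v)
      have h := hf ⟨c, hCH c.2⟩ v
      rwa [hτC, hτC] at h
    have hs' : ∀ v, f.toLinearEquiv v = s • v := hs
    have hs0 : s ≠ 0 := by
      rintro rfl
      exact hv₀ (f.toLinearEquiv.injective (by rw [hs', zero_smul, map_zero]))
    have h := hf ⟨g, hg⟩ v₀
    rw [hτg, hτg, hs', hs', hXs, hXs, LinearMap.smul_apply, LinearMap.smul_apply, map_smul, smul_smul,
      smul_smul] at h
    have hXv : (X : Module.End k V) v₀ ≠ 0 := fun h0 => hv₀ (by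
      have := LinearMap.congr_fun (Units.inv_mul X) v₀
      rw [Module.End.mul_apply, h0, map_zero, Module.End.one_apply] at this
      exact this.symm)
    have h2 : s * (ω ^ (i : ℕ) * r) = ω ^ (j : ℕ) * r * s :=
      sub_eq_zero.1 ((smul_eq_zero.1 (by rw [sub_smul, h, sub_self] :
        (s * (ω ^ (i : ℕ) * r) - ω ^ (j : ℕ) * r * s) • (X : Module.End k V) v₀ = 0)).resolve_right hXv)
    rw [mul_comm s] at h2
    exact Fin.ext (hω.pow_inj i.2 j.2 (mul_right_cancel₀ hr0 (mul_right_cancel₀ hs0 h2)))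

end Cfsg.Agent.CycDefect
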