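import Cfsg.Agent.Lib.CycDefect.Setup
import Cfsg.Agent.Lib.BrauerPairs.Normal
import Cfsg.Agent.Lib.Blocks.WeakOrth
import Cfsg.Agent.Lib.Char.Inner

/-!
# Groups with a self-centralising normal `p`-subgroup

* `block_eq_univ`, `isPBlock_univ`: there is only one block;
* `exists_maximal`: if the subgroup is a Sylow subgroup it carries a maximal pair fixed by the group.
-/

set_option autoImplicit false
set_option linter.unusedSectionVars false

open scoped ComplexConjugate

namespace Cfsg.Agent.CycDefect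

open Cfsg Cfsg.Agent.Blocks Cfsg.Agent.BrauerPairs

variable {F : Type*} [Group F] [Finite F] {p : ℕ} [Fact p.Prime] {M : Ideal AlgInt}

theorem block_eq_univ (hM : IsPModular p M) {Q : Subgroup F} [Q.Normal] (hQ : IsPGroup p Q)
    (hC : Subgroup.centralizer (Q : Set F) ≤ Q) {B : Set (IrrCharacter F)} (hB : IsPBlock M B) :
    B = Set.univ := by
  classical
  have := Fintype.ofFinite F
  have := Fintype.ofFinite (IrrCharacter F)
  have hz : ∀ g : F, g ≠ 1 → ∑ χ ∈ B.toFinset, (χ : F → ℂ) 1 * conj ((χ : F → ℂ) g) = 0 := by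
    intro g hg
    rw [← finsum_mem_eq_toFinset_sum (fun χ : IrrCharacter F => (χ : F → ℂ) 1 * conj ((χ : F → ℂ) g))]
    by_cases hgQ : g ∈ Subgroup.centralizer (Q : Set F)
    · obtain ⟨k, hk⟩ := IsPGroup.iff_orderOf.1 hQ ⟨g, hC hgQ⟩
      rw [← Subgroup.orderOf_coe] at hk
      refine weak_orth hM (blockInd_mem_intRing hM hB) (by simpa using hM.1.ne_one) ?_
      rw [hk]
      exact dvd_pow_self p fun h => hg (orderOf_eq_one_iff.1 (by rw [hk, h, pow_zero]))
    · have h := blockCoeff_eq_zero_of_normal hM hQ hB hgQ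
      rw [blockCoeff, mul_eq_zero] at h
      exact h.resolve_left (inv_ne_zero (Nat.cast_ne_zero.2 Nat.card_pos.ne'))
  obtain ⟨χ₀, hχ₀⟩ := isPBlock_nonempty hM hB
  refine Set.eq_univ_of_forall fun η => ?_
  by_contra hη
  have h : ∑ χ ∈ B.toFinset, (χ : F → ℂ) 1 * classInner (η : F → ℂ) (χ : F → ℂ) = 0 :=
    Finset.sum_eq_zero fun χ hχ => by
      rw [Char.classInner_irr_of_ne η.2 χ.2
        (fun he => hη (Subtype.ext he ▸ Set.mem_toFinset.1 hχ)), mul_zero]
  simp only [classInner, Finset.mul_sum] at h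
  rw [Finset.sum_comm, Finset.sum_eq_single (1 : F)] at h
  · have hval : ∀ χ : IrrCharacter F, (χ : F → ℂ) 1 *
        ((Nat.card F : ℂ)⁻¹ * ((η : F → ℂ) 1 * conj ((χ : F → ℂ) 1))) =
        ((Nat.card F : ℂ)⁻¹ * (η : F → ℂ) 1) *
          (((charDegree (χ : F → ℂ) : ℕ) * charDegree (χ : F → ℂ) : ℕ) : ℂ) := by
      intro χ
      rw [← charDegree_cast χ, map_natCast]
      push_cast
      ring
    rw [Finset.sum_congr rfl fun χ _ => hval χ, ← Finset.mul_sum, ← Nat.cast_sum, mul_eq_zero,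
      Nat.cast_eq_zero, mul_eq_zero, Finset.sum_eq_zero_iff] at h
    rcases h with (h | h) | h
    · exact inv_ne_zero (Nat.cast_ne_zero.2 Nat.card_pos.ne') h
    · exact irr_one_ne_zero η h
    · exact absurd (h χ₀ (Set.mem_toFinset.2 hχ₀)) (Nat.mul_pos (charDegree_pos χ₀) (charDegree_pos χ₀)).ne'
  · intro g _ hg
    refine Eq.trans ?_ (mul_eq_zero_of_right ((Nat.card F : ℂ)⁻¹ * (η : F → ℂ) g) (hz g hg))
    rw [Finset.mul_sum]
    exact Finset.sum_congr rfl fun χ _ => by ring
  · exact fun h' => absurd (Finset.mem_univ _) h'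

theorem isPBlock_univ (hM : IsPModular p M) {Q : Subgroup F} [Q.Normal] (hQ : IsPGroup p Q)
    (hC : Subgroup.centralizer (Q : Set F) ≤ Q) : IsPBlock M (Set.univ : Set (IrrCharacter F)) := by
  have h := isPBlock_blockOf hM (⟨_, Char.isIrrCharacter_of_hom (1 : F →* ℂ)⟩ : IrrCharacter F)
  rwa [block_eq_univ hM hQ hC h] at h

/-- A self-centralising normal Sylow subgroup carries a maximal pair of the only block. -/
theorem exists_maximal (hM : IsPModular p M) {Q : Subgroup F} [Q.Normal] (hQ : IsPGroup p Q)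
    (hC : Subgroup.centralizer (Q : Set F) = Q) (hidx : ¬ p ∣ Q.index) :
    ∃ c : Set (IrrCharacter (Subgroup.centralizer (Q : Set F))),
      IsMaximalBrauerPair p M (Set.univ : Set (IrrCharacter F)) Q c ∧ pairStab M Q c = ⊤ := by
  have := res_charP hM
  set C := Subgroup.centralizer (Q : Set F) with hCdef
  have hCp : IsPGroup p C := hC.symm ▸ hQ
  have huniq : ∀ b : Set (IrrCharacter C), IsPBlock M b → b = Set.univ := fun b hb =>
    block_eq_univ hM (Q := (⊤ : Subgroup C)) (hCp.to_subgroup _) le_top hb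
  have hB := isPBlock_univ hM hQ hC.le
  have hbr : br Q (blk M (Set.univ : Set (IrrCharacter F))) = blk M Set.univ :=
    eq_br_of_normal_top hM hQ (fixed_blk _) (blk_mul_self hM hB)
  obtain ⟨b, hb, hle⟩ := exists_block_le hM (br_blk_central hM Q (Set.univ : Set (IrrCharacter F)))
    (br_blk_mul_self hM hQ hB) (by rw [hbr]; exact blk_ne_zero hM hB)
  have hpair : IsBrauerPairOf p M (Set.univ : Set (IrrCharacter F)) Q b :=
    (isBrauerPairOf_iff hM).2 ⟨⟨hQ, hb⟩, hB, hle⟩
  refine ⟨b, ⟨hpair, fun R g hR hle => ?_⟩, ?_⟩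
  · have hQR : Q ≤ R := subgroup_le_of_subpairLE (b := (⟨R, g⟩ : BrauerPairIdx F)) hle
    refine (Subgroup.eq_of_le_of_card_ge hQR (Nat.le_of_dvd Nat.card_pos ?_)).symm
    have h1 : Nat.card R ∣ Nat.card Q * Q.index := by
      rw [Subgroup.card_mul_index]; exact R.card_subgroup_dvd_card
    obtain ⟨k, hk⟩ := hR.1.1.exists_card_eq
    exact (Nat.Coprime.dvd_of_dvd_mul_right
      (hk ▸ ((hM.1.coprime_iff_not_dvd.2 hidx).pow_left k)) h1)
  · refine eq_top_iff.2 fun x _ => mem_pairStab.2 ?_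
    have hx : x ∈ Subgroup.normalizer (Q : Set F) := by
      rw [Subgroup.normalizer_eq_top]; exact Subgroup.mem_top x
    have hx' : x ∈ Subgroup.normalizer (C : Set F) := mem_normalizer_centralizer hx
    refine ⟨hx, ?_⟩
    show cj x (bIdem M C b) = bIdem M C b
    rw [cj_bIdem hM (mem_normalizer_iff_conj hx') b, huniq _ hb,
      huniq _ (isPBlock_conjImg _ (huniq _ hb ▸ hb))]

end Cfsg.Agent.CycDefect
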