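import Cfsg.Agent.Lib.CycDefect.Isometry
import Cfsg.Agent.Lib.CycDefect.Apply
import Cfsg.Agent.Lib.CycDefect.SelfCentral

/-!
# A block with cyclic defect group and the Frobenius group

* `dec_linear`: a linear character trivial on the kernel has all decomposition numbers one;
* `trivial_inl`: such characters are not exceptional;
* `isometry_frobenius`: the perfect isometry and its signs.
-/

set_option autoImplicit false
set_option maxHeartbeats 1000000
set_option linter.unusedSectionVars false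

open scoped ComplexConjugate

namespace Cfsg.Agent.CycDefect

open Cfsg Cfsg.Agent.Blocks Cfsg.Agent.BrauerPairs Cfsg.Agent.SecondMain Cfsg.Agent.FreeInertial

variable {F : Type*} [Group F] [Finite F] {p : ℕ} [Fact p.Prime] {M : Ideal AlgInt} {Q : Subgroup F}
  {c : Set (IrrCharacter (Subgroup.centralizer (Q : Set F)))}

open scoped Classical in
theorem dec_linear (hM : IsPModular p M) (hmax : IsMaximalBrauerPair p M Set.univ Q c)
    (hcyc : IsCyclic Q) (hC : Subgroup.centralizer (Q : Set F) = Q) (htop : pairStab M Q c = ⊤)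
    {η : IrrCharacter F} (hη : ∀ x ∈ Q, (η : F → ℂ) x = 1) {v : Q} (hv : v ≠ 1) :
    dec p M Q c (Subgroup.zpowers (v : F)) (η : F → ℂ) v = 1 := by
  set K := Subgroup.centralizer (Subgroup.zpowers (v : F) : Set F) with hK
  have := Fintype.ofFinite K
  have hv1 : (v : F) ≠ 1 := fun h => hv (Subtype.ext h)
  have hKQ : K = Q := by
    refine le_antisymm (fun g hg => ?_) fun g hg => SecondMain.mem_centralizer_zpowers_iff.2
      (comm_of_cyclic hcyc v v.2 g hg)
    rw [← hC]
    refine free hM hmax hcyc (htop ▸ Subgroup.mem_top g) v.2 hv1 ?_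
    rw [← (SecondMain.mem_centralizer_zpowers_iff.1 hg).eq, mul_inv_cancel_right]
  have hQp : IsPGroup p Q := hmax.1.1.1
  have hcard : Nat.card K = Nat.card Q := by rw [hKQ]
  have hreg : Finset.univ.filter (fun m : K => ¬ p ∣ orderOf m) = {1} := by
    ext m
    simp only [Finset.mem_filter, Finset.mem_univ, true_and, Finset.mem_singleton]
    refine ⟨fun hm => ?_, fun hm => by rw [hm, orderOf_one]; exact hM.1.not_dvd_one⟩
    obtain ⟨k, hk⟩ := IsPGroup.iff_orderOf.1 hQp ⟨(m : F), hKQ.le m.2⟩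
    rw [← Subgroup.orderOf_coe, Subgroup.orderOf_coe m] at hk
    by_contra hm1
    exact hm (hk ▸ dvd_pow_self p fun h => hm1 (orderOf_eq_one_iff.1 (by rw [hk, h, pow_zero])))
  obtain ⟨θ, -, hth⟩ := exists_th hM hmax (Subgroup.zpowers_le.2 v.2)
  have hcomm : ∀ a b : K, a * b = b * a := fun a b =>
    Subtype.ext (comm_of_cyclic hcyc a (hKQ.le a.2) b (hKQ.le b.2))
  rw [dec_def, regInner_eq_sum, hreg, Finset.sum_singleton, OneMemClass.coe_one, mul_one,
    hη v v.2, hth, show (1 : F) = ((1 : K) : F) from rfl, ext_coe,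
    Char.apply_one_eq_one_of_comm hcomm θ, map_one, mul_one, mul_one, hcard,
    mul_inv_cancel₀ (Nat.cast_ne_zero.2 Nat.card_pos.ne')]

variable {e f : ℕ}

/-- Linear characters trivial on the kernel are not exceptional. -/
theorem trivial_inl (D : Param p M Set.univ Q c e f) (hM : IsPModular p M)
    (hmax : IsMaximalBrauerPair p M Set.univ Q c) (hcyc : IsCyclic Q)
    (hC : Subgroup.centralizer (Q : Set F) = Q) (htop : pairStab M Q c = ⊤) (he : 0 < e) (hf : 2 ≤ f)
    {η η' : IrrCharacter F} (hne : η ≠ η') (hη : ∀ x ∈ Q, (η : F → ℂ) x = 1)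
    (hη' : ∀ x ∈ Q, (η' : F → ℂ) x = 1) {j : Fin f} : D.χ (Sum.inr j) ≠ η := by
  classical
  intro hj
  have := Fintype.ofFinite Q
  let := FreeInertial.commP (comm_of_cyclic hcyc)
  have hI : ∀ (k : Fin f) (l : Q →* ℂˣ), ∑ v : Q, orbSum e (D.rep k) v * (l v⁻¹ : ℂ) =
      if l ∈ orb e (D.rep k) then (Nat.card Q : ℂ) else 0 := by
    intro k l
    simp only [orbSum, Finset.sum_mul]
    rw [Finset.sum_comm, ← Finset.sum_ite_eq' (orb e (D.rep k)) l fun _ => (Nat.card Q : ℂ)]
    refine Finset.sum_congr rfl fun μ _ => ?_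
    rw [Finset.sum_congr rfl fun v _ => show (μ v : ℂ) * (l v⁻¹ : ℂ) = ((μ * l⁻¹) v : ℂ) by
      rw [MonoidHom.mul_apply, MonoidHom.inv_apply, map_inv, Units.val_mul], sum_group]
    refine ite_congr (propext ?_) (fun _ => rfl) fun _ => rfl
    refine ⟨fun h => MonoidHom.ext fun x => ?_, fun h => MonoidHom.ext fun x => ?_⟩
    · have h1 := DFunLike.congr_fun h x
      rw [MonoidHom.mul_apply, MonoidHom.inv_apply, MonoidHom.one_apply] at h1
      exact mul_inv_eq_one.1 h1
    · rw [h, MonoidHom.mul_apply, MonoidHom.inv_apply, MonoidHom.one_apply, mul_inv_cancel]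
  have hone : ∀ k, (1 : Q →* ℂˣ) ∉ orb e (D.rep k) := fun k h => by
    obtain ⟨g, hg, h1⟩ := mem_orb.1 h
    refine D.rep_ne k (MonoidHom.ext fun x => ?_)
    have hg' : Function.Surjective g := fun y => by
      obtain ⟨n, rfl⟩ := Nat.exists_eq_succ_of_ne_zero he.ne'
      exact ⟨(⇑g)^[n] y, by rw [← Function.iterate_succ_apply' (⇑g), hg]⟩
    obtain ⟨y, rfl⟩ := hg' x
    exact (DFunLike.congr_fun h1 y).symm
  have hdisj : ∀ k k', k ≠ k' → D.rep k ∉ orb e (D.rep k') := fun k k' hkk h =>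
    hkk ((D.cover _ (D.rep_ne k)).unique (self_mem_orb _) h)
  have h1 : ∀ v : Q, v ≠ 1 → (D.σ (v : F) : ℂ) = (D.s (Sum.inr j) : ℂ) * orbSum e (D.rep j) v := by
    intro v hv
    rw [← D.dec_inr j v hv, hj, dec_linear hM hmax hcyc hC htop hη hv, mul_one]
  obtain ⟨a, ha⟩ := D.surj η' trivial
  cases a with
  | inl i =>
    -- the orbit sum is constant
    let a := -(D.s (Sum.inr j) : ℂ) * D.s (Sum.inl i)
    have hconst : ∀ v : Q, v ≠ 1 → orbSum e (D.rep j) v = a := by
      intro v hv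
      have h2 := D.dec_inl i v hv
      rw [ha, dec_linear hM hmax hcyc hC htop hη' hv, mul_one, h1 v hv] at h2
      linear_combination (D.s (Sum.inr j) : ℂ) * h2 - orbSum e (D.rep j) v * D.s_mul_self (Sum.inr j)
    have key : ∀ l : Q →* ℂˣ, orbSum e (D.rep j) 1 - a + a * ∑ v : Q, (l v⁻¹ : ℂ) =
        if l ∈ orb e (D.rep j) then (Nat.card Q : ℂ) else 0 := by
      intro l
      have e1 : ∑ v : Q, orbSum e (D.rep j) v * (l v⁻¹ : ℂ) =
          ∑ v : Q, ((if v = 1 then orbSum e (D.rep j) 1 - a else 0) * (l v⁻¹ : ℂ) + a * (l v⁻¹ : ℂ)) :=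
        Finset.sum_congr rfl fun v _ => by
          by_cases hv : v = 1
          · subst hv; rw [if_pos rfl]; ring
          · rw [if_neg hv, hconst v hv]; ring
      rw [← hI, e1, Finset.sum_add_distrib, ← Finset.mul_sum]
      simp [ite_mul]
    have : Nontrivial (Fin f) := Fin.nontrivial_iff_two_le.2 hf
    obtain ⟨k, hk⟩ := exists_ne j
    have hsum : ∀ l : Q →* ℂˣ, ∑ v : Q, (l v⁻¹ : ℂ) = if l = 1 then (Nat.card Q : ℂ) else 0 := by
      intro l
      rw [← sum_group]
      exact Fintype.sum_equiv (Equiv.inv Q) _ _ fun v => rfl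
    have k1 := key (D.rep k)
    rw [hsum, if_neg (D.rep_ne k), if_neg (hdisj k j hk), mul_zero, add_zero] at k1
    have k0 := key 1
    rw [hsum, if_pos rfl, if_neg (hone j), k1, zero_add, mul_eq_zero] at k0
    have hq : (Nat.card Q : ℂ) ≠ 0 := Nat.cast_ne_zero.2 Nat.card_pos.ne'
    have kj := key (D.rep j)
    rw [hsum, if_neg (D.rep_ne j), if_pos (self_mem_orb _), k1, mul_zero, add_zero] at kj
    exact hq kj.symm
  | inr j' =>
    have hjj : j' ≠ j := fun h => hne (by rw [← hj, ← ha, h])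
    have hd : ∀ v : Q, v ≠ 1 → orbSum e (D.rep j') v = orbSum e (D.rep j) v := by
      intro v hv
      have h2 := D.dec_inr j' v hv
      rw [ha, dec_linear hM hmax hcyc hC htop hη' hv, mul_one, h1 v hv, D.s_exc j' j] at h2
      linear_combination -(D.s (Sum.inr j) : ℂ) * h2 +
        (orbSum e (D.rep j) v - orbSum e (D.rep j') v) * D.s_mul_self (Sum.inr j)
    have key : ∀ l : Q →* ℂˣ, orbSum e (D.rep j') 1 - orbSum e (D.rep j) 1 =
        (if l ∈ orb e (D.rep j') then (Nat.card Q : ℂ) else 0) -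
          if l ∈ orb e (D.rep j) then (Nat.card Q : ℂ) else 0 := by
      intro l
      rw [← hI, ← hI, ← Finset.sum_sub_distrib, Finset.sum_eq_single (1 : Q)]
      · simp
      · intro v _ hv
        rw [hd v hv, sub_self]
      · exact fun h => absurd (Finset.mem_univ _) h
    have k0 := key 1
    rw [if_neg (hone j'), if_neg (hone j), sub_self] at k0
    have kj := key (D.rep j)
    rw [k0, if_neg (hdisj j j' (Ne.symm hjj)), if_pos (self_mem_orb _), zero_sub] at kj
    exact (Nat.cast_ne_zero.2 Nat.card_pos.ne' : (Nat.card Q : ℂ) ≠ 0) (neg_eq_zero.1 kj.symm)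

/-- A self-centralising cyclic subgroup of order `p ^ a` in a group of order `p ^ a * e` with
`e ∣ p - 1` is normal with abelian quotient. -/
theorem normal_of_card {Q : Subgroup F} (hQ : IsPGroup p Q) {e : ℕ}
    (hF : Nat.card F = Nat.card Q * e) (he : e ∣ p - 1) : Q.Normal ∧ Q.index = e ∧ ¬ p ∣ Q.index := by
  have hp := (Fact.out : p.Prime)
  have hidx : Q.index = e := Nat.eq_of_mul_eq_mul_left Nat.card_pos (Q.card_mul_index.trans hF)
  have he0 : 0 < e := hidx ▸ Nat.pos_of_ne_zero Subgroup.index_ne_zero_of_finite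
  have hlt : e < p := by
    have := Nat.le_of_dvd (Nat.sub_pos_of_lt hp.one_lt) he
    omega
  have hnd : ¬ p ∣ Q.index := fun h => absurd (Nat.le_of_dvd he0 (hidx ▸ h)) (by omega)
  refine ⟨?_, hidx, hnd⟩
  let S : Sylow p F := hQ.toSylow hnd
  have hcard : Nat.card (Sylow p F) = 1 := by
    have h1 : Nat.card (Sylow p F) ∣ e := hidx ▸ S.card_dvd_index
    have h2 : Nat.card (Sylow p F) % p = 1 % p := card_sylow_modEq_one p F
    have h3 := Nat.le_of_dvd he0 h1
    rwa [Nat.mod_eq_of_lt (by omega), Nat.mod_eq_of_lt hp.one_lt] at h2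
  have h := Sylow.card_eq_index_normalizer S
  rw [hcard] at h
  exact Subgroup.normalizer_eq_top_iff.1 (Subgroup.index_eq_one.1 h.symm)

/-- A group with a cyclic self-centralising normal subgroup has as many linear characters trivial
on it as the index. -/
theorem exists_linear {Q : Subgroup F} [Q.Normal] (hcyc : IsCyclic Q)
    (hC : Subgroup.centralizer (Q : Set F) = Q) :
    ∃ L : Fin Q.index → IrrCharacter F, Function.Injective L ∧
      ∀ i, ∀ x ∈ Q, (L i : F → ℂ) x = 1 := by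
  obtain ⟨u, hu⟩ := hcyc.exists_generator
  have hn : ∀ g : F, g ∈ Subgroup.normalizer (Q : Set F) := fun g => by
    rw [Subgroup.normalizer_eq_top]; exact Subgroup.mem_top g
  have hcomm : ∀ a b : F ⧸ Q, a * b = b * a := by
    rintro ⟨a⟩ ⟨b⟩
    refine (QuotientGroup.eq.2 ?_ : ((a * b : F) : F ⧸ Q) = ((b * a : F) : F ⧸ Q))
    obtain ⟨i, hi⟩ := exists_conj_eq_zpow hu (hn a)
    obtain ⟨j, hj⟩ := exists_conj_eq_zpow hu (hn b)
    have h1 : ∀ (g h : F) (i j : ℤ), g * (u : F) * g⁻¹ = (u : F) ^ i →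
        h * (u : F) * h⁻¹ = (u : F) ^ j → g * h * (u : F) * (g * h)⁻¹ = (u : F) ^ (i * j) := by
      intro g h i j hi hj
      rw [show g * h * (u : F) * (g * h)⁻¹ = g * (h * (u : F) * h⁻¹) * g⁻¹ by group, hj, ← conj_zpow,
        hi, ← zpow_mul]
    have hd : (b * a)⁻¹ * (a * b) ∈ Subgroup.centralizer (Q : Set F) := by
      rw [Subgroup.mem_centralizer_iff]
      intro y hy
      obtain ⟨z, hz⟩ := Subgroup.mem_zpowers_iff.1 (hu ⟨y, hy⟩)
      rw [← show (u : F) ^ z = y by rw [← Subgroup.coe_zpow, hz]]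
      refine (Commute.zpow_left (?_ : Commute (u : F) ((b * a)⁻¹ * (a * b))) z).eq
      have e1 := (h1 a b i j hi hj).trans (mul_comm i j ▸ (h1 b a j i hj hi).symm)
      show (u : F) * ((b * a)⁻¹ * (a * b)) = (b * a)⁻¹ * (a * b) * u
      calc (u : F) * ((b * a)⁻¹ * (a * b))
          = (b * a)⁻¹ * ((b * a) * (u : F) * (b * a)⁻¹) * (a * b) := by group
        _ = (b * a)⁻¹ * ((a * b) * (u : F) * (a * b)⁻¹) * (a * b) := by rw [e1]
        _ = _ := by group
    rw [hC] at hd
    simpa [mul_inv_rev, mul_assoc] using inv_mem hd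
  let : CommGroup (F ⧸ Q) := { (inferInstance : Group (F ⧸ Q)) with mul_comm := hcomm }
  let ε : Fin Q.index ≃ ((F ⧸ Q) →* ℂˣ) := (Finite.equivFinOfCardEq (card_dual (A := F ⧸ Q))).symm
  refine ⟨fun i => ⟨_, Char.isIrrCharacter_of_hom
    ((Units.coeHom ℂ).comp ((ε i).comp (QuotientGroup.mk' Q)))⟩, fun i i' h => ε.injective ?_,
    fun i x hx => ?_⟩
  · refine MonoidHom.ext fun q => ?_
    obtain ⟨g, rfl⟩ := QuotientGroup.mk'_surjective Q q
    exact Units.ext (congrFun (congrArg Subtype.val h) g)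
  · show ((ε i) (QuotientGroup.mk' Q x) : ℂ) = 1
    rw [QuotientGroup.mk'_apply, (QuotientGroup.eq_one_iff x).2 hx, map_one, Units.val_one]

/-- With inertial index one the signs are opposite. -/
theorem sign_inl_of_one {K : Type*} [Group K] [Finite K] {D : Set (IrrCharacter K)} {R : Subgroup K}
    {d : Set (IrrCharacter (Subgroup.centralizer (R : Set K)))} {f : ℕ} (hM : IsPModular p M)
    (E : Param p M D R d 1 f) (j : Fin f) : E.s (Sum.inl 0) = -E.s (Sum.inr j) := by
  have h := E.rel 1 (by simpa using hM.1.ne_one) j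
  rw [Fin.sum_univ_one, ← charDegree_cast, ← charDegree_cast] at h
  have h' : E.s (Sum.inr j) * (charDegree (E.χ (Sum.inr j) : K → ℂ) : ℤ) +
      E.s (Sum.inl 0) * (charDegree (E.χ (Sum.inl 0) : K → ℂ) : ℤ) = 0 :=
    Int.cast_injective (α := ℂ) (by push_cast; exact h)
  have p1 := charDegree_pos (E.χ (Sum.inr j))
  have p2 := charDegree_pos (E.χ (Sum.inl 0))
  rcases E.s_cases (Sum.inr j) with h1 | h1 <;> rcases E.s_cases (Sum.inl 0) with h3 | h3 <;>
    rw [h1, h3] at h' ⊢ <;> omega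

/-- The perfect isometry from the Frobenius group. -/
theorem isometry_frobenius {G : Type*} [Group G] [Finite G] (hM : IsPModular p M)
    {B : Set (IrrCharacter G)} {P : Subgroup G} {b : Set (IrrCharacter (Subgroup.centralizer (P : Set G)))}
    (hmax : IsMaximalBrauerPair p M B P b) (hcyc : IsCyclic P) (hP1 : P ≠ ⊥) {e : ℕ}
    (he : (Subgroup.centralizer (P : Set G)).relIndex (pairStab M P b) = e)
    (hF : Nat.card F = Nat.card P * e) {Q : Subgroup F} (hQ : IsCyclic Q)
    (hQcard : Nat.card Q = Nat.card P) (hQC : Subgroup.centralizer (Q : Set F) = Q) :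
    ∃ (I : IrrCharacter F → IrrCharacter G) (ε : IrrCharacter F → ℤ),
      IsPerfectIsometry p M (Set.univ : Set (IrrCharacter F)) B I ε ∧
      ∀ η η' : IrrCharacter F, (∃ x ∈ Q, (η : F → ℂ) x ≠ (η : F → ℂ) 1) →
        (∃ x ∈ Q, (η' : F → ℂ) x ≠ (η' : F → ℂ) 1) → ε η = ε η' := by
  classical
  obtain ⟨k, hk⟩ := hmax.1.1.1.exists_card_eq
  have hQp : IsPGroup p Q := IsPGroup.of_card (hQcard.trans hk)
  obtain ⟨hQn, hidx, hnd⟩ := normal_of_card hQp (by rw [hF, hQcard] : Nat.card F = Nat.card Q * e)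
    (he ▸ relIndex_dvd hM hmax hcyc hP1)
  obtain ⟨cQ, hmax', htop⟩ := exists_maximal hM hQp hQC hnd
  have heQ : (Subgroup.centralizer (Q : Set F)).relIndex (pairStab M Q cQ) = e := by
    rw [htop, Subgroup.relIndex_top_right, hQC, hidx]
  have hQ1 : Q ≠ ⊥ := fun h => hP1 (Subgroup.card_eq_one.1 (by rw [← hQcard, h, Subgroup.card_bot]))
  obtain ⟨-, f, hf, hqB, -, ⟨DB⟩⟩ := exists_param hM hmax hcyc hP1 he
  obtain ⟨-, f', -, hqF, -, ⟨DC⟩⟩ := exists_param hM hmax' hQ hQ1 heQ
  have he0 : 0 < e := he ▸ Nat.pos_of_ne_zero Subgroup.index_ne_zero_of_finite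
  obtain rfl : f = f' := Nat.eq_of_mul_eq_mul_left he0 (by omega)
  obtain ⟨π, I, ε, hIso, hεI⟩ := exists_isometry hM hmax hmax' hcyc (mulEquivOfCyclicCardEq hQcard) he0
    hf DB DC
  refine ⟨I, ε, hIso, fun η η' hη hη' => ?_⟩
  obtain ⟨a, rfl⟩ := DC.surj η trivial
  obtain ⟨a', rfl⟩ := DC.surj η' trivial
  rw [(hεI a).2, (hεI a').2]
  have hexc : ∀ j j' : Fin f, DB.s (idx π (Sum.inr j)) * DC.s (Sum.inr j) =
      DB.s (idx π (Sum.inr j')) * DC.s (Sum.inr j') := fun j j' => by
    show DB.s (Sum.inr (π j)) * _ = DB.s (Sum.inr (π j')) * _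
    rw [DB.s_exc (π j) (π j'), DC.s_exc j j']
  rcases Nat.lt_or_ge e 2 with h2 | h2
  · -- all signs of a block agree
    obtain rfl : e = 1 := by omega
    have hall : ∀ a, DB.s (idx π a) * DC.s a =
        DB.s (idx π (Sum.inr ⟨0, hf⟩)) * DC.s (Sum.inr ⟨0, hf⟩) := by
      rintro (i | j)
      · obtain rfl : i = 0 := Subsingleton.elim _ _
        show DB.s (Sum.inl 0) * DC.s (Sum.inl 0) = DB.s (Sum.inr (π ⟨0, hf⟩)) * DC.s (Sum.inr ⟨0, hf⟩)
        rw [sign_inl_of_one hM DB (π ⟨0, hf⟩), sign_inl_of_one hM DC ⟨0, hf⟩, neg_mul_neg]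
      · exact hexc j _
    rw [hall a, hall a']
  · obtain ⟨L, hL, hL1⟩ := exists_linear hQ hQC (F := F)
    choose r hr using fun i => DC.surj (L i) trivial
    have hr1 : Function.Injective r := fun i i' h => hL (by rw [← hr i, ← hr i', h])
    have hnot : ∀ a, (∃ x ∈ Q, (DC.χ a : F → ℂ) x ≠ (DC.χ a : F → ℂ) 1) → ∀ i, r i ≠ a := by
      rintro a ⟨x, hx, hne⟩ i rfl
      exact hne (by rw [hr, hL1 i x hx, hL1 i 1 (one_mem Q)])
    rcases Nat.lt_or_ge f 2 with hf2 | hf2
    · obtain rfl : a = a' := by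
        by_contra hne
        have hd : Disjoint (Finset.univ.image r) {a, a'} := by
          rw [Finset.disjoint_left]
          intro x hx hx'
          obtain ⟨i, -, rfl⟩ := Finset.mem_image.1 hx
          rcases Finset.mem_insert.1 hx' with h | h
          · exact hnot a hη i h
          · exact hnot a' hη' i (Finset.mem_singleton.1 h)
        have h := (Finset.card_union_of_disjoint hd).symm.trans_le (Finset.card_le_univ _)
        rw [Finset.card_image_of_injective _ hr1, Finset.card_pair hne, Finset.card_univ,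
          Fintype.card_fin, Fintype.card_sum, Fintype.card_fin, Fintype.card_fin, hidx] at h
        omega
      rfl
    have : Nontrivial (Fin Q.index) := Fin.nontrivial_iff_two_le.2 (hidx ▸ h2)
    have hinl : ∀ i, ∃ i', r i = Sum.inl i' := by
      intro i
      cases h : r i with
      | inl i' => exact ⟨i', rfl⟩
      | inr j =>
        obtain ⟨i₂, hi₂⟩ := exists_ne i
        exact absurd (h ▸ hr i) (trivial_inl DC hM hmax' hQ hQC htop he0 hf2
          (fun hh => hi₂ (hL hh).symm) (hL1 i) (hL1 i₂))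
    choose g hg using hinl
    have hgs : Function.Surjective g :=
      (Finite.injective_iff_surjective_of_equiv (finCongr hidx)).1 fun i i' h =>
        hr1 (by rw [hg, hg, h])
    have hexr : ∀ a, (∃ x ∈ Q, (DC.χ a : F → ℂ) x ≠ (DC.χ a : F → ℂ) 1) → ∃ j, a = Sum.inr j := by
      rintro (i | j) ha
      · obtain ⟨i₀, rfl⟩ := hgs i
        exact absurd (hg i₀) (hnot _ ha i₀)
      · exact ⟨j, rfl⟩
    obtain ⟨j, rfl⟩ := hexr a hη
    obtain ⟨j', rfl⟩ := hexr a' hη'
    exact hexc j j'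

end Cfsg.Agent.CycDefect
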