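import Cfsg.Agent.Lib.CycDefect.HomTrace

/-!
# Existence of maps onto a simple `H`-module which are not traced

* `exists_good_simple`: passing to a simple subquotient;
* `exists_good_irreducible`: a simple `G`-module of the block with such a map onto a given module.
-/

set_option autoImplicit false
set_option maxHeartbeats 1600000
set_option linter.unusedSectionVars false
set_option linter.style.haveILetI false

namespace Cfsg.Agent.CycDefect

open Cfsg.Agent.BrauerPairs Representation

universe w

variable {k : Type*} [Field k] {G : Type*} [Group G] [Finite G] {H : Subgroup G}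
  {S : Type*} [AddCommGroup S] [Module k S] {τ : Representation k H S}

theorem exists_good_simple (a : MonoidAlgebra k G) :
    ∀ (n : ℕ) (X : Type w) [AddCommGroup X] [Module k X] [FiniteDimensional k X]
      (π : Representation k G X), Module.finrank k X = n → π.asAlgebraHom a = 1 →
      (∃ q, IsHom π τ q ∧ NotTraced π τ q) →
      ∃ (d : ℕ) (φ : Representation k G (Fin d → k)), φ.IsIrreducible ∧ φ.asAlgebraHom a = 1 ∧
        ∃ q, IsHom φ τ q ∧ NotTraced φ τ q := by
  classical
  have := Fintype.ofFinite H
  intro n
  induction n using Nat.strong_induction_on with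
  | _ n ih =>
    intro X _ _ _ π hn hE hgood
    obtain ⟨q, hq, hqn⟩ := hgood
    by_cases hirr : ∀ W : Subrepresentation π, W.toSubmodule = ⊥ ∨ W.toSubmodule = ⊤
    · have hX : (⊤ : Submodule k X) ≠ ⊥ := by
        intro h
        refine hqn 0 (LinearMap.ext fun v => ?_)
        have hv : v = 0 := (Submodule.mem_bot k).1 (h ▸ Submodule.mem_top)
        rw [hv, map_zero, map_zero]
      haveI : Nontrivial (Subrepresentation π) := ⟨⟨⊥, ⊤, fun h =>
        hX (congrArg Subrepresentation.toSubmodule h :).symm⟩⟩
      haveI : π.IsIrreducible := ⟨fun W => (hirr W).imp (fun h => Subrepresentation.toSubmodule_injective h)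
        fun h => Subrepresentation.toSubmodule_injective h⟩
      let e := (Module.finBasis k X).equivFun
      refine ⟨_, finModel π, conjRep_irreducible π e, ?_, q.comp e.symm.toLinearMap, fun h v => ?_,
        fun γ hγ => hqn (γ.comp e.toLinearMap) (LinearMap.ext fun v => ?_)⟩
      · rw [finModel, conjRep_asAlgebraHom, hE, Module.End.one_eq_id, LinearEquiv.conj_id]
        rfl
      · show q (e.symm (finModel π (h : G) v)) = _
        rw [show finModel π (h : G) v = e (π (h : G) (e.symm v)) from LinearEquiv.conj_apply_apply e _ v,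
          LinearEquiv.symm_apply_apply, hq]
        rfl
      · have := LinearMap.congr_fun hγ (e v)
        rw [LinearMap.comp_apply, LinearEquiv.coe_coe, LinearEquiv.symm_apply_apply, nmHom_apply] at this
        rw [this, nmHom_apply]
        refine Finset.sum_congr rfl fun h _ => ?_
        rw [show finModel π ((h : G)⁻¹) (e v) = e (π ((h : G)⁻¹) (e.symm (e v))) from
          LinearEquiv.conj_apply_apply e _ _, LinearEquiv.symm_apply_apply]
        rfl
    push Not at hirr
    obtain ⟨W, hW0, hW1⟩ := hirr
    set W' := W.toSubmodule with hW'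
    let πW := W.toRepresentation
    have hEW : ∀ (b : MonoidAlgebra k G) (w : W'),
        ((πW.asAlgebraHom b w : W') : X) = π.asAlgebraHom b (w : X) := by
      intro b w
      induction b using MonoidAlgebra.induction_linear with
      | zero => simp
      | add b c hb hc => simp [map_add, hb, hc]
      | single g t => simp [asAlgebraHom_single]; rfl
    by_cases hcase : NotTraced πW τ (q.comp W'.subtype)
    · refine ih (Module.finrank k W') ?_ W' πW rfl (LinearMap.ext fun w => Subtype.ext ?_)
        ⟨q.comp W'.subtype, fun h v => hq h _, hcase⟩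
      · rw [← hn]; exact Submodule.finrank_lt hW1
      · rw [hEW, hE]; rfl
    simp only [NotTraced, not_forall, not_not] at hcase
    obtain ⟨γ, hγ⟩ := hcase
    obtain ⟨γ', hγ'⟩ := LinearMap.exists_extend γ
    let q2 : X →ₗ[k] S := q - nmHom π τ γ'
    have hkill : W' ≤ LinearMap.ker q2 := by
      intro w hw
      rw [LinearMap.mem_ker, LinearMap.sub_apply, sub_eq_zero, nmHom_apply]
      have h1 := LinearMap.congr_fun hγ ⟨w, hw⟩
      rw [LinearMap.comp_apply, Submodule.subtype_apply, nmHom_apply] at h1
      rw [h1]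
      refine Finset.sum_congr rfl fun h _ => ?_
      exact congrArg (τ h) (LinearMap.congr_fun hγ' (πW ((h : G)⁻¹) ⟨w, hw⟩)).symm
    let πQ := π.quotient W' fun g u hu => W.apply_mem_toSubmodule g hu
    refine ih (Module.finrank k (X ⧸ W')) ?_ (X ⧸ W') πQ rfl ?_ ⟨W'.liftQ q2 hkill, fun h v => ?_, fun γQ hQ => ?_⟩
    · rw [← hn, ← W'.finrank_quotient_add_finrank]
      exact Nat.lt_add_of_pos_right (Nat.pos_of_ne_zero fun h => hW0 (Submodule.finrank_eq_zero.1 h))
    · refine Submodule.linearMap_qext _ (LinearMap.ext fun v => ?_)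
      show πQ.asAlgebraHom a (Submodule.Quotient.mk v) = Submodule.Quotient.mk v
      have hQa : ∀ b : MonoidAlgebra k G, πQ.asAlgebraHom b (Submodule.Quotient.mk v) =
          Submodule.Quotient.mk (π.asAlgebraHom b v) := by
        intro b
        induction b using MonoidAlgebra.induction_linear with
        | zero => simp
        | add b c hb hc => simp [map_add, hb, hc]
        | single g t =>
          rw [asAlgebraHom_single, asAlgebraHom_single, LinearMap.smul_apply, LinearMap.smul_apply,
            Submodule.Quotient.mk_smul]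
          rfl
      rw [hQa, hE]
      rfl
    · obtain ⟨v, rfl⟩ := Submodule.Quotient.mk_surjective W' v
      show q2 (π (h : G) v) = τ h (q2 v)
      rw [LinearMap.sub_apply, LinearMap.sub_apply, map_sub, hq, isHom_nmHom γ' h v]
    · refine hqn (γ' + γQ.comp W'.mkQ) (LinearMap.ext fun v => ?_)
      have h1 := LinearMap.congr_fun hQ (Submodule.Quotient.mk v)
      rw [nmHom_apply] at h1
      have h2 : q v = q2 v + nmHom π τ γ' v := by simp [q2]
      rw [h2, show q2 v = _ from h1, nmHom_apply, nmHom_apply, ← Finset.sum_add_distrib]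
      refine Finset.sum_congr rfl fun h _ => ?_
      rw [add_comm, ← map_add]
      rfl

variable {p : ℕ} [Fact p.Prime] [CharP k p] [FiniteDimensional k S]

/-- A map onto `S` with a section through the idempotent is not traced on the image. -/
theorem exists_good_of_section {a : MonoidAlgebra k G} (ha : Fixed ⊤ a) (haa : a * a = a) {z : G}
    (hz : orderOf z = p) (hzH : z ∈ H)
    (hτz : ∀ h : H, (h : G) ∈ Subgroup.zpowers z → τ h = 1)
    {X : Type w} [AddCommGroup X] [Module k X] [FiniteDimensional k X] (π : Representation k G X)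
    (ev : X →ₗ[k] S) (sF : S →ₗ[k] X) (hev : IsHom π τ ev)
    (hsF : ∀ (h : H) (s : S), sF (τ h s) = π (h : G) (sF s))
    (hqs : ∀ s, ev (π.asAlgebraHom a (sF s)) = s) {s₀ : S} (hs₀ : s₀ ≠ 0) :
    ∃ (d : ℕ) (φ : Representation k G (Fin d → k)), φ.IsIrreducible ∧ φ.asAlgebraHom a = 1 ∧
      ∃ q, IsHom φ τ q ∧ NotTraced φ τ q := by
  classical
  have := Fintype.ofFinite H
  have hEπ : ∀ g (F : X), π g (π.asAlgebraHom a F) = π.asAlgebraHom a (π g F) := fun g F =>
    LinearMap.congr_fun (asAlgebraHom_comm_of_fixed π ha g) F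
  let W : Subrepresentation π := ⟨LinearMap.range (π.asAlgebraHom a), fun g F hF => by
    obtain ⟨F', rfl⟩ := hF
    exact ⟨π g F', (hEπ g F').symm⟩⟩
  set W' := W.toSubmodule with hW'
  let πW := W.toRepresentation
  have hEW : ∀ (b : MonoidAlgebra k G) (w : W'),
      ((πW.asAlgebraHom b w : W') : X) = π.asAlgebraHom b (w : X) := by
    intro b w
    induction b using MonoidAlgebra.induction_linear with
    | zero => simp
    | add b c hb hc => simp [map_add, hb, hc]
    | single g t => simp [asAlgebraHom_single]; rfl
  let sec : S →ₗ[k] W' := ((π.asAlgebraHom a).comp sF).codRestrict _ fun s => ⟨sF s, rfl⟩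
  have hsec : ∀ (h : H) (s : S), sec (τ h s) = πW (h : G) (sec s) := fun h s => Subtype.ext (by
    show π.asAlgebraHom a (sF (τ h s)) = π (h : G) (π.asAlgebraHom a (sF s))
    rw [hsF, hEπ])
  have hZp : IsPGroup p (Subgroup.zpowers z) :=
    IsPGroup.of_card (n := 1) (by rw [Nat.card_zpowers, hz, pow_one])
  refine exists_good_simple a (Module.finrank k W') W' πW rfl (LinearMap.ext fun w => Subtype.ext ?_)
    ⟨ev.comp W'.subtype, fun h v => hev h _, fun γ hγ => hs₀ ?_⟩
  · rw [hEW, Module.End.one_apply]
    obtain ⟨F', hF'⟩ := w.2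
    rw [← hF', ← Module.End.mul_apply, ← map_mul, haa]
  -- the composite with the section is a trace over `H`, hence zero
  have h1 := LinearMap.congr_fun hγ (sec s₀)
  rw [LinearMap.comp_apply, show W'.subtype (sec s₀) = π.asAlgebraHom a (sF s₀) from rfl, hqs,
    nmHom_apply] at h1
  rw [h1]
  let _ : MulAction (Subgroup.zpowers z) H :=
    MulAction.compHom H (Subgroup.inclusion (Subgroup.zpowers_le.2 hzH))
  rw [sum_eq_sum_fixed (k := k) hZp (fun h : H => τ h (γ (πW ((h : G)⁻¹) (sec s₀))))]
  · refine Finset.sum_eq_zero fun h hh => ?_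
    exfalso
    have h2 := congrArg Subtype.val ((Finset.mem_filter.1 hh).2 ⟨z, Subgroup.mem_zpowers z⟩)
    have h3 : z * (h : G) = h := h2
    rw [mul_eq_right] at h3
    rw [h3, orderOf_one] at hz
    exact (Fact.out : p.Prime).one_lt.ne hz
  · intro u h
    set u' : H := Subgroup.inclusion (Subgroup.zpowers_le.2 hzH) u
    show τ (u' * h) (γ (πW (((u' * h : H) : G)⁻¹) (sec s₀))) = _
    rw [map_mul τ, hτz u' u.2, one_mul, Subgroup.coe_mul, mul_inv_rev, map_mul πW,
      Module.End.mul_apply, show ((u' : H) : G)⁻¹ = ((u'⁻¹ : H) : G) from (Subgroup.coe_inv H u').symm, ← hsec u'⁻¹, hτz u'⁻¹ (inv_mem u.2), Module.End.one_apply]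


/-- A simple module of the block with a map onto `S` which is not traced. -/
theorem exists_good_irreducible {a : MonoidAlgebra k G} (ha : Fixed ⊤ a) (haa : a * a = a) {z : G}
    (hz : orderOf z = p) (hzH : z ∈ H)
    (hτz : ∀ h : H, (h : G) ∈ Subgroup.zpowers z → τ h = 1)
    (hact : actH τ (br (Subgroup.zpowers z) a) = 1) {s₀ : S} (hs₀ : s₀ ≠ 0) :
    ∃ (d : ℕ) (φ : Representation k G (Fin d → k)), φ.IsIrreducible ∧ φ.asAlgebraHom a = 1 ∧
      ∃ q, IsHom φ τ q ∧ NotTraced φ τ q := by
  classical
  have := Fintype.ofFinite H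
  have := Fintype.ofFinite G
  let Ind : Submodule k (G → S) :=
    { carrier := {F | ∀ (h : H) (y : G), F ((h : G) * y) = τ h (F y)}
      add_mem' := fun {F F'} hF hF' h y => by simp only [Pi.add_apply, hF h y, hF' h y, map_add]
      zero_mem' := fun h y => by simp only [Pi.zero_apply, map_zero]
      smul_mem' := fun c F hF h y => by simp only [Pi.smul_apply, hF h y, map_smul] }
  let π : Representation k G Ind :=
    { toFun := fun g => LinearMap.codRestrict Ind
        ((LinearMap.funLeft k S (· * g)).comp Ind.subtype) fun F h y => by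
          show (F : G → S) ((h : G) * y * g) = τ h ((F : G → S) (y * g))
          rw [mul_assoc]
          exact F.2 h (y * g)
      map_one' := LinearMap.ext fun F => Subtype.ext (funext fun y =>
        congrArg (F : G → S) (mul_one y))
      map_mul' := fun g g' => LinearMap.ext fun F => Subtype.ext (funext fun y =>
        congrArg (F : G → S) (mul_assoc y g g').symm) }
  haveI : Finite G := inferInstance
  have heval : ∀ (b : MonoidAlgebra k G) (F : Ind) (y : G),
      (π.asAlgebraHom b F : G → S) y = ∑ g, b.coeff g • (F : G → S) (y * g) := by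
    intro b F y
    induction b using MonoidAlgebra.induction_linear with
    | zero => simp
    | add b c hb hc =>
      simp only [map_add, LinearMap.add_apply, Submodule.coe_add, Pi.add_apply, hb, hc,
        MonoidAlgebra.coeff_add, Finsupp.add_apply, add_smul, Finset.sum_add_distrib]
    | single g t =>
      rw [asAlgebraHom_single, LinearMap.smul_apply]
      simp only [MonoidAlgebra.coeff_single, Finsupp.single_apply, ite_smul, zero_smul,
        Finset.sum_ite_eq, Finset.mem_univ, if_true]
      rfl
  let ev : Ind →ₗ[k] S := (LinearMap.proj (1 : G)).comp Ind.subtype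
  let sF : S →ₗ[k] Ind :=
    { toFun := fun s => ⟨fun y => if hy : y ∈ H then τ ⟨y, hy⟩ s else 0, fun h y => by
        beta_reduce
        by_cases hy : y ∈ H
        · rw [dif_pos (H.mul_mem h.2 hy), dif_pos hy, ← Module.End.mul_apply, ← map_mul]
          rfl
        · rw [dif_neg hy, dif_neg (fun h' => hy ((H.mul_mem_cancel_left h.2).1 h')), map_zero]⟩
      map_add' := fun s t => Subtype.ext (funext fun y => by
        by_cases hy : y ∈ H
        · simp [dif_pos hy]
        · simp [dif_neg hy])
      map_smul' := fun c s => Subtype.ext (funext fun y => by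
        by_cases hy : y ∈ H
        · simp [dif_pos hy]
        · simp [dif_neg hy]) }
  have hsF : ∀ (h : H) (s : S), sF (τ h s) = π (h : G) (sF s) := by
    intro h s
    refine Subtype.ext (funext fun y => ?_)
    show (if hy : y ∈ H then τ ⟨y, hy⟩ (τ h s) else 0) =
      if hy : y * (h : G) ∈ H then τ ⟨y * (h : G), hy⟩ s else 0
    by_cases hy : y ∈ H
    · rw [dif_pos hy, dif_pos (H.mul_mem hy h.2), ← Module.End.mul_apply, ← map_mul]
      rfl
    · rw [dif_neg hy, dif_neg (fun h' => hy ((H.mul_mem_cancel_right h.2).1 h'))]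
  -- `a` acts on `S` as its Brauer image
  have hZp : IsPGroup p (Subgroup.zpowers z) :=
    IsPGroup.of_card (n := 1) (by rw [Nat.card_zpowers, hz, pow_one])
  have hfix : actH τ a = 1 := by
    let _ : MulAction (Subgroup.zpowers z) H :=
      { smul := fun u h => ⟨(u : G) * h * (u : G)⁻¹,
          H.mul_mem (H.mul_mem (Subgroup.zpowers_le.2 hzH u.2) h.2)
            (H.inv_mem (Subgroup.zpowers_le.2 hzH u.2))⟩
        one_smul := fun h => Subtype.ext (by
          show ((1 : Subgroup.zpowers z) : G) * h * ((1 : Subgroup.zpowers z) : G)⁻¹ = h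
          simp)
        mul_smul := fun u v h => Subtype.ext (by
          show ((u * v : Subgroup.zpowers z) : G) * h * ((u * v : Subgroup.zpowers z) : G)⁻¹ =
            (u : G) * ((v : G) * h * (v : G)⁻¹) * (u : G)⁻¹
          rw [Subgroup.coe_mul]; group) }
    rw [← hact, actH_def, actH_def, sum_eq_sum_fixed (k := k) hZp (fun h : H => a.coeff (h : G) • τ h)]
    · rw [Finset.sum_filter]
      refine Finset.sum_congr rfl fun h _ => ?_
      have hiff : h ∈ MulAction.fixedPoints (Subgroup.zpowers z) H ↔
          (h : G) ∈ Subgroup.centralizer (Subgroup.zpowers z : Set G) := by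
        rw [Subgroup.mem_centralizer_iff]
        constructor
        · intro hh u hu
          exact mul_inv_eq_iff_eq_mul.1 (congrArg Subtype.val (hh ⟨u, hu⟩))
        · intro hh u
          refine Subtype.ext ?_
          show (u : G) * h * (u : G)⁻¹ = h
          rw [hh u u.2, mul_inv_cancel_right]
      by_cases hh : h ∈ MulAction.fixedPoints (Subgroup.zpowers z) H
      · rw [if_pos hh, coeff_br, if_pos (hiff.1 hh)]
      · rw [if_neg hh, coeff_br, if_neg fun h' => hh (hiff.2 h'), zero_smul]
    · intro u h
      show a.coeff ((u : G) * h * (u : G)⁻¹) • τ ⟨(u : G) * h * (u : G)⁻¹, _⟩ = a.coeff (h : G) • τ h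
      rw [coeff_conj_of_fixed ha (Subgroup.mem_top (u : G))]
      congr 1
      set u' : H := ⟨u, Subgroup.zpowers_le.2 hzH u.2⟩
      rw [show (⟨(u : G) * h * (u : G)⁻¹, _⟩ : H) = u' * h * u'⁻¹ from rfl, map_mul, map_mul,
        hτz u' u.2, hτz u'⁻¹ (inv_mem u.2), one_mul, mul_one]
  have hqs : ∀ s, ev (π.asAlgebraHom a (sF s)) = s := by
    intro s
    show (π.asAlgebraHom a (sF s) : G → S) 1 = s
    rw [heval]
    simp only [one_mul]
    have : ∀ g : G, a.coeff g • ((sF s : Ind) : G → S) g =
        if hg : g ∈ H then a.coeff g • τ ⟨g, hg⟩ s else 0 := fun g => by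
      show a.coeff g • (if hy : g ∈ H then τ ⟨g, hy⟩ s else 0) = _
      by_cases hg : g ∈ H
      · rw [dif_pos hg, dif_pos hg]
      · rw [dif_neg hg, dif_neg hg, smul_zero]
    rw [Finset.sum_congr rfl fun g _ => this g, ← Finset.sum_subset
      (Finset.subset_univ (Finset.univ.image fun h : H => (h : G)))
      (fun g _ hg => dif_neg fun h => hg (Finset.mem_image.2 ⟨⟨g, h⟩, Finset.mem_univ _, rfl⟩)),
      Finset.sum_image fun a _ b _ h => Subtype.ext h]
    simp only [SetLike.coe_mem, dite_true, Subtype.coe_eta]
    have h1 := LinearMap.congr_fun hfix s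
    rw [actH_def, LinearMap.sum_apply] at h1
    simpa using h1
  have hhom : IsHom π τ ev := fun h F => by
    show ((F : Ind) : G → S) (1 * (h : G)) = τ h (((F : Ind) : G → S) 1)
    rw [one_mul, ← (F : Ind).2 h 1, mul_one]
  exact exists_good_of_section ha haa hz hzH hτz π ev sF hhom hsF hqs hs₀

end Cfsg.Agent.CycDefect
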