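import Cfsg.Agent.Lib.Star.Prim

/-!
# Relative traces from a defect group

* `relTr_add`, `relTr_smul`, `relTr_mul_eq_of_vanish`;
* `exists_relTr_of_br`: an invariant element whose Brauer images live only below the conjugates of
  `P` is a relative trace from `P`.
-/

set_option autoImplicit false
set_option maxHeartbeats 1000000
set_option linter.unusedSectionVars false

namespace Cfsg.Agent.CycDefect

open Cfsg Cfsg.Agent.Blocks Cfsg.Agent.BrauerPairs Cfsg.Agent.Star

variable {G : Type*} [Group G] [Finite G]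

section ring

variable {k : Type*} [CommRing k]

theorem relTr_add (R T : Subgroup G) (a b : MonoidAlgebra k G) :
    relTr R T (a + b) = relTr R T a + relTr R T b := by
  have := Fintype.ofFinite (T ⧸ R.subgroupOf T)
  simp only [relTr_def, map_add, Finset.sum_add_distrib]

theorem relTr_smul (R T : Subgroup G) (c : k) (a : MonoidAlgebra k G) :
    relTr R T (c • a) = c • relTr R T a := by
  have := Fintype.ofFinite (T ⧸ R.subgroupOf T)
  simp only [relTr_def, cj_smul, Finset.smul_sum]

theorem relTr_zero (R T : Subgroup G) : relTr R T (0 : MonoidAlgebra k G) = 0 := by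
  have := Fintype.ofFinite (T ⧸ R.subgroupOf T)
  simp only [relTr_def, map_zero, Finset.sum_const_zero]

/-- Cosets killed on the right may be left out of a relative trace. -/
theorem relTr_mul_eq_of_vanish {P C N : Subgroup G} (hCN : C ≤ N) {c e : MonoidAlgebra k G}
    (hc : Fixed P c) (h : ∀ t ∈ N, t ∉ C → cj t c * e = 0) (hPC : P ≤ C) :
    relTr P N c * e = relTr P C c * e := by
  classical
  have := Fintype.ofFinite (N ⧸ P.subgroupOf N)
  have := Fintype.ofFinite (C ⧸ P.subgroupOf C)
  have hmk : ∀ t : N, (((QuotientGroup.mk t : N ⧸ P.subgroupOf N).out : N) : G) ∈ C ↔ (t : G) ∈ C := by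
    intro t
    obtain ⟨r, hr⟩ := QuotientGroup.mk_out_eq_mul (P.subgroupOf N) t
    rw [hr, Subgroup.coe_mul]
    exact C.mul_mem_cancel_right (hPC (Subgroup.mem_subgroupOf.1 r.2))
  rw [relTr_def, relTr_def, Finset.sum_mul, Finset.sum_mul,
    ← Finset.sum_filter_add_sum_filter_not Finset.univ (fun q : N ⧸ P.subgroupOf N => ((q.out : N) : G) ∈ C),
    Finset.sum_eq_zero (s := Finset.univ.filter fun q : N ⧸ P.subgroupOf N => ¬ ((q.out : N) : G) ∈ C)
      (fun q hq => h _ q.out.2 (Finset.mem_filter.1 hq).2), add_zero]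
  symm
  refine Finset.sum_bij (fun (n : C ⧸ P.subgroupOf C) _ =>
    (QuotientGroup.mk (Subgroup.inclusion hCN n.out) : N ⧸ P.subgroupOf N))
    (fun n _ => Finset.mem_filter.2 ⟨Finset.mem_univ _, (hmk _).2 n.out.2⟩) ?_ ?_ ?_
  · intro a _ b _ hab
    rw [← a.out_eq, ← b.out_eq]
    show (QuotientGroup.mk a.out : C ⧸ _) = QuotientGroup.mk b.out
    rw [QuotientGroup.eq, Subgroup.mem_subgroupOf] at hab ⊢
    exact hab
  · intro q hq
    induction q using QuotientGroup.induction_on with
    | H t =>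
      have ht : (t : G) ∈ C := (hmk t).1 (Finset.mem_filter.1 hq).2
      refine ⟨QuotientGroup.mk (⟨t, ht⟩ : C), Finset.mem_univ _, ?_⟩
      obtain ⟨r, hr⟩ := QuotientGroup.mk_out_eq_mul (P.subgroupOf C) (⟨t, ht⟩ : C)
      rw [hr, QuotientGroup.eq, Subgroup.mem_subgroupOf]
      simpa using inv_mem (Subgroup.mem_subgroupOf.1 r.2)
  · intro n _
    rw [cj_out hc]
    rfl

end ring

variable {k : Type*} [Field k] {p : ℕ} [Fact p.Prime] [CharP k p]

/-- An invariant element is a relative trace from `P` when its Brauer images live only below the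
conjugates of `P`. -/
theorem exists_relTr_of_br {P H : Subgroup G} (hPH : P ≤ H) {z : MonoidAlgebra k G} (hz : Fixed H z)
    (hbr : ∀ R : Subgroup G, IsPGroup p R → R ≤ H → br R z ≠ 0 → ∃ g ∈ H, R ≤ conjSub g P) :
    ∃ c : MonoidAlgebra k G, Fixed P c ∧ relTr P H c = z ∧
      ∀ x, c.coeff x ≠ 0 → z.coeff x ≠ 0 := by
  classical
  have := Fintype.ofFinite G
  induction hn : z.coeff.support.card using Nat.strong_induction_on generalizing z with
  | _ n ih =>
  by_cases h0 : z = 0
  · exact ⟨0, fixed_zero, by rw [relTr_zero, h0], fun x hx => absurd rfl hx⟩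
  obtain ⟨x₀, hx₀⟩ : ∃ x, z.coeff x ≠ 0 := by
    by_contra hno
    push Not at hno
    exact h0 (MonoidAlgebra.coeff_injective (Finsupp.ext hno))
  set Cx := H ⊓ Subgroup.centralizer ({x₀} : Set G) with hCx
  obtain ⟨R⟩ := (inferInstance : Nonempty (Sylow p Cx))
  set R' := (R : Subgroup Cx).map Cx.subtype with hR'
  have hR'p : IsPGroup p R' := R.2.map _
  have hR'le : R' ≤ Cx := Subgroup.map_subtype_le _
  have hne : br R' z ≠ 0 := by
    intro h
    have h1 := congrArg (fun w : MonoidAlgebra k G => w.coeff x₀) h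
    simp only [coeff_br, MonoidAlgebra.coeff_zero, Finsupp.zero_apply] at h1
    rw [if_pos (le_centralizer_singleton.1 (hR'le.trans inf_le_right))] at h1
    exact hx₀ h1
  obtain ⟨g, hg, hgR⟩ := hbr R' hR'p (hR'le.trans inf_le_left) hne
  set x := g⁻¹ * x₀ * g with hx
  set C := H ⊓ Subgroup.centralizer ({x} : Set G) with hC
  have hxx : ∀ u, u ∈ C ↔ g * u * g⁻¹ ∈ Cx := by
    intro u
    rw [hC, hCx, Subgroup.mem_inf, Subgroup.mem_inf, Subgroup.mem_centralizer_singleton_iff,
      Subgroup.mem_centralizer_singleton_iff]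
    refine and_congr ⟨fun h => H.mul_mem (H.mul_mem hg h) (H.inv_mem hg), fun h => by
      have := H.mul_mem (H.mul_mem (H.inv_mem hg) h) hg
      simpa [mul_assoc] using this⟩ ?_
    constructor
    · intro h
      calc g * u * g⁻¹ * x₀ = g * (u * x) * g⁻¹ := by rw [hx]; group
        _ = x₀ * (g * u * g⁻¹) := by rw [h, hx]; group
    · intro h
      calc u * x = g⁻¹ * (g * u * g⁻¹ * x₀) * g := by rw [hx]; group
        _ = x * u := by rw [h, hx]; group
  have hidx : ¬ p ∣ (P.subgroupOf C).index := by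
    intro hdvd
    have hle : R'.map (MulAut.conj g⁻¹).toMonoidHom ≤ P ⊓ C := by
      rintro _ ⟨r, hr, rfl⟩
      refine ⟨?_, (hxx _).2 ?_⟩
      · have := mem_conjSub.1 (hgR hr)
        simpa [mul_assoc] using this
      · have := hR'le hr
        simpa [mul_assoc] using this
    have hcC : Nat.card C = Nat.card Cx := Nat.card_congr
      { toFun := fun u => ⟨g * u * g⁻¹, (hxx u).1 u.2⟩
        invFun := fun u => ⟨g⁻¹ * u * g, (hxx _).2 (by simpa [mul_assoc] using u.2)⟩
        left_inv := fun u => Subtype.ext (by simp [mul_assoc])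
        right_inv := fun u => Subtype.ext (by simp [mul_assoc]) }
    have hdR : p ^ (Nat.card Cx).factorization p ∣ Nat.card (P.subgroupOf C) := by
      have h1 : Nat.card (R'.map (MulAut.conj g⁻¹).toMonoidHom) = p ^ (Nat.card Cx).factorization p := by
        rw [← Nat.card_congr (Subgroup.equivMapOfInjective R' _ (MulEquiv.injective _)).toEquiv, hR',
          ← Nat.card_congr (Subgroup.equivMapOfInjective (R : Subgroup Cx) _
            (Subgroup.subtype_injective _)).toEquiv]
        exact R.card_eq_multiplicity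
      rw [← h1, ← Subgroup.inf_subgroupOf_right, Nat.card_congr
        (Subgroup.subgroupOfEquivOfLe (inf_le_right : P ⊓ C ≤ C)).toEquiv]
      exact Subgroup.card_dvd_of_le hle
    obtain ⟨a, ha⟩ := hdR
    obtain ⟨b, hb⟩ := hdvd
    refine Nat.pow_succ_factorization_not_dvd (Nat.card_pos (α := Cx)).ne' (Fact.out : p.Prime)
      ⟨a * b, ?_⟩
    calc Nat.card Cx = Nat.card (P.subgroupOf C) * (P.subgroupOf C).index := by
          rw [Subgroup.card_mul_index, hcC]
      _ = _ := by rw [ha, hb, pow_succ]; ring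
  have hidx0 : ((P.subgroupOf C).index : k) ≠ 0 := by
    rwa [Ne, CharP.cast_eq_zero_iff k p]
  have hzx : z.coeff x = z.coeff x₀ := by
    rw [hx]
    simpa using coeff_conj_of_fixed hz (H.inv_mem hg) x₀
  -- the orbit of `x`
  let o : MonoidAlgebra k G := MonoidAlgebra.ofCoeff (Finsupp.equivFunOnFinite.symm fun y =>
    if ∃ u ∈ P, u * x * u⁻¹ = y then 1 else 0)
  have ho : ∀ y, o.coeff y = if ∃ u ∈ P, u * x * u⁻¹ = y then 1 else 0 := fun y => by simp [o]
  have hofix : Fixed P o := by
    intro v hv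
    ext y
    rw [coeff_cj, ho, ho]
    refine if_congr ⟨?_, ?_⟩ rfl rfl
    · rintro ⟨u, hu, h⟩
      exact ⟨v * u, mul_mem hv hu, by
        calc v * u * x * (v * u)⁻¹ = v * (u * x * u⁻¹) * v⁻¹ := by group
          _ = y := by rw [h]; group⟩
    · rintro ⟨u, hu, h⟩
      exact ⟨v⁻¹ * u, mul_mem (inv_mem hv) hu, by
        calc v⁻¹ * u * x * (v⁻¹ * u)⁻¹ = v⁻¹ * (u * x * u⁻¹) * v := by group
          _ = v⁻¹ * y * v := by rw [h]⟩
  have := Fintype.ofFinite (H ⧸ P.subgroupOf H)
  have htr : ∀ y, (relTr P H o).coeff y =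
      if ∃ h ∈ H, h * x * h⁻¹ = y then ((P.subgroupOf C).index : k) else 0 := by
    intro y
    rw [relTr_def, MonoidAlgebra.coeff_sum, Finsupp.finsetSum_apply]
    simp only [coeff_cj, ho, Finset.sum_boole]
    split_ifs with hy
    · obtain ⟨h, hh, rfl⟩ := hy
      congr 1
      have := Fintype.ofFinite (C ⧸ P.subgroupOf C)
      rw [Subgroup.index, Nat.card_eq_fintype_card, ← Finset.card_univ]
      symm
      let φ : C ⧸ P.subgroupOf C → H ⧸ P.subgroupOf H := fun c =>
        QuotientGroup.mk (⟨h * (c.out : C), mul_mem hh c.out.2.1⟩ : H)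
      refine Finset.card_bij (fun c _ => φ c) ?_ ?_ ?_
      · intro c _
        refine Finset.mem_filter.2 ⟨Finset.mem_univ _, ?_⟩
        obtain ⟨r, hr⟩ := QuotientGroup.mk_out_eq_mul (P.subgroupOf H)
          (⟨h * (c.out : C), mul_mem hh c.out.2.1⟩ : H)
        have hcx : ((c.out : C) : G) * x = x * (c.out : C) :=
          Subgroup.mem_centralizer_singleton_iff.1 c.out.2.2
        refine ⟨((r : H) : G)⁻¹, inv_mem (Subgroup.mem_subgroupOf.1 r.2), ?_⟩
        simp only [φ, hr, Subgroup.coe_mul]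
        rw [show ((h * ((c.out : C) : G)) * ((r : H) : G))⁻¹ * (h * x * h⁻¹) *
            (h * ((c.out : C) : G) * ((r : H) : G)) =
          ((r : H) : G)⁻¹ * (((c.out : C) : G)⁻¹ * (x * (c.out : C))) * (r : H) by group, ← hcx]
        group
      · intro a _ b _ hab
        rw [← a.out_eq, ← b.out_eq]
        show (QuotientGroup.mk a.out : C ⧸ _) = QuotientGroup.mk b.out
        rw [QuotientGroup.eq, Subgroup.mem_subgroupOf] at hab ⊢
        simpa [mul_assoc] using hab
      · intro q hq
        obtain ⟨-, u, hu, huq⟩ := Finset.mem_filter.1 hq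
        set t : G := ((q.out : H) : G) with ht
        have hcm : h⁻¹ * t * u ∈ C := by
          refine Subgroup.mem_inf.2 ⟨mul_mem (mul_mem (inv_mem hh) q.out.2) (hPH hu),
            Subgroup.mem_centralizer_singleton_iff.2 ?_⟩
          calc h⁻¹ * t * u * x = h⁻¹ * t * (u * x * u⁻¹) * u := by group
            _ = h⁻¹ * t * (t⁻¹ * (h * x * h⁻¹) * t) * u := by rw [huq]
            _ = x * (h⁻¹ * t * u) := by group
        refine ⟨QuotientGroup.mk (⟨_, hcm⟩ : C), Finset.mem_univ _, ?_⟩
        obtain ⟨r, hr⟩ := QuotientGroup.mk_out_eq_mul (P.subgroupOf C) (⟨_, hcm⟩ : C)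
        simp only [φ, hr, Subgroup.coe_mul]
        conv_rhs => rw [← q.out_eq]
        show (QuotientGroup.mk _ : H ⧸ _) = QuotientGroup.mk q.out
        rw [QuotientGroup.eq, Subgroup.mem_subgroupOf]
        have hr' : ((r : C) : G) ∈ P := Subgroup.mem_subgroupOf.1 r.2
        simpa [mul_assoc, ← ht] using mul_mem (inv_mem hr') (inv_mem hu)
    · rw [Finset.filter_false_of_mem, Finset.card_empty, Nat.cast_zero]
      intro q _ hu
      obtain ⟨u, hu, h⟩ := hu
      refine hy ⟨(q.out : H) * u, mul_mem q.out.2 (hPH hu), ?_⟩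
      calc ((q.out : H) : G) * u * x * (((q.out : H) : G) * u)⁻¹
          = ((q.out : H) : G) * (u * x * u⁻¹) * ((q.out : H) : G)⁻¹ := by group
        _ = y := by rw [h]; group
  set a : k := z.coeff x / ((P.subgroupOf C).index : k) with ha
  set z' := z - relTr P H (a • o) with hz'
  have hz'fix : Fixed H z' := fixed_sub hz (fixed_relTr (fixed_smul hofix a))
  have hcls : ∀ y, (∃ h ∈ H, h * x * h⁻¹ = y) → z'.coeff y = 0 := by
    rintro y ⟨h, hh, rfl⟩
    rw [hz', MonoidAlgebra.coeff_sub, Finsupp.sub_apply, relTr_smul, MonoidAlgebra.coeff_smul,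
      Finsupp.smul_apply, htr, if_pos ⟨h, hh, rfl⟩, coeff_conj_of_fixed hz hh, smul_eq_mul, ha,
      div_mul_cancel₀ _ hidx0, sub_self]
  have hout : ∀ y, (¬ ∃ h ∈ H, h * x * h⁻¹ = y) → z'.coeff y = z.coeff y := by
    intro y hy
    rw [hz', MonoidAlgebra.coeff_sub, Finsupp.sub_apply, relTr_smul, MonoidAlgebra.coeff_smul,
      Finsupp.smul_apply, htr, if_neg hy, smul_zero, sub_zero]
  have hsub : ∀ y, z'.coeff y ≠ 0 → z.coeff y ≠ 0 := fun y hy => by
    by_cases hy' : ∃ h ∈ H, h * x * h⁻¹ = y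
    · exact absurd (hcls y hy') hy
    · rwa [← hout y hy']
  have hbr' : ∀ R : Subgroup G, IsPGroup p R → R ≤ H → br R z' ≠ 0 → ∃ g ∈ H, R ≤ conjSub g P := by
    intro R hR hRH hne'
    refine hbr R hR hRH fun h => hne' ?_
    ext y
    have h1 := congrArg (fun w : MonoidAlgebra k G => w.coeff y) h
    simp only [coeff_br, MonoidAlgebra.coeff_zero, Finsupp.zero_apply] at h1 ⊢
    split_ifs at h1 ⊢ with hy
    · by_contra hne0
      exact hsub y hne0 h1
    · rfl
  have hlt : z'.coeff.support.card < n := by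
    rw [← hn]
    refine Finset.card_lt_card (Finset.ssubset_iff_subset_ne.2 ⟨fun y hy => ?_, fun he => ?_⟩)
    · rw [Finsupp.mem_support_iff] at hy ⊢
      exact hsub y hy
    · have hmem : x ∈ z'.coeff.support := by
        rw [he, Finsupp.mem_support_iff, hzx]
        exact hx₀
      exact Finsupp.mem_support_iff.1 hmem (hcls x ⟨1, H.one_mem, by group⟩)
  obtain ⟨c, hc, hct, hcs⟩ := ih _ hlt hz'fix hbr' rfl
  refine ⟨c + a • o, hc.add (fixed_smul hofix a), by rw [relTr_add, hct, hz', sub_add_cancel],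
    fun y hy => ?_⟩
  by_cases hc0 : c.coeff y = 0
  · rw [MonoidAlgebra.coeff_add, Finsupp.add_apply, hc0, zero_add, MonoidAlgebra.coeff_smul,
      Finsupp.smul_apply, ho] at hy
    split_ifs at hy with h'
    · obtain ⟨u, hu, rfl⟩ := h'
      rw [coeff_conj_of_fixed hz (hPH hu), hzx]
      exact hx₀
    · exact absurd (smul_zero a) hy
  · exact hsub y (hcs y hc0)

end Cfsg.Agent.CycDefect
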