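import Cfsg.Agent.Lib.CycDefect.Reps
import Cfsg.Agent.Lib.CycDefect.Trace
import Cfsg.Agent.Lib.Blocks.OrbitSum

/-!
# Traced maps between modules of a group and of a subgroup

* `up C`: `k[C] → k[G]`; `actH τ x`: action of the part of `x` inside `H`;
* `nmHom φ τ γ`: the sum over `H` of the conjugates of a linear map;
* `IsHom φ τ q`, `NotTraced φ τ q`.
-/

set_option autoImplicit false
set_option linter.unusedSectionVars false
set_option linter.style.haveILetI false

namespace Cfsg.Agent.CycDefect

open Cfsg.Agent.BrauerPairs Representation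

variable {k : Type*} [Field k] {G : Type*} [Group G]

/-- The inclusion of `k[C]` into `k[G]`. -/
noncomputable def up (C : Subgroup G) : MonoidAlgebra k C →+* MonoidAlgebra k G :=
  MonoidAlgebra.mapDomainRingHom k C.subtype

theorem up_single (C : Subgroup G) (c : C) (t : k) :
    up C (MonoidAlgebra.single c t) = MonoidAlgebra.single (c : G) t := by
  simp [up]

theorem coeff_up_coe (C : Subgroup G) (x : MonoidAlgebra k C) (c : C) :
    (up C x).coeff (c : G) = x.coeff c := by
  induction x using MonoidAlgebra.induction_linear with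
  | zero => simp
  | add a b ha hb => simp [map_add, ha, hb]
  | single g t =>
    classical
    simp only [up_single, MonoidAlgebra.coeff_single, Finsupp.single_apply, Subtype.ext_iff]

theorem suppIn_up (C : Subgroup G) (x : MonoidAlgebra k C) : SuppIn C (up C x) := by
  induction x using MonoidAlgebra.induction_linear with
  | zero => rw [map_zero]; exact SuppIn.zero
  | add a b ha hb => rw [map_add]; exact ha.add hb
  | single g t =>
    classical
    intro y hy
    rw [up_single, MonoidAlgebra.coeff_single, Finsupp.single_apply, if_neg]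
    exact fun h => hy (h ▸ g.2)

theorem up_smul (C : Subgroup G) (t : k) (x : MonoidAlgebra k C) : up C (t • x) = t • up C x := by
  induction x using MonoidAlgebra.induction_linear with
  | zero => simp
  | add a b ha hb => simp [map_add, smul_add, ha, hb]
  | single g s => simp [up_single]

theorem asAlgebraHom_up {C : Subgroup G} {V : Type*} [AddCommGroup V] [Module k V]
    (φ : Representation k G V) (x : MonoidAlgebra k C) :
    φ.asAlgebraHom (up C x) = Representation.asAlgebraHom (φ.comp C.subtype) x := by
  induction x using MonoidAlgebra.induction_linear with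
  | zero => simp
  | add a b ha hb => simp [map_add, ha, hb]
  | single g t => rw [up_single, asAlgebraHom_single, asAlgebraHom_single]; rfl

section finite

variable [Finite G] {H : Subgroup G} {S : Type*} [AddCommGroup S] [Module k S]

/-- The action of the part of `x` inside `H`. -/
noncomputable def actH (τ : Representation k H S) (x : MonoidAlgebra k G) : Module.End k S :=
  letI := Fintype.ofFinite H
  ∑ h : H, x.coeff (h : G) • τ h

theorem actH_def [Fintype H] (τ : Representation k H S) (x : MonoidAlgebra k G) :
    actH τ x = ∑ h : H, x.coeff (h : G) • τ h := by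
  unfold actH
  congr!

theorem actH_add (τ : Representation k H S) (x y : MonoidAlgebra k G) :
    actH τ (x + y) = actH τ x + actH τ y := by
  have := Fintype.ofFinite H
  simp only [actH_def, MonoidAlgebra.coeff_add, Finsupp.add_apply, add_smul, Finset.sum_add_distrib]

theorem actH_zero (τ : Representation k H S) : actH τ (0 : MonoidAlgebra k G) = 0 := by
  have := Fintype.ofFinite H
  simp [actH_def]

theorem actH_sum {ι : Type*} (τ : Representation k H S) (s : Finset ι) (f : ι → MonoidAlgebra k G) :
    actH τ (∑ i ∈ s, f i) = ∑ i ∈ s, actH τ (f i) :=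
  map_sum ({ toFun := actH τ, map_zero' := actH_zero τ, map_add' := actH_add τ } :
    MonoidAlgebra k G →+ Module.End k S) f s

theorem actH_single (τ : Representation k H S) (h : H) (t : k) :
    actH τ (MonoidAlgebra.single (h : G) t) = t • τ h := by
  classical
  have := Fintype.ofFinite H
  rw [actH_def, Finset.sum_eq_single h]
  · simp
  · intro g _ hg
    rw [MonoidAlgebra.coeff_single, Finsupp.single_apply, if_neg fun e => hg (Subtype.ext e.symm),
      zero_smul]
  · exact fun h' => absurd (Finset.mem_univ _) h'

theorem actH_up {C : Subgroup G} (hCH : C ≤ H) (τ : Representation k H S) (x : MonoidAlgebra k C) :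
    actH τ (up C x) = Representation.asAlgebraHom (τ.comp (Subgroup.inclusion hCH)) x := by
  induction x using MonoidAlgebra.induction_linear with
  | zero => simp [actH_zero]
  | add a b ha hb => simp [map_add, actH_add, ha, hb]
  | single g t =>
    rw [up_single, show ((g : C) : G) = ((Subgroup.inclusion hCH g : H) : G) from rfl, actH_single,
      asAlgebraHom_single]
    rfl

theorem actH_cj (τ : Representation k H S) (h : H) (x : MonoidAlgebra k G) :
    actH τ (cj (h : G) x) = τ h * actH τ x * τ h⁻¹ := by
  have := Fintype.ofFinite H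
  rw [actH_def, actH_def, Finset.mul_sum, Finset.sum_mul]
  refine Fintype.sum_equiv (MulAut.conj h⁻¹).toEquiv _ _ fun g => ?_
  simp only [MulEquiv.toEquiv_eq_coe, MulEquiv.coe_toEquiv, MulAut.conj_apply, inv_inv,
    mul_smul_comm, smul_mul_assoc, ← map_mul, coeff_cj, Subgroup.coe_mul, Subgroup.coe_inv]
  congr 2
  group

/-- Sum over `H` of the conjugates of a linear map. -/
noncomputable def nmHom {V : Type*} [AddCommGroup V] [Module k V] (φ : Representation k G V)
    (τ : Representation k H S) (γ : V →ₗ[k] S) : V →ₗ[k] S :=
  letI := Fintype.ofFinite H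
  ∑ h : H, (τ h).comp (γ.comp (φ ((h : G)⁻¹)))

/-- Commutes with `H`. -/
def IsHom {V : Type*} [AddCommGroup V] [Module k V] (φ : Representation k G V)
    (τ : Representation k H S) (q : V →ₗ[k] S) : Prop :=
  ∀ (h : H) (v : V), q (φ (h : G) v) = τ h (q v)

/-- Is not a sum of conjugates. -/
def NotTraced {V : Type*} [AddCommGroup V] [Module k V] (φ : Representation k G V)
    (τ : Representation k H S) (q : V →ₗ[k] S) : Prop :=
  ∀ γ, q ≠ nmHom φ τ γ

variable {V : Type*} [AddCommGroup V] [Module k V] {φ : Representation k G V}
  {τ : Representation k H S}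

theorem nmHom_apply [Fintype H] (γ : V →ₗ[k] S) (v : V) :
    nmHom φ τ γ v = ∑ h : H, τ h (γ (φ ((h : G)⁻¹) v)) := by
  unfold nmHom
  simp only [LinearMap.sum_apply, LinearMap.comp_apply]
  congr!

theorem isHom_nmHom (γ : V →ₗ[k] S) : IsHom φ τ (nmHom φ τ γ) := fun h v => by
  have := Fintype.ofFinite H
  rw [nmHom_apply, nmHom_apply, map_sum]
  refine Fintype.sum_equiv (Equiv.mulLeft h⁻¹) _ _ fun g => ?_
  rw [← Module.End.mul_apply (τ h), ← map_mul, Equiv.coe_mulLeft, mul_inv_cancel_left,
    ← Module.End.mul_apply (φ ((g : G)⁻¹)), ← map_mul, Subgroup.coe_mul, Subgroup.coe_inv,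
    mul_inv_rev, inv_inv]

theorem IsHom.apply_actH {q : V →ₗ[k] S} (hq : IsHom φ τ q) {x : MonoidAlgebra k G}
    (hx : SuppIn H x) (v : V) : q (φ.asAlgebraHom x v) = actH τ x (q v) := by
  classical
  have := Fintype.ofFinite G
  have := Fintype.ofFinite H
  have hxx : x = ∑ h : H, MonoidAlgebra.single (h : G) (x.coeff (h : G)) := by
    ext y
    simp only [MonoidAlgebra.coeff_sum, Finsupp.finsetSum_apply, MonoidAlgebra.coeff_single,
      Finsupp.single_apply]
    by_cases hy : y ∈ H
    · rw [Finset.sum_eq_single ⟨y, hy⟩, if_pos rfl]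
      · intro h _ hne
        rw [if_neg fun e => hne (Subtype.ext e)]
      · exact fun h' => absurd (Finset.mem_univ _) h'
    · rw [Finset.sum_eq_zero, hx y hy]
      intro h _
      rw [if_neg fun e : (h : G) = y => hy (e ▸ h.2)]
  conv_lhs => rw [hxx]
  rw [map_sum, LinearMap.sum_apply, map_sum, actH_def, LinearMap.sum_apply]
  refine Finset.sum_congr rfl fun h _ => ?_
  rw [asAlgebraHom_single, LinearMap.smul_apply, LinearMap.smul_apply, map_smul, hq]

end finite

/-- A sum of an invariant function over a free action of a `p`-group vanishes in characteristic `p`;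
in general only the fixed points count. -/
theorem sum_eq_sum_fixed {p : ℕ} [Fact p.Prime] [CharP k p] {P α A : Type*} [Group P] [MulAction P α]
    [Fintype α] [AddCommGroup A] [Module k A] (hP : IsPGroup p P) (f : α → A)
    (hf : ∀ (u : P) (a : α), f (u • a) = f a) [DecidablePred fun a => a ∈ MulAction.fixedPoints P α] :
    ∑ a, f a = ∑ a ∈ Finset.univ.filter (fun a => a ∈ MulAction.fixedPoints P α), f a := by
  classical
  have h := Blocks.sum_not_fixed_mem hP f hf ⊥ fun a => by
    rw [AddSubmonoid.mem_bot, ← Nat.cast_smul_eq_nsmul k, CharP.cast_eq_zero, zero_smul]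
  rw [← Finset.sum_filter_add_sum_filter_not Finset.univ (fun a => a ∈ MulAction.fixedPoints P α),
    show ∑ a ∈ Finset.univ.filter (fun a => ¬ a ∈ MulAction.fixedPoints P α), f a = 0 by
      convert AddSubmonoid.mem_bot.1 h, add_zero]

end Cfsg.Agent.CycDefect
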