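import Cfsg.Agent.Lib.CycDefect.Orbit

/-!
# Orbits of linear characters of a cyclic group form a partition

`self_mem_orb`, `orb_eq_of_mem`.
-/

set_option autoImplicit false
set_option linter.unusedSectionVars false

namespace Cfsg.Agent.CycDefect

variable {A : Type*} [Group A] [Finite A]

theorem self_mem_orb {e : ℕ} (l : A →* ℂˣ) : l ∈ orb e l :=
  mem_orb.2 ⟨MonoidHom.id A, fun x => by simp, (MonoidHom.comp_id l).symm⟩

theorem mem_orb_trans [IsCyclic A] {e : ℕ} {l μ ν : A →* ℂˣ} (h₁ : μ ∈ orb e l) (h₂ : ν ∈ orb e μ) :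
    ν ∈ orb e l := by
  obtain ⟨f, hf, rfl⟩ := mem_orb.1 h₁
  obtain ⟨g, hg, rfl⟩ := mem_orb.1 h₂
  refine mem_orb.2 ⟨f.comp g, fun x => ?_, rfl⟩
  have hcomm : Function.Commute (⇑f) (⇑g) := fun y => by
    obtain ⟨a, ha⟩ := MonoidHom.map_cyclic f
    obtain ⟨b, hb⟩ := MonoidHom.map_cyclic g
    rw [ha, hb, hb, ha, ← zpow_mul, ← zpow_mul, mul_comm]
  rw [MonoidHom.coe_comp, hcomm.comp_iterate, Function.comp_apply, hg, hf]

theorem mem_orb_symm {e : ℕ} (he : 0 < e) {l μ : A →* ℂˣ} (h : μ ∈ orb e l) : l ∈ orb e μ := by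
  obtain ⟨f, hf, rfl⟩ := mem_orb.1 h
  have hinj : Function.Injective ⇑f := fun x y hxy => by
    obtain ⟨n, rfl⟩ := Nat.exists_eq_succ_of_ne_zero he.ne'
    rw [← hf x, ← hf y, Function.iterate_succ_apply, Function.iterate_succ_apply, hxy]
  let F := MulEquiv.ofBijective f (Finite.injective_iff_bijective.1 hinj)
  refine mem_orb.2 ⟨F.symm.toMonoidHom, fun x => ?_, MonoidHom.ext fun x => ?_⟩
  · have hL : Function.LeftInverse (⇑F.symm.toMonoidHom)^[e] (⇑f)^[e] :=
      Function.LeftInverse.iterate F.symm_apply_apply e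
    conv_lhs => rw [← hf x]
    exact hL x
  · show l x = l (f (F.symm x))
    rw [show f (F.symm x) = F (F.symm x) from rfl, F.apply_symm_apply]

theorem orb_eq_of_mem [IsCyclic A] {e : ℕ} (he : 0 < e) {l μ : A →* ℂˣ} (h : μ ∈ orb e l) :
    orb e μ = orb e l :=
  Finset.ext fun _ => ⟨fun hν => mem_orb_trans h hν, fun hν => mem_orb_trans (mem_orb_symm he h) hν⟩

end Cfsg.Agent.CycDefect
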