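import Cfsg.Agent.Lib.CycDefect.Structure
import Cfsg.Agent.Lib.CycDefect.OrbitEq

/-!
# Perfect isometries between blocks with isomorphic cyclic defect groups

* `div_centralizer_of_regular`, `th_div_centralizer`: divisibility by centraliser orders;
* `singular_values`: the values at a `p`-singular element through the decomposition numbers;
* `exists_perm`, `dec_match`: the matching of two sets of decomposition numbers;
* `exists_isometry`: blocks with isomorphic cyclic defect groups and equal inertial index are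
  perfectly isometric.
-/

set_option autoImplicit false
set_option maxHeartbeats 1000000
set_option synthInstance.maxHeartbeats 200000
set_option linter.unusedSectionVars false

open scoped ComplexConjugate

namespace Cfsg.Agent.CycDefect

open Cfsg Cfsg.Agent.Blocks Cfsg.Agent.BrauerPairs Cfsg.Agent.SecondMain Cfsg.Agent.FreeInertial
open Cfsg.Agent.Star

variable {G : Type*} [Group G] [Finite G] {p : ℕ} [Fact p.Prime] {M : Ideal AlgInt}
  {B : Set (IrrCharacter G)} {P : Subgroup G}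
  {c : Set (IrrCharacter (Subgroup.centralizer (P : Set G)))}

/-- A local combination of irreducible characters vanishing on the singular elements is divisible by
the orders of centralisers at the regular elements. -/
theorem div_centralizer_of_regular (hM : IsPModular p M) {ι : Type*} (s : Finset ι)
    (χ : ι → IrrCharacter G) (a : ι → ℂ) (ha : ∀ i ∈ s, MemLocalRing M (a i))
    (h0 : ∀ g, p ∣ orderOf g → ∑ i ∈ s, a i * (χ i : G → ℂ) g = 0) {x : G}
    (hx : ¬ p ∣ orderOf x) :
    MemLocalRing M ((∑ i ∈ s, a i * (χ i : G → ℂ) x) /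
      (Nat.card (Subgroup.centralizer ({x} : Set G)) : ℂ)) := by
  classical
  obtain ⟨S⟩ : Nonempty (Sylow p (Subgroup.centralizer ({x} : Set G))) := inferInstance
  set C := Subgroup.centralizer ({x} : Set G)
  set Q := (S : Subgroup C).map C.subtype with hQ
  have := Fintype.ofFinite Q
  have hxQ : x ∈ Subgroup.centralizer (Q : Set G) := by
    rw [Subgroup.mem_centralizer_iff]
    rintro q ⟨q', -, rfl⟩
    exact Subgroup.mem_centralizer_singleton_iff.mp q'.2
  have hQp : IsPGroup p Q := S.2.map _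
  have hsing : ∀ q : Q, q ≠ 1 → p ∣ orderOf (x * (q : G)) := by
    intro q hq
    obtain ⟨k, hk⟩ := IsPGroup.iff_orderOf.mp hQp q
    rw [← Subgroup.orderOf_coe] at hk
    have hcomm : Commute x (q : G) := (Subgroup.mem_centralizer_iff.mp hxQ q q.2).symm
    rw [hcomm.orderOf_mul_eq_mul_orderOf_of_coprime]
    · rw [hk]
      refine dvd_mul_of_dvd_right (dvd_pow_self p fun h => hq ?_) _
      rw [h, pow_zero, orderOf_eq_one_iff] at hk
      exact Subtype.ext hk
    · rw [hk]
      exact ((hM.1.coprime_iff_not_dvd.mpr hx).pow_left k).symm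
  have hsum : ∑ i ∈ s, a i * (χ i : G → ℂ) x =
      ∑ i ∈ s, a i * ∑ q : Q, (χ i : G → ℂ) (x * (q : G)) := by
    simp only [Finset.mul_sum]
    rw [Finset.sum_comm, Finset.sum_eq_single_of_mem (s := Finset.univ) (1 : Q) (Finset.mem_univ _)]
    · simp
    · exact fun q _ hq => h0 _ (hsing q hq)
  have hR : MemLocalRing M ((∑ i ∈ s, a i * (χ i : G → ℂ) x) / (Nat.card Q : ℂ)) := by
    rw [hsum, Finset.sum_div]
    refine memR_sum hM _ fun i hi => ?_
    rw [mul_div_assoc, div_eq_inv_mul]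
    exact memR_mul hM (ha i hi) (memR_of_isIntegral hM
      (isIntegral_avg (Char.IsIrrCharacter.isCharacter (χ i).2) Q hxQ))
  have hcard : Nat.card C = Nat.card Q * (S : Subgroup C).index := by
    rw [hQ, Subgroup.card_map_of_injective C.subtype_injective, Subgroup.card_mul_index]
  rw [hcard, Nat.cast_mul, ← div_div, div_eq_mul_inv]
  exact memR_mul hM hR (memR_natCast_inv hM S.not_dvd_index)

/-- The sum of a local block is divisible by the orders of centralisers. -/
theorem th_div_centralizer (hM : IsPModular p M) (hmax : IsMaximalBrauerPair p M B P c)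
    (hab : ∀ x ∈ P, ∀ y ∈ P, x * y = y * x) (hfree : FreeInertial.Free M P c) {Q : Subgroup G}
    (hQP : Q ≤ P) (hQ : Q ≠ ⊥) {s : Subgroup.centralizer (Q : Set G)} (hs : ¬ p ∣ orderOf s) :
    MemLocalRing M ((Nat.card P : ℂ) * th p M P c Q s /
      (Nat.card (Subgroup.centralizer ({s} : Set (Subgroup.centralizer (Q : Set G)))) : ℂ)) := by
  classical
  have := Fintype.ofFinite (IrrCharacter (Subgroup.centralizer (Q : Set G)))
  obtain ⟨hcard, -, -⟩ := local_summary hM hmax hab hfree hQP hQ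
  have hb := (blk_spec hM hmax hQP).1
  have h1 : ¬ p ∣ orderOf (1 : Subgroup.centralizer (Q : Set G)) := by simpa using hM.1.ne_one
  have hval : ∀ m : Subgroup.centralizer (Q : Set G), ¬ p ∣ orderOf m →
      ∀ η ∈ (blk p M P c Q).toFinset, (1 : ℂ) * ((η : IrrCharacter _) : _ → ℂ) m = th p M P c Q m :=
    fun m hm η hη => by rw [one_mul, th_reg hM hmax hab hfree hQP hQ (Set.mem_toFinset.1 hη) hm]
  have key := div_centralizer_of_regular hM (blk p M P c Q).toFinset (fun η => η) (fun _ => (1 : ℂ))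
    (fun _ _ => by simpa using memR_natCast hM 1) (fun g hg => ?_) hs
  · rwa [Finset.sum_congr rfl (hval s hs), Finset.sum_const, nsmul_eq_mul, Set.toFinset_card,
      ← Nat.card_eq_fintype_card, hcard] at key
  have h := weak_orth hM (blockInd_mem_intRing hM hb) h1 hg
  rw [finsum_mem_eq_toFinset_sum,
    Finset.sum_congr rfl fun η hη => by
      rw [th_reg hM hmax hab hfree hQP hQ (Set.mem_toFinset.1 hη) h1],
    ← Finset.mul_sum, mul_eq_zero] at h
  have h0 := congrArg conj (h.resolve_left (th_one_ne_zero hM hmax hQP))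
  simp only [map_sum, Complex.conj_conj, map_zero] at h0
  simpa using h0

theorem card_centralizer_singleton_conj (x g : G) :
    Nat.card (Subgroup.centralizer ({x * g * x⁻¹} : Set G)) =
      Nat.card (Subgroup.centralizer ({g} : Set G)) := by
  have h : ∀ g : G, Subgroup.centralizer (Subgroup.zpowers g : Set G) =
      Subgroup.centralizer ({g} : Set G) := fun g => Subgroup.ext fun h => by
    rw [SecondMain.mem_centralizer_zpowers_iff, Subgroup.mem_centralizer_singleton_iff,
      commute_iff_eq, eq_comm]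
  rw [← h, ← h, Star.card_centralizer_conj]

/-- The values at a singular element, through the decomposition numbers. -/
theorem singular_values (hM : IsPModular p M) (hmax : IsMaximalBrauerPair p M B P c)
    (hab : ∀ x ∈ P, ∀ y ∈ P, x * y = y * x) (hfree : FreeInertial.Free M P c) {g : G}
    (hg : p ∣ orderOf g) :
    ∃ (n : ℕ) (v : Fin n → P) (w : Fin n → ℂ),
      (∀ r, v r ≠ 1 ∧ MemLocalRing M (w r) ∧ MemLocalRing M
        ((Nat.card P : ℂ) * w r / (Nat.card (Subgroup.centralizer ({g} : Set G)) : ℂ))) ∧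
      ∀ χ ∈ B, (χ : G → ℂ) g =
        ∑ r, dec p M P c (Subgroup.zpowers (v r : G)) ((χ : IrrCharacter G) : G → ℂ) (v r) * w r := by
  classical
  have := Fintype.ofFinite G
  obtain ⟨u, s, hgus, hug, hsg, ⟨n, hn⟩, hso⟩ := Transfer.exists_pPart_mul (p := p) g
  have hs : ¬ p ∣ orderOf s := hM.1.coprime_iff_not_dvd.mp hso.symm
  have hcs : Commute u s := by
    obtain ⟨i, hi⟩ := Subgroup.mem_zpowers_iff.mp hug
    obtain ⟨j, hj⟩ := Subgroup.mem_zpowers_iff.mp hsg
    have h1 := (Commute.refl g).zpow_zpow i j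
    rwa [hi, hj] at h1
  have hu1 : u ≠ 1 := fun h => hs (by rw [h, one_mul] at hgus; rwa [← hgus])
  have hB : IsPBlock M B := hmax.1.2.1
  let S := (pairsAt M u).filter fun a => IsBrauerPairOf p M B a.1 a.2
  have key : ∀ q : S, ∃ (v : P) (w : ℂ), v ≠ 1 ∧ MemLocalRing M w ∧
      MemLocalRing M ((Nat.card P : ℂ) * w / (Nat.card (Subgroup.centralizer ({g} : Set G)) : ℂ)) ∧
      ∀ χ : IrrCharacter G, piece q.1 (χ : G → ℂ) (u * s) =
        dec p M P c (Subgroup.zpowers (v : G)) (χ : G → ℂ) v * w := by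
    rintro ⟨⟨Q, f⟩, hq⟩
    obtain ⟨hq1, hqB⟩ := Finset.mem_filter.1 hq
    obtain ⟨hq2, -⟩ := mem_pairsAt.1 hq1
    obtain rfl : Q = Subgroup.zpowers u := hq2
    obtain ⟨x, hx⟩ := exists_conj_le_maximal hM hmax hqB
    have hxu : x * u * x⁻¹ ∈ P :=
      conjIdx_mem_P (p := p) (x := x) (a := ⟨Subgroup.zpowers u, f⟩) rfl hx
    set v := x * u * x⁻¹ with hv
    have hv1 : v ≠ 1 := fun h => hu1 (conj_eq_one_iff.1 h)
    have hQ1 : Subgroup.zpowers v ≠ ⊥ := fun h => hv1 (Subgroup.zpowers_eq_bot.1 h)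
    have hQP : Subgroup.zpowers v ≤ P := Subgroup.zpowers_le.2 hxu
    have hsC : x * s * x⁻¹ ∈ Subgroup.centralizer (Subgroup.zpowers v : Set G) :=
      SecondMain.mem_centralizer_zpowers_iff.2 (hcs.map (MulAut.conj x).toMonoidHom)
    have hso' : ¬ p ∣ orderOf (x * s * x⁻¹) := by rwa [SecondMain.orderOf_conj]
    have hpc : ∀ (W : Subgroup G) (f' : Set (IrrCharacter (Subgroup.centralizer (W : Set G)))),
        W = Subgroup.zpowers v → SubpairLE p M W f' P c → ∀ ψ : IrrCharacter G,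
        piece ⟨W, f'⟩ (ψ : G → ℂ) (x * (u * s) * x⁻¹) =
          dec p M P c (Subgroup.zpowers v) (ψ : G → ℂ) v *
            th p M P c (Subgroup.zpowers v) (x * s * x⁻¹) := by
      intro W f' hW hle ψ
      subst hW
      rw [blk_eq hM hmax hQP hle, piece_def,
        show x * (u * s) * x⁻¹ = v * (x * s * x⁻¹) by rw [hv]; group]
      exact piece_local hM hmax hab hfree hQP hQ1 (fun h _ m => irr_class ψ m h)
        (fun h hh => SecondMain.mem_centralizer_zpowers_iff.1 hh) hsC hso'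
    obtain ⟨θ, -, hth⟩ := exists_th hM hmax hQP
    refine ⟨⟨v, hxu⟩, th p M P c (Subgroup.zpowers v) (x * s * x⁻¹),
      fun h => hv1 (congrArg Subtype.val h), ?_, ?_, fun χ => ?_⟩
    · rw [hth, show x * s * x⁻¹ = ((⟨_, hsC⟩ :
        Subgroup.centralizer (Subgroup.zpowers v : Set G)) : G) from rfl, ext_coe]
      exact memR_of_isIntegral hM (isIntegral_irr _ _)
    · rw [← card_centralizer_singleton_conj x g, hgus,
        show x * (u * s) * x⁻¹ = v * (x * s * x⁻¹) by rw [hv]; group,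
        show x * s * x⁻¹ = ((⟨_, hsC⟩ :
          Subgroup.centralizer (Subgroup.zpowers v : Set G)) : G) from rfl,
        SecondMain.card_centralizer_mul_eq (exists_order_pow' hmax hxu)
          (fun _ => SecondMain.mem_centralizer_zpowers_iff) (by rwa [← Subgroup.orderOf_coe])]
      exact th_div_centralizer hM hmax hab hfree hQP hQ1 (by rwa [← Subgroup.orderOf_coe])
    · have hQv : conjSub x (Subgroup.zpowers u) = Subgroup.zpowers v := conjSub_zpowers' x u
      rw [← piece_conj (⟨_, f⟩ : BrauerPairIdx G) (irr_class χ) x (u * s),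
        show conjIdx x (⟨_, f⟩ : BrauerPairIdx G) =
          ⟨conjSub x (Subgroup.zpowers u), conjBlock (Subgroup.zpowers u) x f⟩ from rfl,
        hpc _ _ hQv hx]
  choose v w hv1 hwR hwd hval using key
  let E := S.equivFin.symm
  refine ⟨_, fun r => v (E r), fun r => w (E r), fun r => ⟨hv1 _, hwR _, hwd _⟩, fun χ hχ => ?_⟩
  conv_lhs => rw [hgus, ← sum_piece_pairs hM ⟨n, hn⟩ hs hcs hB hχ, ← Finset.sum_coe_sort,
    ← Equiv.sum_comp E]
  exact Finset.sum_congr rfl fun r _ => hval _ χ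

namespace Param

variable {e f : ℕ} (D : Param p M B P c e f)

theorem sum_eq_finsum (F : IrrCharacter G → ℂ) : ∑ a, F (D.χ a) = ∑ᶠ χ ∈ B, F χ := by
  classical
  rw [finsum_mem_eq_finite_toFinset_sum F (Set.toFinite B)]
  exact Finset.sum_bij (fun a _ => D.χ a) (fun a _ => (Set.Finite.mem_toFinset _).2 (D.mem a))
    (fun _ _ _ _ h => D.injective h)
    (fun χ hχ => (D.surj χ ((Set.Finite.mem_toFinset _).1 hχ)).imp fun a ha =>
      ⟨Finset.mem_univ _, ha⟩) fun _ _ => rfl

theorem s_mul_self (a : Fin e ⊕ Fin f) : (D.s a : ℂ) * D.s a = 1 := by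
  rcases D.s_cases a with h | h <;> simp [h]

theorem σ_mul_self (v : G) : (D.σ v : ℂ) * D.σ v = 1 := by
  rcases D.σ_cases v with h | h <;> simp [h]

/-- The signed decomposition number at the inverse element. -/
theorem conj_dec (a : Fin e ⊕ Fin f) {v : P} (hv : v ≠ 1) :
    conj ((D.σ (v : G) : ℂ) * dec p M P c (Subgroup.zpowers (v : G)) (D.χ a : G → ℂ) v) =
      (D.σ ((v⁻¹ : P) : G) : ℂ) *
        dec p M P c (Subgroup.zpowers ((v⁻¹ : P) : G)) (D.χ a : G → ℂ) (v⁻¹ : P) := by
  have hv' : v⁻¹ ≠ 1 := fun h => hv (inv_eq_one.1 h)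
  cases a with
  | inl i => rw [D.dec_inl i v hv, D.dec_inl i _ hv', map_neg, map_intCast]
  | inr j => rw [D.dec_inr j v hv, D.dec_inr j _ hv', map_mul, map_intCast, conj_orbSum]

end Param

section pair

variable {H : Type*} [Group H] [Finite H] {B' : Set (IrrCharacter H)} {P' : Subgroup H}
  {c' : Set (IrrCharacter (Subgroup.centralizer (P' : Set H)))} {e f : ℕ}
  (DB : Param p M B P c e f) (DC : Param p M B' P' c' e f) (θ : P' ≃* P)

/-- The matching of the orbit representatives. -/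
theorem exists_perm (hcyc : IsCyclic P) (he : 0 < e) :
    ∃ π : Fin f ≃ Fin f, ∀ (j : Fin f) (w : P'),
      orbSum e (DB.rep (π j)) (θ w) = orbSum e (DC.rep j) w := by
  classical
  let l : Fin f → (P →* ℂˣ) := fun j => (DC.rep j).comp θ.symm.toMonoidHom
  have hcomp : ∀ j, (l j).comp θ.toMonoidHom = DC.rep j := fun j => MonoidHom.ext fun x => by simp [l]
  have hl : ∀ j, l j ≠ 1 := fun j h => DC.rep_ne j (by rw [← hcomp, h, MonoidHom.one_comp])
  choose π hπ hπu using fun j => DB.cover (l j) (hl j)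
  have horb : ∀ j, orb e (l j) = orb e (DB.rep (π j)) := fun j => orb_eq_of_mem he (hπ j)
  have hinj : Function.Injective π := by
    intro j j' h
    have h1 : l j' ∈ orb e (l j) := by rw [horb, h, ← horb]; exact self_mem_orb _
    have h2 := (mem_orb_comp_iff θ).2 h1
    rw [hcomp, hcomp] at h2
    exact (DC.cover _ (DC.rep_ne j')).unique h2 (self_mem_orb _)
  refine ⟨Equiv.ofBijective π (Finite.injective_iff_bijective.1 hinj), fun j w => ?_⟩
  show ∑ μ ∈ orb e (DB.rep (π j)), (μ (θ w) : ℂ) = _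
  rw [← horb]
  exact (orbSum_comp θ e (l j) w).symm.trans (by rw [hcomp])

variable (π : Fin f ≃ Fin f)

/-- The index map. -/
def idx : Fin e ⊕ Fin f ≃ Fin e ⊕ Fin f := Equiv.sumCongr (Equiv.refl _) π

/-- The signs of the isometry. -/
def sgn (a : Fin e ⊕ Fin f) : ℤ := DB.s (idx π a) * DC.s a

theorem sgn_mul_self (a : Fin e ⊕ Fin f) : (sgn DB DC π a : ℂ) * sgn DB DC π a = 1 := by
  simp only [sgn, Int.cast_mul]
  linear_combination (DC.s a : ℂ) * DC.s a * DB.s_mul_self (idx π a) + DC.s_mul_self a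

variable {π}
variable (hπ : ∀ (j : Fin f) (w : P'), orbSum e (DB.rep (π j)) (θ w) = orbSum e (DC.rep j) w)
include hπ

theorem dec_match (a : Fin e ⊕ Fin f) {w : P'} (hw : w ≠ 1) :
    (DB.σ (θ w : G) : ℂ) *
        dec p M P c (Subgroup.zpowers (θ w : G)) (DB.χ (idx π a) : G → ℂ) (θ w) =
      (sgn DB DC π a : ℂ) * ((DC.σ (w : H) : ℂ) *
        dec p M P' c' (Subgroup.zpowers (w : H)) (DC.χ a : H → ℂ) w) := by
  have hθ : θ w ≠ 1 := fun h => hw (θ.map_eq_one_iff.1 h)
  cases a with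
  | inl i =>
    show (DB.σ (θ w : G) : ℂ) *
      dec p M P c (Subgroup.zpowers (θ w : G)) (DB.χ (Sum.inl i) : G → ℂ) (θ w) = _
    rw [DB.dec_inl i _ hθ, DC.dec_inl i w hw]
    show _ = ((DB.s (Sum.inl i) * DC.s (Sum.inl i) : ℤ) : ℂ) * _
    push_cast
    linear_combination (DB.s (Sum.inl i) : ℂ) * DC.s_mul_self (Sum.inl i)
  | inr j =>
    show (DB.σ (θ w : G) : ℂ) *
      dec p M P c (Subgroup.zpowers (θ w : G)) (DB.χ (Sum.inr (π j)) : G → ℂ) (θ w) = _
    rw [DB.dec_inr _ _ hθ, DC.dec_inr j w hw, hπ]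
    show _ = ((DB.s (Sum.inr (π j)) * DC.s (Sum.inr j) : ℤ) : ℂ) * _
    push_cast
    linear_combination -(DB.s (Sum.inr (π j)) : ℂ) * orbSum e (DC.rep j) w * DC.s_mul_self (Sum.inr j)

variable (hM : IsPModular p M) (hmax : IsMaximalBrauerPair p M B P c)
  (hmax' : IsMaximalBrauerPair p M B' P' c')
  (hab : ∀ x ∈ P, ∀ y ∈ P, x * y = y * x) (hfree : FreeInertial.Free M P c)
  (hab' : ∀ x ∈ P', ∀ y ∈ P', x * y = y * x) (hfree' : FreeInertial.Free M P' c')
include hM hmax hmax' hab hfree hab' hfree'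

open scoped Classical in
theorem sum_dec {v : P} (hv : v ≠ 1) {w : P'} (hw : w ≠ 1) :
    ∃ k : ℤ, ∑ a, (sgn DB DC π a : ℂ) *
      dec p M P c (Subgroup.zpowers (v : G)) (DB.χ (idx π a) : G → ℂ) v *
      dec p M P' c' (Subgroup.zpowers (w : H)) (DC.χ a : H → ℂ) w = (Nat.card P : ℂ) * k := by
  have := Fintype.ofFinite P
  have hθ : θ w ≠ 1 := fun h => hw (θ.map_eq_one_iff.1 h)
  set u := (θ w)⁻¹ with hu
  have hu1 : u ≠ 1 := fun h => hθ (inv_eq_one.1 h)
  refine ⟨DC.σ (w : H) * DB.σ (u : G) * (if u ∈ Watanabe.orb M P c v then 1 else 0), ?_⟩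
  have key : ∀ a, (sgn DB DC π a : ℂ) *
      dec p M P c (Subgroup.zpowers (v : G)) (DB.χ (idx π a) : G → ℂ) v *
      dec p M P' c' (Subgroup.zpowers (w : H)) (DC.χ a : H → ℂ) w =
      (DC.σ (w : H) : ℂ) * DB.σ (u : G) *
        (dec p M P c (Subgroup.zpowers (v : G)) (DB.χ (idx π a) : G → ℂ) v *
          conj (dec p M P c (Subgroup.zpowers (u : G)) (DB.χ (idx π a) : G → ℂ) u)) := by
    intro a
    have h1 := dec_match DB DC θ hπ a hw
    have h2 := DB.conj_dec (idx π a) hu1
    rw [show u⁻¹ = θ w from inv_inv _, h1, map_mul, map_intCast] at h2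
    linear_combination -((DC.σ (w : H) : ℂ) * dec p M P c (Subgroup.zpowers (v : G))
        (DB.χ (idx π a) : G → ℂ) v) * h2 -
      (sgn DB DC π a : ℂ) * dec p M P c (Subgroup.zpowers (v : G)) (DB.χ (idx π a) : G → ℂ) v *
        dec p M P' c' (Subgroup.zpowers (w : H)) (DC.χ a : H → ℂ) w * DC.σ_mul_self (w : H)
  rw [Finset.sum_congr rfl fun a _ => key a, ← Finset.mul_sum, Equiv.sum_comp (idx π) (fun b =>
    dec p M P c (Subgroup.zpowers (v : G)) (DB.χ b : G → ℂ) v *
      conj (dec p M P c (Subgroup.zpowers (u : G)) (DB.χ b : G → ℂ) u)),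
    DB.sum_eq_finsum (fun χ => dec p M P c (Subgroup.zpowers (v : G)) (χ : G → ℂ) v *
      conj (dec p M P c (Subgroup.zpowers (u : G)) (χ : G → ℂ) u)),
    dec_ortho hM hmax hab hfree v u hv hu1]
  split_ifs <;> push_cast <;> ring

/-- The kernel of the signed matching. -/
theorem kernel_singular {x : G} (hx : p ∣ orderOf x) {y : H} (hy : p ∣ orderOf y) :
    MemLocalRing M ((∑ a, (sgn DB DC π a : ℂ) * (DB.χ (idx π a) : G → ℂ) x * (DC.χ a : H → ℂ) y) /
        (Nat.card (Subgroup.centralizer ({x} : Set G)) : ℂ)) ∧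
      MemLocalRing M ((∑ a, (sgn DB DC π a : ℂ) * (DB.χ (idx π a) : G → ℂ) x * (DC.χ a : H → ℂ) y) /
        (Nat.card (Subgroup.centralizer ({y} : Set H)) : ℂ)) := by
  obtain ⟨n, v, φ, hφ, hvx⟩ := singular_values hM hmax hab hfree hx
  obtain ⟨n', w, ψ, hψ, hvy⟩ := singular_values hM hmax' hab' hfree' hy
  choose k hk using fun r r' =>
    sum_dec DB DC θ hπ hM hmax hmax' hab hfree hab' hfree' (hφ r).1 (hψ r').1
  have hsum : ∑ a, (sgn DB DC π a : ℂ) * (DB.χ (idx π a) : G → ℂ) x * (DC.χ a : H → ℂ) y =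
      ∑ r, ∑ r', φ r * ψ r' * ((Nat.card P : ℂ) * k r r') := by
    simp only [← hk, Finset.mul_sum]
    rw [Finset.sum_congr rfl fun a _ => by rw [hvx _ (DB.mem _), hvy _ (DC.mem _)]]
    simp only [Finset.mul_sum, Finset.sum_mul]
    rw [Finset.sum_comm, Finset.sum_congr rfl fun r' _ => Finset.sum_comm, Finset.sum_comm]
    exact Finset.sum_congr rfl fun r _ => Finset.sum_congr rfl fun r' _ =>
      Finset.sum_congr rfl fun a _ => by ring
  have hcard : Nat.card P' = Nat.card P := Nat.card_congr θ.toEquiv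
  rw [hsum]
  constructor
  · simp only [Finset.sum_div]
    refine memR_sum hM _ fun r _ => memR_sum hM _ fun r' _ => ?_
    rw [show φ r * ψ r' * ((Nat.card P : ℂ) * k r r') /
        (Nat.card (Subgroup.centralizer ({x} : Set G)) : ℂ) = ((Nat.card P : ℂ) * φ r /
          (Nat.card (Subgroup.centralizer ({x} : Set G)) : ℂ)) * (ψ r' * k r r') by ring]
    exact memR_mul hM (hφ r).2.2 (memR_mul hM (hψ r').2.1 (memR_intCast hM _))
  · simp only [Finset.sum_div]
    refine memR_sum hM _ fun r _ => memR_sum hM _ fun r' _ => ?_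
    rw [show φ r * ψ r' * ((Nat.card P : ℂ) * k r r') /
        (Nat.card (Subgroup.centralizer ({y} : Set H)) : ℂ) = ((Nat.card P : ℂ) * ψ r' /
          (Nat.card (Subgroup.centralizer ({y} : Set H)) : ℂ)) * (φ r * k r r') by ring, ← hcard]
    exact memR_mul hM (hψ r').2.2 (memR_mul hM (hφ r).2.1 (memR_intCast hM _))

theorem kernel_zero_left {x : G} (hx : p ∣ orderOf x) {y : H} (hy : ¬ p ∣ orderOf y) :
    ∑ a, (sgn DB DC π a : ℂ) * (DB.χ (idx π a) : G → ℂ) x * (DC.χ a : H → ℂ) y = 0 := by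
  obtain ⟨n, v, φ, hφ, hvx⟩ := singular_values hM hmax hab hfree hx
  rw [Finset.sum_congr rfl fun a _ => by rw [hvx _ (DB.mem _)]]
  simp only [Finset.mul_sum, Finset.sum_mul]
  rw [Finset.sum_comm]
  refine Finset.sum_eq_zero fun r _ => ?_
  set w := θ.symm (v r) with hw
  have hw1 : w ≠ 1 := fun h => (hφ r).1 (by rw [← θ.apply_symm_apply (v r), ← hw, h, map_one])
  have hθw : θ w = v r := θ.apply_symm_apply _
  have h := dec_regular_ortho hM hmax' w.2 (fun h => hw1 (Subtype.ext h)) hy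
  rw [← DC.sum_eq_finsum (fun χ => dec p M P' c' (Subgroup.zpowers (w : H)) (χ : H → ℂ) w *
    (χ : H → ℂ) y)] at h
  refine Eq.trans ?_ (mul_eq_zero_of_right ((DB.σ (v r : G) : ℂ) * DC.σ (w : H) * φ r) h)
  rw [Finset.mul_sum]
  refine Finset.sum_congr rfl fun a _ => ?_
  have h1 := dec_match DB DC θ hπ a hw1
  rw [hθw] at h1
  linear_combination ((DB.σ (v r : G) : ℂ) * sgn DB DC π a * φ r * (DC.χ a : H → ℂ) y) * h1 -
    ((sgn DB DC π a : ℂ) * dec p M P c (Subgroup.zpowers (v r : G)) (DB.χ (idx π a) : G → ℂ) (v r) *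
      φ r * (DC.χ a : H → ℂ) y) * DB.σ_mul_self (v r : G) +
    ((DB.σ (v r : G) : ℂ) * DC.σ (w : H) * φ r * dec p M P' c' (Subgroup.zpowers (w : H))
      (DC.χ a : H → ℂ) w * (DC.χ a : H → ℂ) y) * sgn_mul_self DB DC π a

theorem kernel_zero_right {x : G} (hx : ¬ p ∣ orderOf x) {y : H} (hy : p ∣ orderOf y) :
    ∑ a, (sgn DB DC π a : ℂ) * (DB.χ (idx π a) : G → ℂ) x * (DC.χ a : H → ℂ) y = 0 := by
  obtain ⟨n, w, ψ, hψ, hvy⟩ := singular_values hM hmax' hab' hfree' hy
  rw [Finset.sum_congr rfl fun a _ => by rw [hvy _ (DC.mem _)]]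
  simp only [Finset.mul_sum]
  rw [Finset.sum_comm]
  refine Finset.sum_eq_zero fun r _ => ?_
  have hθ1 : θ (w r) ≠ 1 := fun h => (hψ r).1 (θ.map_eq_one_iff.1 h)
  have h := dec_regular_ortho hM hmax (θ (w r)).2 (fun h => hθ1 (Subtype.ext h)) hx
  rw [← DB.sum_eq_finsum (fun χ => dec p M P c (Subgroup.zpowers (θ (w r) : G)) (χ : G → ℂ) (θ (w r)) *
    (χ : G → ℂ) x), ← Equiv.sum_comp (idx π)] at h
  refine Eq.trans ?_ (mul_eq_zero_of_right ((DB.σ (θ (w r) : G) : ℂ) * DC.σ (w r : H) * ψ r) h)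
  rw [Finset.mul_sum]
  refine Finset.sum_congr rfl fun a _ => ?_
  have h1 := dec_match DB DC θ hπ a (hψ r).1
  linear_combination -((DC.σ (w r : H) : ℂ) * ψ r * (DB.χ (idx π a) : G → ℂ) x) * h1 -
    ((sgn DB DC π a : ℂ) * dec p M P' c' (Subgroup.zpowers (w r : H)) (DC.χ a : H → ℂ) (w r) *
      ψ r * (DB.χ (idx π a) : G → ℂ) x) * DC.σ_mul_self (w r : H)

theorem isPerfectFun_kernel : IsPerfectFun p M
    (fun x y => ∑ a, (sgn DB DC π a : ℂ) * (DB.χ (idx π a) : G → ℂ) x * (DC.χ a : H → ℂ) y) := by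
  intro x y
  dsimp only
  by_cases hx : p ∣ orderOf x <;> by_cases hy : p ∣ orderOf y
  · obtain ⟨h1, h2⟩ := kernel_singular DB DC θ hπ hM hmax hmax' hab hfree hab' hfree' hx hy
    exact ⟨h1, h2, Or.inl (iff_of_false (fun h => h hx) fun h => h hy)⟩
  · have h := kernel_zero_left DB DC θ hπ hM hmax hmax' hab hfree hab' hfree' hx hy
    exact ⟨by rw [h, zero_div]; exact memR_zero hM, by rw [h, zero_div]; exact memR_zero hM, Or.inr h⟩
  · have h := kernel_zero_right DB DC θ hπ hM hmax hmax' hab hfree hab' hfree' hx hy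
    exact ⟨by rw [h, zero_div]; exact memR_zero hM, by rw [h, zero_div]; exact memR_zero hM, Or.inr h⟩
  · refine ⟨?_, ?_, Or.inl (iff_of_true hx hy)⟩
    · have e1 : ∀ g : G, ∑ a, (sgn DB DC π a : ℂ) * (DB.χ (idx π a) : G → ℂ) g * (DC.χ a : H → ℂ) y =
          ∑ a, ((sgn DB DC π a : ℂ) * (DC.χ a : H → ℂ) y) * (DB.χ (idx π a) : G → ℂ) g :=
        fun g => Finset.sum_congr rfl fun a _ => by ring
      rw [e1]
      refine div_centralizer_of_regular hM _ (fun a => DB.χ (idx π a)) _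
        (fun a _ => memR_mul hM (memR_intCast hM _) (memR_of_isIntegral hM (isIntegral_irr _ _)))
        (fun g hg => ?_) hx
      rw [← e1]
      exact kernel_zero_left DB DC θ hπ hM hmax hmax' hab hfree hab' hfree' hg hy
    · refine div_centralizer_of_regular hM _ DC.χ
        (fun a => (sgn DB DC π a : ℂ) * (DB.χ (idx π a) : G → ℂ) x)
        (fun a _ => memR_mul hM (memR_intCast hM _) (memR_of_isIntegral hM (isIntegral_irr _ _)))
        (fun g hg => ?_) hy
      exact kernel_zero_right DB DC θ hπ hM hmax hmax' hab hfree hab' hfree' hx hg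

end pair

/-- Blocks with isomorphic cyclic defect groups and equal inertial index are perfectly isometric. -/
theorem exists_isometry {H : Type*} [Group H] [Finite H] {B' : Set (IrrCharacter H)} {P' : Subgroup H}
    {c' : Set (IrrCharacter (Subgroup.centralizer (P' : Set H)))} {e f : ℕ} (hM : IsPModular p M)
    (hmax : IsMaximalBrauerPair p M B P c) (hmax' : IsMaximalBrauerPair p M B' P' c')
    (hcyc : IsCyclic P) (θ : P' ≃* P) (he : 0 < e) (hf : 0 < f) (DB : Param p M B P c e f)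
    (DC : Param p M B' P' c' e f) :
    ∃ (π : Fin f ≃ Fin f) (I : IrrCharacter H → IrrCharacter G) (ε : IrrCharacter H → ℤ),
      IsPerfectIsometry p M B' B I ε ∧
      ∀ a, I (DC.χ a) = DB.χ (idx π a) ∧ ε (DC.χ a) = DB.s (idx π a) * DC.s a := by
  classical
  have hcyc' : IsCyclic P' := isCyclic_of_injective θ.toMonoidHom θ.injective
  obtain ⟨π, hπ⟩ := exists_perm DB DC θ hcyc he
  let I : IrrCharacter H → IrrCharacter G :=
    Function.extend DC.χ (fun a => DB.χ (idx π a)) fun _ => DB.χ (Sum.inr ⟨0, hf⟩)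
  let ε : IrrCharacter H → ℤ := Function.extend DC.χ (sgn DB DC π) 1
  have hI : ∀ a, I (DC.χ a) = DB.χ (idx π a) := fun a => DC.injective.extend_apply _ _ a
  have hε : ∀ a, ε (DC.χ a) = sgn DB DC π a := fun a => DC.injective.extend_apply _ _ a
  refine ⟨π, I, ε, ⟨⟨fun η hη => ?_, fun η hη η' hη' h => ?_, fun χ hχ => ?_⟩, fun η hη => ?_, ?_⟩,
    fun a => ⟨hI a, hε a⟩⟩
  · obtain ⟨a, rfl⟩ := DC.surj η hη
    rw [hI]
    exact DB.mem _
  · obtain ⟨a, rfl⟩ := DC.surj η hη
    obtain ⟨b, rfl⟩ := DC.surj η' hη'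
    rw [hI, hI] at h
    rw [(idx π).injective (DB.injective h)]
  · obtain ⟨b, rfl⟩ := DB.surj χ hχ
    exact ⟨DC.χ ((idx π).symm b), DC.mem _, by rw [hI, Equiv.apply_symm_apply]⟩
  · obtain ⟨a, rfl⟩ := DC.surj η hη
    rw [hε, sgn]
    rcases DB.s_cases (idx π a) with h | h <;> rcases DC.s_cases a with h' | h' <;> simp [h, h']
  · have h : signedBijectionKernel B' I ε =
        fun x y => ∑ a, (sgn DB DC π a : ℂ) * (DB.χ (idx π a) : G → ℂ) x * (DC.χ a : H → ℂ) y := by
      funext x y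
      rw [signedBijectionKernel,
        ← DC.sum_eq_finsum (fun η => (ε η : ℂ) * (I η : G → ℂ) x * (η : H → ℂ) y)]
      exact Finset.sum_congr rfl fun a _ => by rw [hI, hε]
    rw [h]
    exact isPerfectFun_kernel DB DC θ hπ hM hmax hmax' (comm_of_cyclic hcyc)
      (freeInertial hM hmax hcyc) (comm_of_cyclic hcyc') (freeInertial hM hmax' hcyc')

end Cfsg.Agent.CycDefect
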