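import Cfsg.Agent.Lib.Blocks.FreeInertial.Lattice

/-!
# The lattice of the decomposition numbers, with the regular relations

* `dec_regular_ortho`: the values at a `p`-regular element are orthogonal to the decomposition numbers;
* `exists_lattice`: as `FreeInertial.exists_lattice`, with the relations at all `p`-regular elements and
  the decomposition numbers of the constant rows.
-/

set_option autoImplicit false
set_option maxHeartbeats 1000000
set_option synthInstance.maxHeartbeats 200000
set_option linter.unusedSectionVars false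

open scoped ComplexConjugate

namespace Cfsg.Agent.CycDefect

open Cfsg Cfsg.Agent.Blocks Cfsg.Agent.BrauerPairs Cfsg.Agent.SecondMain Cfsg.Agent.FreeInertial

variable {G : Type*} [Group G] [Finite G] {p : ℕ} [Fact p.Prime] {M : Ideal AlgInt}
  {B : Set (IrrCharacter G)} {P : Subgroup G}
  {c : Set (IrrCharacter (Subgroup.centralizer (P : Set G)))}

/-- The values at a regular element are orthogonal to the decomposition numbers. -/
theorem dec_regular_ortho (hM : IsPModular p M) (hmax : IsMaximalBrauerPair p M B P c) {v : G}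
    (hv : v ∈ P) (hv1 : v ≠ 1) {g : G} (hg : ¬ p ∣ orderOf g) :
    ∑ᶠ χ ∈ B, dec p M P c (Subgroup.zpowers v) (χ : G → ℂ) v * (χ : G → ℂ) g = 0 := by
  classical
  have := Fintype.ofFinite (IrrCharacter G)
  have := Fintype.ofFinite (Subgroup.centralizer (Subgroup.zpowers v : Set G))
  rw [finsum_mem_eq_toFinset_sum]
  simp only [dec_def, regInner_eq_sum, Finset.mul_sum, Finset.sum_mul]
  rw [Finset.sum_comm]
  refine Finset.sum_eq_zero fun m hm => ?_
  have hg' : ¬ p ∣ orderOf g⁻¹ := by rwa [orderOf_inv]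
  have h0 := colSum_eq_zero hM hmax.1.2.1 (exists_order_pow' hmax hv) (x' := 1) ⟨0, by simp⟩
    (y := (m : G)) (y' := g⁻¹) (by rw [Subgroup.orderOf_coe]; exact (Finset.mem_filter.1 hm).2)
    hg' (SecondMain.mem_centralizer_zpowers_iff.1 m.2)
    (Commute.one_left _) (fun h => hv1 (isConj_one_left.1 h))
  rw [colSum, finsum_mem_eq_toFinset_sum, one_mul] at h0
  refine Eq.trans ?_ (mul_eq_zero_of_right ((Nat.card P : ℂ) *
    (Nat.card (Subgroup.centralizer (Subgroup.zpowers v : Set G)) : ℂ)⁻¹ *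
      conj (th p M P c (Subgroup.zpowers v) m)) h0)
  rw [Finset.mul_sum]
  refine Finset.sum_congr rfl fun χ _ => ?_
  rw [Char.IsCharacter.apply_inv (Char.IsIrrCharacter.isCharacter χ.2), Complex.conj_conj]
  ring

open scoped Classical in
/-- The coefficients on representatives of the orbits of linear characters. -/
theorem exists_lattice [Fintype B] [Fintype (Coset M P c)] (hM : IsPModular p M) (hmax : IsMaximalBrauerPair p M B P c)
    (hab : ∀ x ∈ P, ∀ y ∈ P, x * y = y * x) (hfree : Free M P c) (hP1 : P ≠ ⊥) :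
    ∃ (f : ℕ) (n : B → Fin f → ℤ), 0 < f ∧
      Nat.card P = (Subgroup.centralizer (P : Set G)).relIndex (pairStab M P c) * f + 1 ∧
      (∀ j k, ∑ i, n i j * n i k =
        ((Subgroup.centralizer (P : Set G)).relIndex (pairStab M P c) : ℤ) +
          if j = k then 1 else 0) ∧
      (∀ i, ∃ j, n i j ≠ 0) ∧
      (∀ j (g : G), ¬ p ∣ orderOf g →
        ∑ i : B, ((i : IrrCharacter G) : G → ℂ) g * (n i j : ℂ) = 0) ∧
      ∃ (σ : G → ℤ) (rep : Fin f → (P →* ℂˣ)), (∀ v, σ v = 1 ∨ σ v = -1) ∧ (∀ j, rep j ≠ 1) ∧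
        (∀ l, l ≠ 1 → ∃! j, l ∈ dualOrb (M := M) (c := c) (rep j)) ∧
        ∀ (i : B) (v : P), v ≠ 1 →
          (σ (v : G) : ℂ) * dec p M P c (Subgroup.zpowers (v : G)) ((i : IrrCharacter G) : G → ℂ) v =
            ∑ j, (n i j : ℂ) * ∑ μ ∈ dualOrb (M := M) (c := c) (rep j), (μ v : ℂ) := by
  have := Fintype.ofFinite P
  have := Fintype.ofFinite (IrrCharacter G)
  let := commP hab
  have := Fintype.ofFinite (P →* ℂˣ)
  set e := (Subgroup.centralizer (P : Set G)).relIndex (pairStab M P c) with he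
  have hecard : Fintype.card (Coset M P c) = e := by rw [← Nat.card_eq_fintype_card]; rfl
  obtain ⟨σ, hσ, hσinv, hint⟩ := exists_sign hM hmax hab hfree hP1
  let D : IrrCharacter G → P → ℂ := fun χ v =>
    (σ (v : G) : ℂ) * dec p M P c (Subgroup.zpowers (v : G)) (χ : G → ℂ) v
  choose N hN using hint
  have hP0 : (Nat.card P : ℂ) ≠ 0 := Nat.cast_ne_zero.2 Nat.card_pos.ne'
  -- invariance
  have hDinv : ∀ χ (t : G) (ht : t ∈ pairStab M P c) (v : P), v ≠ 1 → D χ (conjP ht v) = D χ v := by
    intro χ t ht v hv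
    simp only [D, coe_conjP, hσinv t ht v v.2]
    congr 1
    rw [← conjSub_zpowers']
    exact dec_conj hM hmax hab hfree ht (Subgroup.zpowers_le.2 v.2)
      (fun h => hv (Subtype.ext (Subgroup.zpowers_eq_bot.1 h))) (fun n => irr_class χ n t) _
  have hNinv : ∀ χ l (t : G) (ht : t ∈ pairStab M P c), N χ (l.comp (conjP ht)) = N χ l := by
    intro χ l t ht
    apply Int.cast_injective (α := ℂ)
    rw [← hN, ← hN]
    congr 1
    let ψ : P ≃ P := Equiv.ofBijective _ (Finite.injective_iff_bijective.1 (conjP_injective ht))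
    refine Finset.sum_equiv ψ (fun v => ?_) fun v hv => ?_
    · simp only [Finset.mem_erase, Finset.mem_univ, and_true]
      exact not_congr ⟨fun h => by rw [show ψ v = conjP ht v from rfl, h, map_one],
        fun h => conjP_injective ht (by rw [map_one]; exact h)⟩
    · show _ = _ * D χ (conjP ht v)
      rw [hDinv χ t ht v (Finset.ne_of_mem_erase hv), MonoidHom.comp_apply, map_inv]
      rfl
  -- orthogonality of the columns
  have hDD : ∀ v w : P, v ≠ 1 → w ≠ 1 → ∑ χ ∈ B.toFinset, D χ v * conj (D χ w) =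
      if w ∈ Watanabe.orb M P c v then (Nat.card P : ℂ) else 0 := by
    intro v w hv hw
    have h := dec_ortho hM hmax hab hfree v w hv hw
    rw [finsum_mem_eq_toFinset_sum] at h
    have e1 : ∀ χ, D χ v * conj (D χ w) = ((σ (v : G) : ℂ) * (σ (w : G) : ℂ)) *
        (dec p M P c (Subgroup.zpowers (v : G)) (χ : G → ℂ) v *
          conj (dec p M P c (Subgroup.zpowers (w : G)) (χ : G → ℂ) w)) := fun χ => by
      simp only [D, map_mul, map_intCast]; ring
    simp only [e1, ← Finset.mul_sum, h]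
    split_ifs with horb
    · obtain ⟨t, ht, htw⟩ := Watanabe.mem_orb.1 horb
      rw [htw, hσinv t ht v v.2, ← Int.cast_mul]
      rcases hσ (v : G) with h1 | h1 <;> rw [h1] <;> simp
    · rw [mul_zero]
  -- Gram
  have hgram : ∀ l μ : P →* ℂˣ, l ≠ 1 → μ ≠ 1 → ∑ χ ∈ B.toFinset, (N χ l * N χ μ : ℤ) =
      ((Finset.univ.filter fun q : Coset M P c => μ.comp (cosetHom q) = l).card : ℤ) + e := by
    intro l μ hl hμ
    apply Int.cast_injective (α := ℂ)
    push_cast
    have hc : ∀ χ, ((N χ l : ℂ) * (N χ μ : ℂ)) = (Nat.card P : ℂ)⁻¹ * (Nat.card P : ℂ)⁻¹ *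
        ∑ v ∈ Finset.univ.erase (1 : P), ∑ w ∈ Finset.univ.erase (1 : P),
          ((l v⁻¹ : ℂ) - 1) * ((μ w : ℂ) - 1) * (D χ v * conj (D χ w)) := by
      intro χ
      rw [← map_intCast (starRingEnd ℂ) (N χ μ), ← hN, ← hN]
      simp only [map_mul, map_sum, map_sub, map_one, map_inv₀, Complex.conj_natCast, conj_apply,
        inv_inv, Finset.sum_mul, Finset.mul_sum, D]
      rw [Finset.sum_comm]
      refine Finset.sum_congr rfl fun v _ => Finset.sum_congr rfl fun w _ => ?_
      ring
    simp only [hc, ← Finset.mul_sum]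
    rw [Finset.sum_comm, Finset.sum_congr rfl fun v _ => Finset.sum_comm]
    simp only [← Finset.mul_sum]
    rw [Finset.sum_congr rfl fun v hv => Finset.sum_congr rfl fun w hw => by
      rw [hDD v w (Finset.ne_of_mem_erase hv) (Finset.ne_of_mem_erase hw)]]
    have hin : ∀ v ∈ Finset.univ.erase (1 : P),
        ∑ w ∈ Finset.univ.erase (1 : P), ((l v⁻¹ : ℂ) - 1) * ((μ w : ℂ) - 1) *
          (if w ∈ Watanabe.orb M P c v then (Nat.card P : ℂ) else 0) =
        (Nat.card P : ℂ) * ∑ q : Coset M P c,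
          ((l v⁻¹ : ℂ) - 1) * ((μ (cosetHom q v) : ℂ) - 1) := by
      intro v hv
      rw [Finset.sum_erase _ (by simp), ← sum_orb hfree (Finset.ne_of_mem_erase hv)
        (fun w => ((l v⁻¹ : ℂ) - 1) * ((μ w : ℂ) - 1)), Finset.mul_sum]
      simp only [mul_ite, mul_zero, Finset.sum_ite_mem, Finset.univ_inter]
      exact Finset.sum_congr rfl fun w _ => mul_comm _ _
    rw [Finset.sum_congr rfl hin, ← Finset.mul_sum, Finset.sum_erase _ (by simp), Finset.sum_comm,
      ← mul_assoc, mul_assoc (_⁻¹ : ℂ), inv_mul_cancel₀ hP0, mul_one, Finset.mul_sum]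
    rw [Finset.natCast_card_filter, ← hecard, Fintype.card_eq_sum_ones, Nat.cast_sum,
      ← Finset.sum_add_distrib]
    refine Finset.sum_congr rfl fun q _ => ?_
    rw [Nat.cast_one]
    set ν := μ.comp (cosetHom q) with hν
    have hν1 : ν ≠ 1 := fun h => hμ (MonoidHom.ext fun w => by
      obtain ⟨w', rfl⟩ := Finite.injective_iff_surjective.1 (conjP_injective q.out.2) w
      exact DFunLike.congr_fun h w')
    have hterm : ∀ v : P, ((l v⁻¹ : ℂ) - 1) * ((μ (cosetHom q v) : ℂ) - 1) =
        ((ν * l⁻¹) v : ℂ) - (l⁻¹ v : ℂ) - (ν v : ℂ) + 1 := fun v => by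
      simp only [hν, MonoidHom.mul_apply, MonoidHom.inv_apply, MonoidHom.comp_apply, Units.val_mul,
        map_inv]
      ring
    simp only [hterm, Finset.sum_add_distrib, Finset.sum_sub_distrib, Finset.sum_const,
      Finset.card_univ, nsmul_eq_mul, mul_one]
    rw [sum_group, sum_group, sum_group, if_neg hν1, if_neg (show ¬ l⁻¹ = 1 from fun h => hl (MonoidHom.ext fun v => by simpa using DFunLike.congr_fun h v)),
      ← Nat.card_eq_fintype_card]
    by_cases hνl : ν = l
    · rw [if_pos (mul_inv_eq_one.2 hνl), if_pos hνl]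
      field_simp
      ring
    · rw [if_neg (fun h => hνl (mul_inv_eq_one.1 h)), if_neg hνl]
      field_simp
      ring
  have key : ∀ (i : IrrCharacter G) (w : P), w ≠ 1 → ∑ l : P →* ℂˣ, (l w : ℂ) * (N i l : ℂ) = D i w := by
    intro i w hw
    simp only [← hN, Finset.mul_sum]
    rw [Finset.sum_comm]
    have hin : ∀ v ∈ Finset.univ.erase (1 : P), ∑ l : P →* ℂˣ,
        (l w : ℂ) * ((Nat.card P : ℂ)⁻¹ * (((l v⁻¹ : ℂ) - 1) * D i v)) =
          if v = w then D i v else 0 := by
      intro v _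
      have e1 : ∀ l : P →* ℂˣ, (l w : ℂ) * ((Nat.card P : ℂ)⁻¹ * (((l v⁻¹ : ℂ) - 1) * D i v)) =
          (Nat.card P : ℂ)⁻¹ * D i v * ((l (v⁻¹ * w) : ℂ) - (l w : ℂ)) := fun l => by
        rw [map_mul, Units.val_mul]; ring
      simp only [e1, ← Finset.mul_sum, Finset.sum_sub_distrib, sum_dual, hw, if_false, sub_zero,
        inv_mul_eq_one]
      split_ifs with h
      · field_simp
      · rw [mul_zero]
    rw [Finset.sum_congr rfl hin, Finset.sum_ite_eq',
      if_pos (Finset.mem_erase.2 ⟨hw, Finset.mem_univ _⟩)]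
  -- representatives
  set O := (Finset.univ.erase (1 : P →* ℂˣ)).image (dualOrb (M := M) (c := c)) with hO
  have hrep : ∀ o : O, ∃ l, l ≠ 1 ∧ dualOrb (M := M) (c := c) l = (o : Finset (P →* ℂˣ)) := by
    rintro ⟨o, ho⟩
    obtain ⟨l, hl, rfl⟩ := Finset.mem_image.1 ho
    exact ⟨l, Finset.ne_of_mem_erase hl, rfl⟩
  choose rep hrep1 hrep2 using hrep
  let ε := O.equivFin
  have hcard : Nat.card P = e * O.card + 1 := by
    have h := Finset.card_eq_sum_card_image (dualOrb (M := M) (c := c)) (Finset.univ.erase (1 : P →* ℂˣ))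
    rw [← hO, Finset.sum_congr rfl fun o ho => show _ = e from ?_, Finset.sum_const, smul_eq_mul,
      Finset.card_erase_of_mem (Finset.mem_univ _), Finset.card_univ, ← Nat.card_eq_fintype_card,
      card_dual, mul_comm] at h
    · have := Nat.card_pos (α := P)
      omega
    · obtain ⟨l, hl, rfl⟩ := Finset.mem_image.1 ho
      have hl1 := Finset.ne_of_mem_erase hl
      rw [show (Finset.univ.erase (1 : P →* ℂˣ)).filter
          (fun x => dualOrb (M := M) (c := c) x = dualOrb (M := M) (c := c) l) =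
            dualOrb (M := M) (c := c) l from ?_]
      · rw [← hecard, ← Finset.card_univ]
        unfold dualOrb
        convert Finset.card_image_of_injective (Finset.univ : Finset (Coset M P c))
          (comp_cosetHom_injective hab hfree hl1)
      ext μ
      simp only [Finset.mem_filter, Finset.mem_erase, Finset.mem_univ, and_true]
      refine ⟨fun h => h.2 ▸ self_mem_dualOrb μ, fun h => ⟨?_, dualOrb_eq h⟩⟩
      intro h1
      obtain ⟨t, ht, hμ⟩ := mem_dualOrb.1 h
      refine hl1 (MonoidHom.ext fun w => ?_)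
      obtain ⟨w', rfl⟩ := Finite.injective_iff_surjective.1 (conjP_injective ht) w
      exact (DFunLike.congr_fun (h1 ▸ hμ) w').symm
  refine ⟨O.card, fun i j => N i (rep (ε.symm j)), ?_, hcard, fun j k => ?_, fun i => ?_, fun j g hg => ?_,
    σ, fun j => rep (ε.symm j), hσ, fun j => hrep1 _, fun l hl => ?_, fun i w hw => ?_⟩
  · have : Nontrivial P := (Subgroup.nontrivial_iff_ne_bot P).2 hP1
    have h1 : 1 < Nat.card P := Finite.one_lt_card
    rcases Nat.eq_zero_or_pos O.card with h | h
    · rw [h] at hcard; omega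
    · exact h
  · rw [← Finset.sum_subtype (p := (· ∈ B)) B.toFinset (fun x => Set.mem_toFinset)
      fun χ => N χ (rep (ε.symm j)) * N χ (rep (ε.symm k)), hgram _ _ (hrep1 _) (hrep1 _), add_comm]
    congr 1
    split_ifs with hjk
    · subst hjk
      have hmem := self_mem_dualOrb (M := M) (c := c) (rep (ε.symm j))
      simp only [dualOrb, Finset.mem_image] at hmem
      obtain ⟨q0, -, hq0⟩ := hmem
      rw [Finset.card_eq_one.2 ⟨q0,
        Finset.eq_singleton_iff_unique_mem.2 ⟨Finset.mem_filter.2 ⟨Finset.mem_univ _, hq0⟩, fun q hq =>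
          comp_cosetHom_injective hab hfree (hrep1 _) ((Finset.mem_filter.1 hq).2.trans hq0.symm)⟩⟩,
        Nat.cast_one]
    · rw [Finset.filter_false_of_mem, Finset.card_empty, Nat.cast_zero]
      intro q _ hq
      refine hjk (ε.symm.injective (Subtype.ext ?_))
      rw [← hrep2, ← hrep2, ← hq]
      exact dualOrb_eq (mem_dualOrb.2 ⟨_, q.out.2, rfl⟩)
  · by_contra hzero
    push Not at hzero
    have hall : ∀ l, N i l = 0 := by
      intro l
      by_cases hl : l = 1
      · apply Int.cast_injective (α := ℂ)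
        rw [← hN, hl]
        simp
      obtain ⟨t, ht, hlt⟩ := mem_dualOrb.1 (show l ∈ dualOrb (M := M) (c := c)
          (rep ⟨_, Finset.mem_image_of_mem _ (Finset.mem_erase.2 ⟨hl, Finset.mem_univ l⟩)⟩) by
        rw [hrep2]; exact self_mem_dualOrb l)
      rw [hlt, hNinv]
      have := hzero (ε ⟨_, Finset.mem_image_of_mem _ (Finset.mem_erase.2 ⟨hl, Finset.mem_univ l⟩)⟩)
      rwa [ε.symm_apply_apply] at this
    have : Nontrivial P := (Subgroup.nontrivial_iff_ne_bot P).2 hP1
    obtain ⟨w, hw⟩ := exists_ne (1 : P)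
    have h0 : ∑ l : P →* ℂˣ, (l w : ℂ) * (N i l : ℂ) = 0 := by simp [hall]
    rw [key i w hw] at h0
    simp only [D, mul_eq_zero] at h0
    rcases h0 with h | h
    · rcases hσ (w : G) with h1 | h1 <;> rw [h1] at h <;> norm_num at h
    · exact dec_ne_zero hM hmax hab hfree w.2 (fun h' => hw (Subtype.ext h')) i.2 h
  · rw [← Finset.sum_subtype (p := (· ∈ B)) B.toFinset (fun x => Set.mem_toFinset)
      fun χ : IrrCharacter G => (χ : G → ℂ) g * (N χ (rep (ε.symm j)) : ℂ)]
    simp only [← hN, Finset.mul_sum]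
    rw [Finset.sum_comm]
    refine Finset.sum_eq_zero fun v hv => ?_
    have h := dec_regular_ortho hM hmax v.2 (fun h' => Finset.ne_of_mem_erase hv (Subtype.ext h')) hg
    rw [finsum_mem_eq_toFinset_sum] at h
    refine Eq.trans ?_ (mul_eq_zero_of_right ((Nat.card P : ℂ)⁻¹ *
      ((rep (ε.symm j) v⁻¹ : ℂ) - 1) * (σ (v : G) : ℂ)) h)
    rw [Finset.mul_sum]
    exact Finset.sum_congr rfl fun χ _ => by ring
  · refine ⟨ε ⟨_, Finset.mem_image_of_mem _ (Finset.mem_erase.2 ⟨hl, Finset.mem_univ l⟩)⟩, ?_, fun j hj => ?_⟩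
    · simp only [ε.symm_apply_apply, hrep2]
      exact self_mem_dualOrb l
    · refine ε.symm.injective (Subtype.ext ?_)
      rw [ε.symm_apply_apply]
      show ((ε.symm j : O) : Finset (P →* ℂˣ)) = dualOrb l
      rw [← hrep2, dualOrb_eq hj]
  · have hN1 : N i 1 = 0 := by
      apply Int.cast_injective (α := ℂ)
      rw [← hN]
      simp
    show D i w = _
    rw [← key i w hw, ← Finset.add_sum_erase Finset.univ _ (Finset.mem_univ (1 : P →* ℂˣ)), hN1,
      Int.cast_zero, mul_zero, zero_add,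
      ← Finset.sum_fiberwise_of_maps_to (g := dualOrb (M := M) (c := c)) (t := O)
        (fun l hl => Finset.mem_image_of_mem _ hl)]
    rw [← Finset.sum_coe_sort, ← Equiv.sum_comp ε.symm]
    refine Finset.sum_congr rfl fun j _ => ?_
    rw [Finset.mul_sum]
    refine Finset.sum_congr ?_ fun μ hμ => ?_
    · ext μ
      simp only [Finset.mem_filter, Finset.mem_erase, Finset.mem_univ, and_true]
      constructor
      · rintro ⟨-, h⟩
        rw [hrep2, ← h]
        exact self_mem_dualOrb μ
      · intro h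
        refine ⟨fun h1 => ?_, (dualOrb_eq h).trans (hrep2 _)⟩
        obtain ⟨t, ht, hμ⟩ := mem_dualOrb.1 h
        refine hrep1 (ε.symm j) (MonoidHom.ext fun x => ?_)
        obtain ⟨x', rfl⟩ := Finite.injective_iff_surjective.1 (conjP_injective ht) x
        exact (DFunLike.congr_fun (h1 ▸ hμ) x').symm
    · obtain ⟨t, ht, rfl⟩ := mem_dualOrb.1 hμ
      rw [hNinv, mul_comm]

end Cfsg.Agent.CycDefect
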