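import Cfsg.Agent.Lib.CycDefect.Setup
import Cfsg.Agent.Lib.CycDefect.Trace
import Cfsg.Agent.Lib.CycDefect.CentreGen
import Cfsg.Agent.Lib.CyclicDefect.Lower

/-!
# The centre of a nilpotent block with cyclic defect group, modulo `M`

`exists_central_gen`: the centre of the block algebra is spanned by the powers of a nilpotent
element `π`, whose annihilator there is at most one-dimensional.
-/

set_option autoImplicit false
set_option maxHeartbeats 600000
set_option synthInstance.maxHeartbeats 400000
set_option linter.unusedSectionVars false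
set_option linter.style.haveILetI false

namespace Cfsg.Agent.CycDefect

open Cfsg Cfsg.Agent.Blocks Cfsg.Agent.BrauerPairs Cfsg.Agent.Star

variable {G : Type*} [Group G] [Finite G] {p : ℕ} [Fact p.Prime] {M : Ideal AlgInt}

theorem card_irr_comm {P : Subgroup G} (hab : ∀ x ∈ P, ∀ y ∈ P, x * y = y * x) :
    Nat.card (IrrCharacter P) = Nat.card P := by
  rw [Char.card_irr_eq_card_conjClasses]
  refine (Nat.card_eq_of_bijective ConjClasses.mk ⟨fun x y h => ?_, Quotient.mk_surjective⟩).symm
  obtain ⟨c, hc⟩ := isConj_iff.1 (ConjClasses.mk_eq_mk_iff_isConj.1 h)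
  refine Subtype.ext ?_
  have hc' : (c : G) * x * (c : G)⁻¹ = y := by
    rw [← hc]; rfl
  rw [← hc', hab c c.2 x x.2, mul_inv_cancel_right]

theorem finrank_centre_le (hM : IsPModular p M) {b : Set (IrrCharacter G)} (hb : IsPBlock M b) :
    letI := ModRep.resField hM
    Module.finrank (Res M) (fixedIdeal (blk M b)) ≤ Nat.card b := by
  letI := ModRep.resField hM
  classical
  have := Fintype.ofFinite G
  have := Fintype.ofFinite (IrrCharacter G)
  let β := Module.finBasis (Res M) (fixedIdeal (blk M b))
  let x : Fin (Module.finrank (Res M) (fixedIdeal (blk M b))) → MonoidAlgebra (Res M) G := fun i => (β i : _)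
  have hbR := memR_blockCoeff hM hb
  let v : Fin (Module.finrank (Res M) (fixedIdeal (blk M b))) → G → ℂ := fun i =>
    Blocks.conv (lift (x i)) (blockCoeff b)
  have hvR : ∀ i g, MemLocalRing M (v i g) := fun i g => by
    simp only [v]
    rw [Blocks.conv_eq_sum]
    exact memR_sum hM _ fun y _ => memR_mul hM (memR_lift hM _ y) (hbR _)
  have hres : ∀ i g, (x i).coeff g = res M (v i g) := fun i g => by
    have h : red M (v i) = x i := by
      simp only [v]
      rw [red_conv hM (memR_lift hM _) hbR, red_lift hM]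
      exact (β i).2.2
    rw [← h, coeff_red]
  have hτ : LinearIndependent (Res M) fun i (g : G) => (x i).coeff g := by
    let L : MonoidAlgebra (Res M) G →ₗ[Res M] (G → Res M) :=
      { toFun := fun a g => a.coeff g
        map_add' := fun a c => funext fun g => by simp
        map_smul' := fun c a => funext fun g => by simp }
    have hL : LinearMap.ker L = ⊥ := LinearMap.ker_eq_bot.2 fun a c h =>
      MonoidAlgebra.coeff_injective (Finsupp.ext fun g => congrFun h g)
    exact (β.linearIndependent.map' (fixedIdeal (blk M b)).subtype (Submodule.ker_subtype _)).map' L hL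
  have h1 := CyclicDefect.card_le_finrank hM v hvR _ hτ fun i =>
    ⟨Pi.single i 1, fun g => by
      rw [finsum_eq_single _ i fun j hj => by rw [Pi.single_eq_of_ne hj, zero_mul], Pi.single_eq_same,
        one_mul, hres]⟩
  rw [Nat.card_fin] at h1
  refine h1.trans ?_
  let w : b → G → ℂ := fun χ => ofOmega (blockInd {χ.1})
  have := Fintype.ofFinite b
  calc Module.finrank ℂ (Submodule.span ℂ (Set.range v))
      ≤ Module.finrank ℂ (Submodule.span ℂ (Set.range w)) := Submodule.finrank_mono ?_
    _ ≤ Fintype.card b := finrank_range_le_card w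
    _ = Nat.card b := Nat.card_eq_fintype_card.symm
  rw [Submodule.span_le]
  rintro _ ⟨i, rfl⟩
  have hl : IsClassFunction G (lift (x i)) := isClassFunction_lift (β i).2.1
  have hom : omegaFun (v i) = fun χ => omegaFun (lift (x i)) χ * blockInd b χ := funext fun χ => by
    show Blocks.omega _ (Blocks.conv _ _) = _
    rw [Blocks.omega_conv hl (Blocks.isClassFunction_blockCoeff b), blockCoeff_eq_ofOmega, omega_ofOmega]
    rfl
  have hsum : (fun χ => omegaFun (lift (x i)) χ * blockInd b χ) =
      ∑ χ : b, omegaFun (lift (x i)) χ.1 • blockInd {χ.1} := by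
    funext ψ
    rw [Finset.sum_apply]
    by_cases hψ : ψ ∈ b
    · rw [blockInd_of_mem hψ, mul_one, Finset.sum_eq_single ⟨ψ, hψ⟩]
      · rw [Pi.smul_apply, blockInd_of_mem (Set.mem_singleton _), smul_eq_mul, mul_one]
      · intro χ _ hne
        rw [Pi.smul_apply, blockInd_of_notMem (fun h => hne (Subtype.ext
          (Set.mem_singleton_iff.1 h).symm)), smul_zero]
      · exact fun h => absurd (Finset.mem_univ _) h
    · rw [blockInd_of_notMem hψ, mul_zero]
      refine (Finset.sum_eq_zero fun χ _ => ?_).symm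
      rw [Pi.smul_apply, blockInd_of_notMem (fun h => hψ (by rw [Set.mem_singleton_iff.1 h]; exact χ.2)),
        smul_zero]
  rw [show v i = ofOmega (omegaFun (v i)) from
    (ofOmega_omega (Blocks.isClassFunction_conv hl (Blocks.isClassFunction_blockCoeff b))).symm]
  show ofOmega (omegaFun (v i)) ∈ Submodule.span ℂ (Set.range w)
  rw [hom, hsum]
  let O : (IrrCharacter G → ℂ) →ₗ[ℂ] (G → ℂ) :=
    { toFun := ofOmega, map_add' := ofOmega_add, map_smul' := ofOmega_smul }
  show O _ ∈ _
  rw [map_sum]
  exact Submodule.sum_mem _ fun χ _ => by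
    rw [map_smul]
    exact Submodule.smul_mem _ _ (Submodule.subset_span ⟨χ, rfl⟩)

/-- The centre of a nilpotent block with cyclic defect group. -/
theorem exists_central_gen (hM : IsPModular p M) {b : Set (IrrCharacter G)} {P : Subgroup G}
    {e : Set (IrrCharacter (Subgroup.centralizer (P : Set G)))}
    (hmax : IsMaximalBrauerPair p M b P e) (hcyc : IsCyclic P) (hnil : IsNilpotentBlock p M b) :
    letI := ModRep.resField hM
    ∃ π : MonoidAlgebra (Res M) G, π ∈ fixedIdeal (blk M b) ∧ π ^ Nat.card P * blk M b = 0 ∧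
      (∀ x ∈ fixedIdeal (blk M b), x ∈ Submodule.span (Res M)
        (Set.range fun i : Fin (Nat.card P) => π ^ (i : ℕ) * blk M b)) ∧
      ∀ x ∈ fixedIdeal (blk M b), ∀ y ∈ fixedIdeal (blk M b), π * x = 0 → π * y = 0 → y ≠ 0 →
        ∃ c : Res M, x = c • y := by
  letI := ModRep.resField hM
  classical
  have := res_charP hM
  have := Fintype.ofFinite G
  have hP : IsPGroup p P := hmax.1.1.1
  have he : IsPBlock M e := hmax.1.1.2
  have hb : IsPBlock M b := hmax.1.2.1
  have hab := comm_of_cyclic hcyc
  have hPC := le_centralizer_self hcyc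
  obtain ⟨-, -, hle⟩ := (isBrauerPairOf_iff hM).1 hmax.1
  have hT : ∀ t, t ∈ pairStab M P e → t ∈ Subgroup.centralizer (P : Set G) := fun t ht =>
    (S4687.result p M hM b P e hmax hab).1 hnil t (pairStab_le_normalizer P e ht)
      ((mem_pairStab_iff hM he).1 ht).2
  have hCN : (Subgroup.centralizer (P : Set G)) ≤ Subgroup.normalizer (P : Set G) := centralizer_le_normalizer hM P
  -- a relative trace equal to the idempotent of the pair
  have hbr0 : ∀ R : Subgroup G, IsPGroup p R → R ≤ (Subgroup.centralizer (P : Set G)) → br R (cb M P e) ≠ 0 →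
      ∃ g ∈ (Subgroup.centralizer (P : Set G)), R ≤ conjSub g P := by
    intro R hR hRC hne
    refine ⟨1, one_mem (Subgroup.centralizer (P : Set G)), ?_⟩
    rw [conjSub_one]
    have hRN : R ⊔ P ≤ Subgroup.normalizer (P : Set G) :=
      sup_le (hRC.trans hCN) Subgroup.le_normalizer
    have hp : IsPGroup p (R ⊔ P : Subgroup G) :=
      hR.to_sup_of_normal_right' hP (hRC.trans hCN)
    by_contra hle'
    have hlt : P < R ⊔ P :=
      lt_of_le_of_ne le_sup_right fun h => hle' (le_sup_left.trans h.ge)
    have hcs : SuppIn (Subgroup.centralizer (P : Set G)) (cb M P e) := (bIdem_central (Subgroup.centralizer (P : Set G)) e).1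
    have hfx : Fixed (R ⊔ P) (cb M P e) := (bIdem_central (Subgroup.centralizer (P : Set G)) e).2.mono (sup_le hRC hPC)
    have h0 := br_cb_eq_zero_of_maximal hM hmax hp hlt hRN hfx
    rw [sup_comm, br_sup_of_suppIn hcs] at h0
    exact hne h0
  have hz0 : Fixed (Subgroup.centralizer (P : Set G)) (cb M P e) := (bIdem_central (Subgroup.centralizer (P : Set G)) e).2
  obtain ⟨d, hd, hdtr, hds⟩ :=
    exists_relTr_of_br (p := p) (k := Res M) hPC hz0 hbr0
  obtain ⟨u, hu⟩ := hcyc.exists_generator
  have huC : (u : G) ∈ (Subgroup.centralizer (P : Set G)) := hPC u.2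
  set U : MonoidAlgebra (Res M) G := MonoidAlgebra.single (u : G) 1 with hU
  have hUs : SuppIn (Subgroup.centralizer (P : Set G)) U := fun x hx => by
    rw [hU, MonoidAlgebra.coeff_single, Finsupp.single_apply, if_neg]
    exact fun h => hx (h ▸ huC)
  have hds' : SuppIn (Subgroup.centralizer (P : Set G)) d := fun x hx => by
    by_contra h
    exact hds x h ((bIdem_central (Subgroup.centralizer (P : Set G)) e).1 x hx)
  have hUfix : Fixed P U := fun v hv => by
    rw [hU, cj_single, hab v hv u u.2, mul_inv_cancel_right]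
  have hUC : Fixed (Subgroup.centralizer (P : Set G)) U := fun v hv => by
    rw [hU, cj_single, ← Subgroup.mem_centralizer_iff.1 hv u u.2, mul_inv_cancel_right]
  set cbe := cb M P e with hcbe
  have hcbfix : Fixed (Subgroup.centralizer (P : Set G)) cbe := (bIdem_central (Subgroup.centralizer (P : Set G)) e).2
  have hc1 : Fixed P (U * d * cbe) := (hUfix.mul hd).mul (hcbfix.mono hPC)
  have hc1s : SuppIn (Subgroup.centralizer (P : Set G)) (U * d * cbe) := (hUs.mul hds').mul (bIdem_central (Subgroup.centralizer (P : Set G)) e).1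
  have hee : cbe * cbe = cbe := bIdem_mul_self hM he
  have hwfix : Fixed ⊤ (relTr P ⊤ (U * d * cbe) * blk M b) :=
    (fixed_relTr hc1).mul (fixed_blk b)
  have hψw : br P (relTr P ⊤ (U * d * cbe) * blk M b) * cbe = U * cbe := by
    rw [br_mul (p := p) hP ((fixed_relTr hc1).mono le_top) ((fixed_blk b).mono le_top), mul_assoc,
      hle, br_relTr_self hP le_top hc1, br_eq_self hc1s, top_inf_eq,
      relTr_mul_eq_of_vanish hCN hc1 ?_ hPC, relTr_mul hcbfix, mul_assoc, hee,
      ← relTr_mul hcbfix, ← mul_relTr hUC, hdtr, mul_assoc, hee]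
    intro t htN htC
    have hcj : cj t cbe = cb M P (conjImg (Subgroup.centralizer (P : Set G)) (Subgroup.centralizer (P : Set G)) t
        (mem_normalizer_iff_conj (mem_normalizer_centralizer htN)) e) := cj_bIdem hM _ e
    have hne : cj t cbe ≠ cbe := fun h => htC (hT t ⟨htN, h⟩)
    have hz : cj t cbe * cbe = 0 := by
      rw [hcj] at hne ⊢
      exact bIdem_mul_of_ne hM (isPBlock_conjImg _ he) he fun h => hne (by rw [h])
    rw [map_mul, mul_assoc, hz, mul_zero]
  have hreg : ∀ x, cbe.coeff x ≠ 0 → ¬ p ∣ orderOf x := by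
    intro x hx hdvd
    have hxC := (bIdem_central (Subgroup.centralizer (P : Set G)) e).1.mem_of_ne hx
    refine hx ?_
    rw [show cbe = bIdem M (Subgroup.centralizer (P : Set G)) e from rfl, coeff_bIdem hM (Subgroup.centralizer (P : Set G)) e x, subgroupBlockCoeff, dif_pos hxC,
      CyclicDefect.blockCoeff_singular hM he (by rwa [← Subgroup.orderOf_coe]), res_zero hM]
  obtain ⟨χ, -, -, Ψ, -⟩ := Star.nilpotent_summary hM hnil (maximal_isDefectGroup hM hmax)
  have hord : orderOf (u : G) = Nat.card P := by
    rw [Subgroup.orderOf_coe]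
    exact orderOf_eq_card_of_forall_mem_zpowers hu
  have hcard : Nat.card b = orderOf (u : G) := by
    rw [hord, ← card_irr_comm hab, Nat.card_congr Ψ]
  obtain ⟨π, h1, h2, h3, h4⟩ := exists_gen (p := p) (k := Res M) hP u.2 (ce := cb M P e) (bIdem_central (Subgroup.centralizer (P : Set G)) e).1 hee
    (bIdem_ne_zero hM he) hreg hCN (fixed_blk b) (blk_mul_self hM hb) hle hwfix hψw
    ((finrank_centre_le hM hb).trans hcard.le)
  rw [hord] at h2 h3
  exact ⟨π, h1, h2, h3, h4⟩

end Cfsg.Agent.CycDefect
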