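import Cfsg.Agent.Lib.CycDefect.Unique
import Cfsg.Agent.Lib.CycDefect.GoodMap
import Cfsg.Agent.Lib.CycDefect.Extend

/-!
# Simple modules from the extensions of the simple module of a block of the centraliser

`exists_simples`: `e` pairwise non-isomorphic simple `G`-modules on which `a` is the identity.
-/

set_option autoImplicit false
set_option maxHeartbeats 1600000
set_option linter.unusedSectionVars false
set_option linter.style.haveILetI false

namespace Cfsg.Agent.CycDefect

open Cfsg.Agent.BrauerPairs Cfsg.Agent.Star Representation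

variable {k : Type*} [Field k] {G : Type*} [Group G]

theorem up_injective (C : Subgroup G) : Function.Injective (up (k := k) C) := fun x y h => by
  ext c
  rw [← coeff_up_coe C x c, ← coeff_up_coe C y c, h]

theorem exists_up {C : Subgroup G} {a : MonoidAlgebra k G} (ha : SuppIn C a) :
    ∃ x : MonoidAlgebra k C, up C x = a := by
  refine ⟨MonoidAlgebra.ofCoeff (a.coeff.comapDomain Subtype.val Subtype.val_injective.injOn), ?_⟩
  ext y
  by_cases hy : y ∈ C
  · exact coeff_up_coe C _ ⟨y, hy⟩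
  · rw [ha y hy, suppIn_up C _ y hy]

theorem up_cj (C : Subgroup G) (c : C) (x : MonoidAlgebra k C) :
    up C (cj c x) = cj (c : G) (up C x) := by
  induction x using MonoidAlgebra.induction_linear with
  | zero => simp
  | add a b ha hb => simp [map_add, ha, hb]
  | single g t => rw [up_single, cj_single, up_single, cj_single]; rfl

variable {p : ℕ} [Fact p.Prime] [CharP k p] [IsAlgClosed k] [Finite G]

theorem exists_simples {C H : Subgroup G} [Fintype C] (hCH : C ≤ H)
    (hHC : H ≤ Subgroup.normalizer (C : Set G)) {g : G} (hg : g ∈ H) {e : ℕ} [NeZero (e : k)]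
    (he : ∀ i : ℤ, g ^ i ∈ C ↔ (e : ℤ) ∣ i)
    (hgen : ∀ h ∈ H, ∃ i : ℤ, g ^ i * (1 : G) * h ∈ C) (hidx : ((C.relIndex H : ℕ) : k) ≠ 0)
    {bb π : MonoidAlgebra k C} {n : ℕ} (hgπ : IsGen bb π n) (hB : Fixed H (up C bb))
    (hπH : ∀ h ∈ H, ∃ y, cj h (up C π) = up C π * up C y)
    {D N : Subgroup G} (hDC : D ≤ C) (hHN : H ≤ N)
    {c₁ : MonoidAlgebra k G} (hc₁ : Fixed D c₁) (hc₁C : SuppIn C c₁)
    (hc₁B : c₁ * up C bb = c₁) (hc₁T : relTr D H c₁ = up C bb)
    (hN : ∀ g, g ∉ N → ∀ d ∈ D, g⁻¹ * d * g ∈ D → d = 1)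
    (hsep : ∀ g ∈ N, g ∉ H → up C bb * cj g (up C bb) = 0)
    {z : G} (hz : orderOf z = p) (hzC : z ∈ C)
    (hCz : Subgroup.centralizer (Subgroup.zpowers z : Set G) = C)
    {a : MonoidAlgebra k G} (ha : Fixed ⊤ a) (haa : a * a = a)
    (hab : br (Subgroup.zpowers z) a * up C bb = up C bb) :
    ∃ (d : Fin e → ℕ) (φ : ∀ i, Representation k G (Fin (d i) → k)),
      (∀ i, (φ i).IsIrreducible) ∧ (∀ i, (φ i).asAlgebraHom a = 1) ∧
        ∀ i j, i ≠ j → IsEmpty ((φ i).Equiv (φ j)) := by
  classical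
  obtain ⟨d, ρ, hρi, hρ⟩ := hgπ.exists_simple
  haveI := hρi
  obtain ⟨ε, c, hcor, s₀, hs₀, hεs, hrk⟩ := hgπ.exists_corner ρ hρ
  -- the conjugate of `ρ` by `g` is isomorphic to `ρ`
  have hgN : g ∈ Subgroup.normalizer (C : Set G) := hHC hg
  have hconj : ∀ c : C, g * c * g⁻¹ ∈ C := fun c => (Subgroup.mem_normalizer_iff.1 hgN _).1 c.2
  let cg : C ≃* C :=
    { toFun := fun c => ⟨g * c * g⁻¹, hconj c⟩
      invFun := fun c => ⟨g⁻¹ * c * g, by
        simpa using (Subgroup.mem_normalizer_iff.1 (inv_mem hgN) _).1 c.2⟩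
      left_inv := fun c => Subtype.ext (by group)
      right_inv := fun c => Subtype.ext (by group)
      map_mul' := fun a b => Subtype.ext (by simp) }
  let ρg : Representation k C (Fin d → k) := ρ.comp cg.toMonoidHom
  haveI : ρg.IsIrreducible := by
    refine (OrderIso.isSimpleOrder_iff (β := Subrepresentation ρ) ?_).2 hρi
    exact
      { toFun := fun W => ⟨W.toSubmodule, fun c v hv => by
          have := W.apply_mem_toSubmodule (cg.symm c) hv
          simpa [ρg] using this⟩
        invFun := fun W => ⟨W.toSubmodule, fun c v hv => W.apply_mem_toSubmodule (cg c) hv⟩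
        left_inv := fun W => rfl
        right_inv := fun W => rfl
        map_rel_iff' := Iff.rfl }
  have hρg : ρg.asAlgebraHom bb = 1 := by
    have key : ∀ x : MonoidAlgebra k C, ∃ y, up C y = cj g (up C x) ∧
        ρg.asAlgebraHom x = ρ.asAlgebraHom y := by
      intro x
      induction x using MonoidAlgebra.induction_linear with
      | zero => exact ⟨0, by simp, by simp⟩
      | add a b ha hb =>
        obtain ⟨y, hy, hy'⟩ := ha
        obtain ⟨y', hy₁, hy₂⟩ := hb
        exact ⟨y + y', by rw [map_add, hy, hy₁, map_add, map_add], by rw [map_add, hy', hy₂, map_add]⟩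
      | single x t =>
        refine ⟨MonoidAlgebra.single (cg x) t, ?_, ?_⟩
        · rw [up_single, up_single, cj_single]; rfl
        · rw [asAlgebraHom_single, asAlgebraHom_single]; rfl
    obtain ⟨y, hy, hy'⟩ := key bb
    rw [hB g hg] at hy
    rw [hy', up_injective C hy, hρ]
  obtain ⟨E⟩ := hgπ.simple_equiv ρ ρg hρ hρg
  let X : (Module.End k (Fin d → k))ˣ :=
    ⟨E.toLinearEquiv.toLinearMap, E.toLinearEquiv.symm.toLinearMap,
      LinearMap.ext fun v => E.toLinearEquiv.apply_symm_apply v,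
      LinearMap.ext fun v => E.toLinearEquiv.symm_apply_apply v⟩
  obtain ⟨τ, hτC, hτi, hτne⟩ := exists_extensions hCH hg hgN he hgen ρ X fun c h => LinearMap.ext fun v =>
    LinearMap.congr_fun (E.toIntertwiningMap.isIntertwining' c) v
  -- `z` acts trivially
  have hρz : ρ ⟨z, hzC⟩ = 1 := by
    obtain ⟨t, ht⟩ := ModRep.exists_scalar ρ (ρ ⟨z, hzC⟩) fun c v => by
      rw [← Module.End.mul_apply, ← Module.End.mul_apply, ← map_mul, ← map_mul]
      refine congrArg (fun x => ρ x v) (Subtype.ext ?_)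
      have hc : (c : G) ∈ Subgroup.centralizer (Subgroup.zpowers z : Set G) := hCz.symm ▸ c.2
      exact Subgroup.mem_centralizer_iff.1 hc z (Subgroup.mem_zpowers z)
    have hpow : ρ ⟨z, hzC⟩ = t • 1 := LinearMap.ext fun v => by simpa using ht v
    have h1 : (ρ ⟨z, hzC⟩) ^ p = 1 := by
      rw [← map_pow, show (⟨z, hzC⟩ : C) ^ p = 1 from Subtype.ext (by
        rw [SubgroupClass.coe_pow, ← hz, pow_orderOf_eq_one]; rfl), map_one]
    rw [hpow, smul_pow, one_pow] at h1
    have h2 := LinearMap.congr_fun h1 s₀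
    rw [LinearMap.smul_apply, Module.End.one_apply] at h2
    have h3 : (t ^ p - 1) • s₀ = 0 := by rw [sub_smul, h2, one_smul, sub_self]
    have h4 : t ^ p = 1 ^ p := by
      rw [one_pow]; exact sub_eq_zero.1 ((smul_eq_zero.1 h3).resolve_right hs₀)
    rw [hpow, (frobenius_inj k p) h4, one_smul]
  have hτz : ∀ i, ∀ h : H, (h : G) ∈ Subgroup.zpowers z → τ i h = 1 := by
    intro i h hh
    have hhC : (h : G) ∈ C := Subgroup.zpowers_le.2 hzC hh
    rw [show h = ⟨((⟨h, hhC⟩ : C) : G), hCH hhC⟩ from rfl, hτC]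
    obtain ⟨j, hj⟩ := Subgroup.mem_zpowers_iff.1 hh
    rw [show (⟨h, hhC⟩ : C) = ⟨z, hzC⟩ ^ j from Subtype.ext (by rw [SubgroupClass.coe_zpow, hj])]
    suffices h : ∀ m : ℕ, ρ (⟨z, hzC⟩ ^ m) = 1 by
      obtain ⟨m, rfl | rfl⟩ := j.eq_nat_or_neg
      · rw [zpow_natCast, h]
      · have h2 : ρ (⟨z, hzC⟩ ^ (-(m : ℤ))) * ρ (⟨z, hzC⟩ ^ m) = 1 := by
          rw [← map_mul, ← zpow_natCast, ← zpow_add, neg_add_cancel, zpow_zero, map_one]
        rwa [h, mul_one] at h2
    intro m
    rw [map_pow, hρz, one_pow]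
  obtain ⟨x, hx⟩ := exists_up (C := C) (a := br (Subgroup.zpowers z) a) (hCz ▸ suppIn_br _ a)
  have hρx : ρ.asAlgebraHom x = 1 := by
    have h := congrArg ρ.asAlgebraHom (up_injective C
      (show up C (x * bb) = up C bb by rw [map_mul, hx, hab]))
    rwa [map_mul, hρ, mul_one] at h
  have hact : ∀ i, actH (τ i) (br (Subgroup.zpowers z) a) = 1 := fun i => by
    rw [← hx, actH_up hCH, show (τ i).comp (Subgroup.inclusion hCH) = ρ from MonoidHom.ext (hτC i),
      hρx]
  choose d' φ hφi hφa q hq hqn using fun i =>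
    exists_good_irreducible ha haa hz (hCH hzC) (hτz i) (hact i) hs₀
  refine ⟨d', φ, hφi, hφa, fun i j hij => ⟨fun f => ?_⟩⟩
  haveI := hφi j
  have hf : ∀ (x : G) (v : Fin (d' j) → k),
      f.toLinearEquiv.symm (φ j x v) = φ i x (f.toLinearEquiv.symm v) := fun x v => by
    rw [LinearEquiv.symm_apply_eq]
    have := LinearMap.congr_fun (f.toIntertwiningMap.isIntertwining' x) (f.toLinearEquiv.symm v)
    refine Eq.trans ?_ this.symm
    show φ j x v = φ j x (f.toLinearEquiv (f.toLinearEquiv.symm v))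
    rw [LinearEquiv.apply_symm_apply]
  have := Fintype.ofFinite H
  refine good_unique hCH hidx hgπ hcor hs₀ hεs hrk hρ hB hπH hDC hHN hc₁ hc₁C hc₁B hc₁T hN hsep
    (hτC i) (hτC j) (fun h => (hτne i j hij).false ?_) (q₁ := (q i).comp f.toLinearEquiv.symm.toLinearMap)
    (fun h v => ?_) (fun γ hγ => hqn i (γ.comp f.toLinearEquiv.toLinearMap) (LinearMap.ext fun v => ?_))
    (hq j) (hqn j)
  · rw [h]; exact Representation.Equiv.refl _
  · show q i (f.toLinearEquiv.symm (φ j (h : G) v)) = _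
    rw [hf, hq i h]
    rfl
  · have h1 := LinearMap.congr_fun hγ (f.toLinearEquiv v)
    rw [LinearMap.comp_apply, LinearEquiv.coe_coe, LinearEquiv.symm_apply_apply, nmHom_apply] at h1
    rw [h1, nmHom_apply]
    refine Finset.sum_congr rfl fun h _ => congrArg (τ i h) (congrArg γ ?_)
    rw [LinearEquiv.coe_coe, ← LinearEquiv.symm_apply_eq, hf, LinearEquiv.symm_apply_apply]

end Cfsg.Agent.CycDefect
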