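import Cfsg.Agent.Lib.CycDefect.Setup
import Cfsg.Agent.Lib.CycDefect.LocalCentre
import Cfsg.Agent.Lib.CycDefect.Simples
import Cfsg.Agent.Lib.BlockFour.Rank

/-!
# A block with cyclic defect group has at least as many modular characters as its inertial index
-/

set_option autoImplicit false
set_option maxHeartbeats 1000000
set_option linter.unusedSectionVars false
set_option linter.style.haveILetI false
set_option synthInstance.maxHeartbeats 200000

namespace Cfsg.Agent.CycDefect

open Cfsg Cfsg.Agent.Blocks Cfsg.Agent.BrauerPairs Cfsg.Agent.LocalRank Cfsg.Agent.Star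
open Representation

variable {G : Type*} [Group G] [Finite G] {p : ℕ} [Fact p.Prime] {M : Ideal AlgInt}
  {B : Set (IrrCharacter G)} {D : Subgroup G}
  {eD : Set (IrrCharacter (Subgroup.centralizer (D : Set G)))}

/-- Non-isomorphic simple modules of a block are at most `blockRank` many. -/
theorem card_simples_le (hM : IsPModular p M) (hB : IsPBlock M B) :
    letI := ModRep.resField hM
    ∀ {e : ℕ} {d : Fin e → ℕ} (φ : ∀ i, Representation (Res M) G (Fin (d i) → Res M)),
      (∀ i, (φ i).IsIrreducible) → (∀ i, (φ i).asAlgebraHom (blk M B) = 1) →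
      (∀ i j, i ≠ j → IsEmpty ((φ i).Equiv (φ j))) → e ≤ blockRank p B := by
  letI := ModRep.resField hM
  haveI := res_charP hM
  haveI := ModRep.isAlgClosed_res hM
  intro e d φ hirr hone hne
  refine BlockFour.card_le_blockRank hM hB (fun i => traceFun (φ i)) (fun i a b => ?_) (fun i a => ?_) ?_
  · rw [traceFun_apply, traceFun_apply, map_mul (φ i).asAlgebraHom, map_mul (φ i).asAlgebraHom,
      LinearMap.trace_mul_comm]
  · rw [traceFun_apply, traceFun_apply, map_mul (φ i).asAlgebraHom, hone, mul_one]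
  · intro c hc
    have hind := ModRep.linearIndependent_trace (fun i => Fin (d i) → Res M) φ hirr hne
    rw [Fintype.linearIndependent_iff] at hind
    refine funext (hind c (funext fun g => ?_))
    obtain ⟨u, y, hguy, hug, hyg, hu, hyco⟩ := Transfer.exists_pPart_mul (p := p) g
    have hyreg : ¬ p ∣ orderOf y := hM.1.coprime_iff_not_dvd.mp hyco.symm
    have hcuy : Commute u y := by
      obtain ⟨i, hi⟩ := Subgroup.mem_zpowers_iff.mp hug
      obtain ⟨j, hj⟩ := Subgroup.mem_zpowers_iff.mp hyg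
      have h1 := (Commute.refl g).zpow_zpow i j
      rwa [hi, hj] at h1
    rw [Finset.sum_apply]
    refine (Finset.sum_congr rfl fun i _ => ?_).trans (hc y hyreg)
    rw [Pi.smul_apply, smul_eq_mul, traceFun_apply, asAlgebraHom_single, one_smul,
      ModRep.trace_eq_pPrime hM.1 (φ i) hcuy hguy hu]

variable (hM : IsPModular p M) (hmax : IsMaximalBrauerPair p M B D eD) (hcyc : IsCyclic D)
include hM hmax hcyc

/-- The generator of order `p` and the subgroup it generates. -/
theorem exists_order_p (hD1 : D ≠ ⊥) :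
    ∃ z ∈ D, orderOf z = p ∧ ∀ x ∈ D, x ^ p = 1 → x ∈ Subgroup.zpowers z := by
  have hD : IsPGroup p D := hmax.1.1.1
  haveI : Nontrivial D := (Subgroup.nontrivial_iff_ne_bot D).2 hD1
  obtain ⟨m, hm0, hm⟩ := hD.nontrivial_iff_card.1 inferInstance
  obtain ⟨z, hz⟩ := exists_prime_orderOf_dvd_card' p (show p ∣ Nat.card D from
    hm ▸ dvd_pow_self p (by omega))
  refine ⟨z, z.2, by rw [Subgroup.orderOf_coe]; exact hz, fun x hx hxp => ?_⟩
  haveI := hcyc
  have := Fintype.ofFinite D
  classical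
  -- the roots of `X ^ p = 1` in a cyclic group are at most `p`
  have hle := IsCyclic.card_pow_eq_one_le (α := D) (n := p) (Fact.out : p.Prime).pos
  have hsub : (Subgroup.zpowers z : Set D).toFinset ⊆
      Finset.univ.filter fun a : D => a ^ p = 1 := fun a ha => by
    rw [Set.mem_toFinset] at ha
    obtain ⟨i, rfl⟩ := Subgroup.mem_zpowers_iff.1 ha
    refine Finset.mem_filter.2 ⟨Finset.mem_univ _, ?_⟩
    rw [← zpow_natCast, ← zpow_mul, mul_comm, zpow_mul, zpow_natCast, ← hz, pow_orderOf_eq_one,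
      one_zpow]
  have heq := Finset.eq_of_subset_of_card_le hsub (hle.trans (le_of_eq (by
    rw [← Nat.card_coe_set_eq (Subgroup.zpowers z : Set D) |>.trans
      (Set.ncard_eq_toFinset_card' _)]
    exact (Nat.card_zpowers z).trans hz |>.symm)))
  have hx' : (⟨x, hx⟩ : D) ∈ Finset.univ.filter fun a : D => a ^ p = 1 :=
    Finset.mem_filter.2 ⟨Finset.mem_univ _, Subtype.ext hxp⟩
  rw [← heq, Set.mem_toFinset] at hx'
  obtain ⟨i, hi⟩ := Subgroup.mem_zpowers_iff.1 hx'
  exact ⟨i, by simpa using congrArg Subtype.val hi⟩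

/-- The inertial index is at most the number of modular characters. -/
theorem relIndex_le_blockRank (hD1 : D ≠ ⊥) :
    (Subgroup.centralizer (D : Set G)).relIndex (pairStab M D eD) ≤ blockRank p B := by
  classical
  letI := ModRep.resField hM
  haveI := res_charP hM
  haveI := ModRep.isAlgClosed_res hM
  have := Fintype.ofFinite G
  have hp : p.Prime := Fact.out
  obtain ⟨z, hzD, hz, hzu⟩ := exists_order_p hM hmax hcyc hD1
  set Z := Subgroup.zpowers z with hZdef
  have hZD : Z ≤ D := Subgroup.zpowers_le.2 hzD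
  have hZ1 : Z ≠ ⊥ := fun h => hp.one_lt.ne' (by rw [← hz, orderOf_eq_one_iff.2 (Subgroup.zpowers_eq_bot.1 h)])
  set C := Subgroup.centralizer (Z : Set G) with hC
  obtain ⟨f, hf, hle⟩ := exists_subpair hM hmax.1.1 hZD
  have hpair : IsBrauerPairOf p M B Z f := (isBrauerPairOf_iff_of_le hM hmax.1.2.1 hle).1 hmax.1
  obtain ⟨-, -, hbrZ⟩ := (isBrauerPairOf_iff hM).1 hpair
  set H := pairStab M Z f with hH
  set e := (Subgroup.centralizer (D : Set G)).relIndex (pairStab M D eD) with he_def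
  have := Fintype.ofFinite C
  obtain ⟨P', e', hmax', hPD, hcyc', hst⟩ := exists_local hM hmax hcyc hZD hf hle
  have hnil : IsNilpotentBlock p M f := nilpotent_local hM hmax hcyc hZD hf hle hZ1
  obtain ⟨π, hπ, hπn, hspan, hann⟩ := exists_central_gen hM hmax' hcyc' hnil
  have hn0 : 0 < Nat.card P' := Nat.card_pos
  have hgπ : IsGen (blk M f) π (Nat.card P') :=
    { fixed_bb := fixed_blk f
      bb_mul := blk_mul_self hM hf
      bb_ne := blk_ne_zero hM hf
      fixed_pi := hπ.1
      pi_mul := hπ.2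
      pi_pow := by
        obtain ⟨m, hm⟩ := Nat.exists_eq_succ_of_ne_zero hn0.ne'
        rw [hm] at hπn ⊢
        rw [pow_succ, mul_assoc, hπ.2] at hπn
        rwa [pow_succ]
      ann := hann }
  have hupb : up C (blk M f) = cb M Z f := rfl
  have hCH : C ≤ H := centralizer_le_pairStab hM Z f
  have hHC : H ≤ Subgroup.normalizer (C : Set G) := fun x hx =>
    mem_normalizer_centralizer (pairStab_le_normalizer Z f hx)
  have hB' : Fixed H (up C (blk M f)) := fun x hx => by rw [hupb]; exact hx.2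
  have hrel : C.relIndex H = e := relIndex_local hM hmax hcyc hZD hf hle hZ1
  have hedvd : e ∣ p - 1 := relIndex_dvd hM hmax hcyc hD1
  have hep : ¬ p ∣ e := fun h => by
    have h1 := Nat.le_of_dvd (by have := hp.two_le; omega) (h.trans hedvd)
    have := hp.two_le
    omega
  haveI : NeZero (e : Res M) := ⟨by rwa [Ne, CharP.cast_eq_zero_iff (Res M) p]⟩
  have hidx : ((C.relIndex H : ℕ) : Res M) ≠ 0 := by rw [hrel]; exact NeZero.ne _
  haveI hCN : (C.subgroupOf H).Normal := (Subgroup.normal_subgroupOf_iff_le_normalizer hCH).2 hHC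
  -- a generator of `H` over `C`
  haveI := normal_centralizer hM hmax hcyc
  obtain ⟨q₀, hq₀⟩ := (cyclic_quotient hM hmax hcyc hD1).exists_generator
  obtain ⟨t₀, rfl⟩ := QuotientGroup.mk_surjective q₀
  have ht₀H : (t₀ : G) ∈ H := le_pairStab_local hM hmax hcyc hZD hf hle t₀.2
  have hgen' : ∀ h : H, ∃ i : ℤ, (⟨(t₀ : G), ht₀H⟩ : H) ^ i * h ∈ C.subgroupOf H := by
    intro h
    obtain ⟨c, hc, hch⟩ := (mem_pairStab_local_iff hM hmax hcyc hZD hf hle).1 h.2
    obtain ⟨i, hi⟩ := Subgroup.mem_zpowers_iff.1 (hq₀ (QuotientGroup.mk ⟨c * h, hch⟩))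
    rw [← QuotientGroup.mk_zpow, QuotientGroup.eq, Subgroup.mem_subgroupOf] at hi
    refine ⟨-i, ?_⟩
    rw [Subgroup.mem_subgroupOf]
    have hi' : ((t₀ : G) ^ i)⁻¹ * (c * (h : G)) ∈ C := by
      have := Subgroup.centralizer_le hZD (by simpa using hi :
        ((t₀ : G) ^ i)⁻¹ * (c * (h : G)) ∈ Subgroup.centralizer (D : Set G))
      exact this
    have hNt : (t₀ : G) ^ (-i) ∈ Subgroup.normalizer (C : Set G) := zpow_mem (hHC ht₀H) _
    have h2 : (t₀ : G) ^ (-i) * c⁻¹ * ((t₀ : G) ^ (-i))⁻¹ ∈ C :=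
      (Subgroup.mem_normalizer_iff.1 hNt _).1 (inv_mem hc)
    have h3 := mul_mem h2 hi'
    rw [zpow_neg] at h3 ⊢
    simpa [mul_assoc] using h3
  have hgen : ∀ h ∈ H, ∃ i : ℤ, (t₀ : G) ^ i * 1 * h ∈ C := fun h hh => by
    obtain ⟨i, hi⟩ := hgen' ⟨h, hh⟩
    rw [Subgroup.mem_subgroupOf] at hi
    exact ⟨i, by simpa using hi⟩
  have hord : orderOf (QuotientGroup.mk (⟨(t₀ : G), ht₀H⟩ : H) : H ⧸ C.subgroupOf H) = e := by
    rw [orderOf_eq_card_of_forall_mem_zpowers fun q => ?_]
    · exact hrel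
    induction q using QuotientGroup.induction_on with
    | H h =>
      obtain ⟨i, hi⟩ := hgen' h
      refine Subgroup.mem_zpowers_iff.2 ⟨-i, ?_⟩
      rw [← QuotientGroup.mk_zpow, QuotientGroup.eq]
      simpa using hi
  have he : ∀ i : ℤ, (t₀ : G) ^ i ∈ C ↔ (e : ℤ) ∣ i := fun i => by
    rw [← hord, orderOf_dvd_iff_zpow_eq_one, ← QuotientGroup.mk_zpow, QuotientGroup.eq_one_iff,
      Subgroup.mem_subgroupOf, SubgroupClass.coe_zpow]
  -- the nilpotent generator under `H`
  have hπH : ∀ h ∈ H, ∃ y, cj h (up C π) = up C π * up C y := by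
    intro h hh
    obtain ⟨π', hπ'⟩ := exists_up (C := C) (a := cj h (up C π))
      (SuppIn.cj_mem (suppIn_up C π) fun x hx => (Subgroup.mem_normalizer_iff.1 (hHC hh) x).1 hx)
    have hfix : Fixed ⊤ π' := fun c _ => up_injective C (by
      have hconj : h⁻¹ * (c : G) * h ∈ C := by
        simpa using (Subgroup.mem_normalizer_iff.1 (inv_mem (hHC hh)) _).1 c.2
      rw [up_cj, hπ', ← cj_mul, show (c : G) * h = h * (h⁻¹ * c * h) by group, cj_mul,
        show h⁻¹ * (c : G) * h = ((⟨_, hconj⟩ : C) : G) from rfl, ← up_cj,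
        hπ.1 _ (Subgroup.mem_top _)])
    have hmul : π' * blk M f = π' := up_injective C (by
      rw [map_mul, hπ', ← hB' h hh, ← map_mul, ← map_mul, hπ.2])
    have hpow : π' ^ Nat.card P' = 0 := up_injective C (by
      rw [map_pow, hπ', ← map_pow, ← map_pow, hgπ.pi_pow, map_zero, map_zero])
    obtain ⟨b, hb⟩ := (Submodule.mem_span_range_iff_exists_fun _).1 (hspan π' ⟨hfix, hmul⟩)
    -- the constant coefficient vanishes
    obtain ⟨m, hm⟩ := Nat.exists_eq_succ_of_ne_zero hn0.ne'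
    obtain ⟨d, ρ, hρi, hρ⟩ := hgπ.exists_simple
    haveI := hρi
    have hb0 : b ⟨0, hn0⟩ = 0 := by
      have h1 : ρ.asAlgebraHom π' = b ⟨0, hn0⟩ • 1 := by
        rw [← hb, map_sum, Finset.sum_eq_single ⟨0, hn0⟩]
        · rw [map_smul, pow_zero, one_mul, hρ]
        · intro i _ hi
          have hi0 : (i : ℕ) ≠ 0 := fun h0 => hi (Fin.ext h0)
          rw [map_smul, map_mul, map_pow, hgπ.pi_act_zero ρ, zero_pow hi0, zero_mul, smul_zero]
        · exact fun h' => absurd (Finset.mem_univ _) h'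
      have h2 := congrArg ρ.asAlgebraHom hpow
      rw [map_pow, h1, map_zero, smul_pow, one_pow] at h2
      haveI : Nontrivial (Fin d → Res M) := IsSimpleModule.nontrivial (MonoidAlgebra (Res M) C) ρ.asModule
      exact pow_eq_zero_iff hn0.ne' |>.1 ((smul_eq_zero.1 h2).resolve_right one_ne_zero)
    refine ⟨∑ i : Fin (Nat.card P'), b i • (π ^ ((i : ℕ) - 1) * blk M f), ?_⟩
    rw [← hπ', ← map_mul, ← hb, Finset.mul_sum]
    congr 1
    refine Finset.sum_congr rfl fun i _ => ?_
    rcases Nat.eq_zero_or_pos (i : ℕ) with hi | hi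
    · rw [show i = ⟨0, hn0⟩ from Fin.ext hi, hb0]; simp
    · rw [mul_smul_comm, ← mul_assoc, ← pow_succ', Nat.sub_add_cancel hi]
  -- the trace from `D`
  have hDC : D ≤ C := (le_centralizer_self hcyc).trans (Subgroup.centralizer_le hZD)
  have hDH : D ≤ H := hDC.trans hCH
  have hbr : ∀ R : Subgroup G, IsPGroup p R → R ≤ H → br R (up C (blk M f)) ≠ 0 →
      ∃ g ∈ H, R ≤ conjSub g D := by
    intro R hR hRH hne
    have hRC : R ≤ C := by
      intro x hx
      obtain ⟨j, hj⟩ := hR ⟨x, hx⟩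
      have hxj : x ^ p ^ j = 1 := congrArg Subtype.val hj
      have hxe : x ^ e ∈ C := by
        have := Subgroup.pow_index_mem (C.subgroupOf H) (⟨x, hRH hx⟩ : H)
        rw [show (C.subgroupOf H).index = e from hrel] at this
        exact this
      have h := Nat.gcd_eq_gcd_ab (p ^ j) e
      rw [(Nat.Coprime.pow_left j ((Fact.out : p.Prime).coprime_iff_not_dvd.2 hep)).gcd_eq_one] at h
      rw [← zpow_one x, show (1 : ℤ) = _ from h, zpow_add, zpow_mul, zpow_mul, zpow_natCast,
        zpow_natCast, hxj, one_zpow, one_mul]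
      exact zpow_mem hxe _
    obtain ⟨E, hE, hRE⟩ := sub_exists_defectGroup_ge hM hf hRC hR hne
    obtain ⟨c, hc⟩ := Blocks.isDefectGroup_conj_eq hM hf (maximal_isDefectGroup hM hmax') hE
    refine ⟨(c : G), hCH c.2, fun x hx => mem_conjSub.2 ?_⟩
    have h1 := hc.symm.le (hRE (show (⟨x, hRC hx⟩ : C) ∈ R.subgroupOf C from hx))
    rw [mem_conjSub] at h1
    rw [← hPD]
    exact ⟨_, h1, rfl⟩
  obtain ⟨c₀, hc₀, hc₀T, hc₀s⟩ := exists_relTr_of_br (p := p) (k := Res M) hDH hB' hbr
  have hc₀C : SuppIn C c₀ := fun x hx => by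
    by_contra h
    exact hc₀s x h (suppIn_up C _ x hx)
  have hBB : up C (blk M f) * up C (blk M f) = up C (blk M f) := by
    rw [← map_mul, blk_mul_self hM hf]
  have hc₁T : relTr D H (c₀ * up C (blk M f)) = up C (blk M f) := by
    rw [← relTr_mul hB', hc₀T, hBB]
  obtain ⟨d, φ, hφi, hφa, hφne⟩ := exists_simples (k := Res M) hCH hHC ht₀H he hgen hidx hgπ hB' hπH
    (D := D) (N := Subgroup.normalizer (Z : Set G)) hDC (pairStab_le_normalizer Z f)
    (c₁ := c₀ * up C (blk M f)) (hc₀.mul (hB'.mono hDH)) (hc₀C.mul (suppIn_up C _))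
    (by rw [mul_assoc, hBB]) hc₁T
    (fun g hg d hd hgd => by
      by_contra hd1
      refine hg ?_
      obtain ⟨j, hj⟩ := hmax.1.1.1 ⟨d, hd⟩
      have hj' : d ^ p ^ j = 1 := congrArg Subtype.val hj
      obtain ⟨i, hi⟩ := (Nat.dvd_prime_pow hp).1 (orderOf_dvd_of_pow_eq_one hj')
      have hi0 : i ≠ 0 := fun h => hd1 (orderOf_eq_one_iff.1 (by rw [hi.2, h, pow_zero]))
      set d' := d ^ p ^ (i - 1) with hd'
      have hd'p : d' ^ p = 1 := by
        rw [hd', ← pow_mul, ← pow_succ, Nat.sub_add_cancel (Nat.one_le_iff_ne_zero.2 hi0), ← hi.2,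
          pow_orderOf_eq_one]
      have hd'1 : d' ≠ 1 := fun h => by
        have := Nat.le_of_dvd (pow_pos hp.pos _) (orderOf_dvd_of_pow_eq_one h)
        rw [hi.2] at this
        exact absurd this (not_le.2 (Nat.pow_lt_pow_right hp.one_lt (by omega)))
      have hgen1 : ∀ w : G, w ∈ D → w ^ p = 1 → w ≠ 1 → Subgroup.zpowers w = Z := fun w hw hwp hw1 => by
        refine Subgroup.eq_of_le_of_card_ge (Subgroup.zpowers_le.2 (hzu w hw hwp)) ?_
        rw [Nat.card_zpowers, Nat.card_zpowers, hz, orderOf_eq_prime hwp hw1]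
      have hgd' : (g⁻¹ * d * g) ^ p ^ (i - 1) = g⁻¹ * d' * g := by
        rw [hd']
        simpa using conj_pow (a := g⁻¹) (b := d) (i := p ^ (i - 1))
      have hw : g⁻¹ * d' * g ∈ D := hgd' ▸ D.pow_mem hgd _
      have hwp : (g⁻¹ * d' * g) ^ p = 1 := by
        have := conj_pow (a := g⁻¹) (b := d') (i := p)
        rw [inv_inv, hd'p, mul_one, inv_mul_cancel] at this
        exact this
      have hw1 : g⁻¹ * d' * g ≠ 1 := fun h => hd'1 (by
        calc d' = g * (g⁻¹ * d' * g) * g⁻¹ := by group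
          _ = 1 := by rw [h]; group)
      rw [Subgroup.mem_normalizer_iff_map_conj_eq]
      conv_lhs => rw [← hgen1 _ hw hwp hw1, MonoidHom.map_zpowers]
      simp only [MonoidHom.coe_coe, MulAut.conj_apply]
      rw [show g * (g⁻¹ * d' * g) * g⁻¹ = d' by group]
      exact hgen1 d' (D.pow_mem hd _) hd'p hd'1)
    (fun g hgN hgH => by
      have hne : cj g (cb M Z f) ≠ cb M Z f := fun h => hgH ⟨hgN, h⟩
      rw [hupb]
      have hcj : cj g (cb M Z f) = cb M Z (conjImg C C g
        (mem_normalizer_iff_conj (mem_normalizer_centralizer hgN)) f) := cj_bIdem hM _ f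
      rw [hcj] at hne ⊢
      exact bIdem_mul_of_ne hM hf (isPBlock_conjImg _ hf) fun h => hne (by rw [← h]))
    hz (Subgroup.centralizer_le hZD (le_centralizer_self hcyc hzD)) rfl (fixed_blk B)
    (blk_mul_self hM hmax.1.2.1) hbrZ
  exact card_simples_le hM hmax.1.2.1 φ hφi hφa hφne

end Cfsg.Agent.CycDefect
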