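import Cfsg.Agent.Lib.Blocks.FreeInertial.Lattice
import Cfsg.Agent.Lib.CycDefect.Setup
import Mathlib.RingTheory.ZMod.UnitsCyclic

/-!
# Orbits of linear characters under the endomorphisms of order dividing `e`

* `orb`, `orbSum`, `orb_comp`: these orbits are carried along isomorphisms;
* `dualOrb_eq_orb`: for a cyclic defect group they are the orbits of the inertial quotient.
-/

set_option autoImplicit false
set_option linter.unusedSectionVars false
set_option linter.style.haveILetI false

namespace Cfsg.Agent.CycDefect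

open Cfsg Cfsg.Agent.Blocks Cfsg.Agent.BrauerPairs Cfsg.Agent.FreeInertial

section orbits

variable {A : Type*} [Group A] [Finite A] {A' : Type*} [Group A'] [Finite A']

open scoped Classical in
/-- The linear characters `l ∘ f` with `f` of order dividing `e`. -/
noncomputable def orb (e : ℕ) (l : A →* ℂˣ) : Finset (A →* ℂˣ) :=
  letI := Fintype.ofFinite (A →* ℂˣ)
  Finset.univ.filter fun μ => ∃ f : A →* A, (∀ x, (⇑f)^[e] x = x) ∧ μ = l.comp f

theorem mem_orb {e : ℕ} {l μ : A →* ℂˣ} :
    μ ∈ orb e l ↔ ∃ f : A →* A, (∀ x, (⇑f)^[e] x = x) ∧ μ = l.comp f := by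
  classical
  simp [orb]

/-- The sum of an orbit. -/
noncomputable def orbSum (e : ℕ) (l : A →* ℂˣ) (v : A) : ℂ := ∑ μ ∈ orb e l, (μ v : ℂ)

theorem mem_orb_comp_iff (θ : A' ≃* A) {e : ℕ} {l μ : A →* ℂˣ} :
    μ.comp θ.toMonoidHom ∈ orb e (l.comp θ.toMonoidHom) ↔ μ ∈ orb e l := by
  rw [mem_orb, mem_orb]
  constructor
  · rintro ⟨f, hf, h⟩
    refine ⟨θ.toMonoidHom.comp (f.comp θ.symm.toMonoidHom), fun x => ?_, ?_⟩
    · have hn : ∀ (n : ℕ), (⇑(θ.toMonoidHom.comp (f.comp θ.symm.toMonoidHom)))^[n] x =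
          θ ((⇑f)^[n] (θ.symm x)) := by
        intro n
        induction n with
        | zero => simp
        | succ n ih => rw [Function.iterate_succ_apply', Function.iterate_succ_apply', ih]; simp
      rw [hn, hf, θ.apply_symm_apply]
    · refine MonoidHom.ext fun x => ?_
      have := DFunLike.congr_fun h (θ.symm x)
      simpa using this
  · rintro ⟨f, hf, rfl⟩
    refine ⟨θ.symm.toMonoidHom.comp (f.comp θ.toMonoidHom), fun x => ?_, ?_⟩
    · have hn : ∀ (n : ℕ), (⇑(θ.symm.toMonoidHom.comp (f.comp θ.toMonoidHom)))^[n] x =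
          θ.symm ((⇑f)^[n] (θ x)) := by
        intro n
        induction n with
        | zero => simp
        | succ n ih => rw [Function.iterate_succ_apply', Function.iterate_succ_apply', ih]; simp
      rw [hn, hf, θ.symm_apply_apply]
    · refine MonoidHom.ext fun x => ?_
      simp

theorem orbSum_comp (θ : A' ≃* A) (e : ℕ) (l : A →* ℂˣ) (v : A') :
    orbSum e (l.comp θ.toMonoidHom) v = orbSum e l (θ v) := by
  unfold orbSum
  symm
  refine Finset.sum_bij (fun μ _ => μ.comp θ.toMonoidHom) (fun μ hμ => (mem_orb_comp_iff θ).2 hμ)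
    (fun μ _ μ' _ h => MonoidHom.ext fun x => ?_) (fun ν hν => ?_) (fun μ _ => rfl)
  · simpa using DFunLike.congr_fun h (θ.symm x)
  · have e1 : (ν.comp θ.symm.toMonoidHom).comp θ.toMonoidHom = ν := MonoidHom.ext fun x => by simp
    exact ⟨ν.comp θ.symm.toMonoidHom, (mem_orb_comp_iff θ).1 (e1.symm ▸ hν), e1⟩

theorem conj_orbSum (e : ℕ) (l : A →* ℂˣ) (v : A) :
    (starRingEnd ℂ) (orbSum e l v) = orbSum e l v⁻¹ := by
  simp only [orbSum, map_sum]
  refine Finset.sum_congr rfl fun μ _ => ?_
  have h : ((μ v : ℂˣ) : ℂ) ^ Nat.card A = 1 := by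
    rw [← Units.val_pow_eq_pow_val, ← map_pow, pow_card_eq_one', map_one, Units.val_one]
  rw [map_inv, Units.val_inv_eq_inv_val,
    Complex.inv_eq_conj (Complex.norm_eq_one_of_pow_eq_one h Nat.card_pos.ne')]

/-- In a cyclic `p`-group at most `e` automorphisms have order dividing `e`, for `e ∣ p - 1`. -/
theorem card_le_of_iterate [IsCyclic A] {p a e : ℕ} (hp : p.Prime) (ha : Nat.card A = p ^ a)
    (he0 : 0 < e) (he : e ∣ p - 1) (S : Finset (A →* A)) (hS : ∀ f ∈ S, ∀ x, (⇑f)^[e] x = x) :
    S.card ≤ e := by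
  classical
  rcases eq_or_ne p 2 with rfl | hp2
  · have he1 : e = 1 := Nat.dvd_one.1 he
    refine (Finset.card_le_one.2 fun f hf g hg => MonoidHom.ext fun x => ?_).trans he1.ge
    have h1 := hS f hf x
    have h2 := hS g hg x
    rw [he1, Function.iterate_one] at h1 h2
    rw [h1, h2]
  have := Fintype.ofFinite A
  have hbij : ∀ f ∈ S, Function.Bijective ⇑f := fun f hf => by
    refine Finite.injective_iff_bijective.1 fun x y h => ?_
    obtain ⟨n, hn⟩ := Nat.exists_eq_succ_of_ne_zero he0.ne'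
    rw [← hS f hf x, ← hS f hf y, hn, Function.iterate_succ_apply, Function.iterate_succ_apply, h]
  let ι : S → MulAut A := fun f => MulEquiv.ofBijective f.1 (hbij f.1 f.2)
  have hι : Function.Injective ι := fun f g h => Subtype.ext (MonoidHom.ext fun x =>
    DFunLike.congr_fun h x)
  haveI : IsCyclic (ZMod (Nat.card A))ˣ := by
    rw [ha]; exact ZMod.isCyclic_units_of_prime_pow p hp hp2 a
  haveI : IsCyclic (MulAut A) := isCyclic_of_surjective (IsCyclic.mulAutMulEquiv A).symm.toMonoidHom
    (IsCyclic.mulAutMulEquiv A).symm.surjective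
  have := Fintype.ofFinite (MulAut A)
  refine le_trans ?_ (IsCyclic.card_pow_eq_one_le (α := MulAut A) he0)
  rw [← Fintype.card_coe, ← Finset.card_univ]
  refine Finset.card_le_card_of_injOn ι (fun f _ => ?_) hι.injOn
  refine Finset.mem_filter.2 ⟨Finset.mem_univ _, MulEquiv.ext fun x => ?_⟩
  have hpow : ∀ n : ℕ, (ι f ^ n) x = (⇑f.1)^[n] x := by
    intro n
    induction n with
    | zero => simp
    | succ n ih => rw [pow_succ', MulAut.mul_apply, ih, Function.iterate_succ_apply']; rfl
  rw [hpow, hS f.1 f.2]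
  rfl

end orbits

variable {G : Type*} [Group G] [Finite G] {p : ℕ} [Fact p.Prime] {M : Ideal AlgInt}
  {B : Set (IrrCharacter G)} {P : Subgroup G}
  {c : Set (IrrCharacter (Subgroup.centralizer (P : Set G)))}

/-- The orbits of the inertial quotient on the linear characters. -/
theorem dualOrb_eq_orb [Fintype (Coset M P c)] (hM : IsPModular p M)
    (hmax : IsMaximalBrauerPair p M B P c) (hcyc : IsCyclic P) (hP1 : P ≠ ⊥) {e : ℕ}
    (he : (Subgroup.centralizer (P : Set G)).relIndex (pairStab M P c) = e) {l : P →* ℂˣ}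
    (hl : l ≠ 1) :
    dualOrb (M := M) (c := c) l = orb e l := by
  classical
  have := Fintype.ofFinite (P →* ℂˣ)
  haveI := normal_centralizer hM hmax hcyc
  have he0 : 0 < e := he ▸ Nat.pos_of_ne_zero Subgroup.index_ne_zero_of_finite
  have hsub : dualOrb (M := M) (c := c) l ⊆ orb e l := by
    intro μ hμ
    obtain ⟨t, ht, rfl⟩ := mem_dualOrb.1 hμ
    refine mem_orb.2 ⟨conjP ht, fun x => Subtype.ext ?_, rfl⟩
    have hiter : ∀ n : ℕ, (((⇑(conjP ht))^[n] x : P) : G) = t ^ n * x * (t ^ n)⁻¹ := by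
      intro n
      induction n with
      | zero => simp
      | succ n ih => rw [Function.iterate_succ_apply', coe_conjP, ih, pow_succ']; group
    have htC : t ^ e ∈ Subgroup.centralizer (P : Set G) := by
      have := Subgroup.pow_index_mem
        ((Subgroup.centralizer (P : Set G)).subgroupOf (pairStab M P c)) (⟨t, ht⟩ : pairStab M P c)
      rw [← he]
      exact this
    rw [hiter, ← Subgroup.mem_centralizer_iff.1 htC x x.2, mul_inv_cancel_right]
  refine Finset.eq_of_subset_of_card_le hsub ?_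
  obtain ⟨a, ha⟩ := (show IsPGroup p P from hmax.1.1.1).exists_card_eq
  have : Finite (P →* P) := Finite.of_injective (fun f => (⇑f : P → P)) DFunLike.coe_injective
  have := Fintype.ofFinite (P →* P)
  haveI := hcyc
  refine le_trans ?_ (le_of_eq_of_le (show e = (dualOrb (M := M) (c := c) l).card by
    rw [dualOrb, Finset.card_image_of_injective _ (comp_cosetHom_injective (comm_of_cyclic hcyc)
      (fun _ ht _ hx hx1 hfix => free hM hmax hcyc ht hx hx1 hfix) hl), Finset.card_univ,
      ← Nat.card_eq_fintype_card, ← he]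
    rfl) le_rfl)
  refine le_trans ?_ (card_le_of_iterate (Fact.out : p.Prime) ha he0
    (he ▸ relIndex_dvd hM hmax hcyc hP1)
    (Finset.univ.filter fun f : P →* P => ∀ x, (⇑f)^[e] x = x) fun f hf => (Finset.mem_filter.1 hf).2)
  refine le_trans (Finset.card_le_card (t := (Finset.univ.filter
    fun f : P →* P => ∀ x, (⇑f)^[e] x = x).image fun f => l.comp f) fun μ hμ => ?_) Finset.card_image_le
  obtain ⟨f, hf, rfl⟩ := mem_orb.1 hμ
  exact Finset.mem_image.2 ⟨f, Finset.mem_filter.2 ⟨Finset.mem_univ _, hf⟩, rfl⟩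

end Cfsg.Agent.CycDefect
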