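import Cfsg.Agent.Lib.CycDefect.HomTrace

/-!
# Sums over cosets, free orbits and sums of conjugates of endomorphisms
-/

set_option autoImplicit false
set_option linter.unusedSectionVars false
set_option linter.style.haveILetI false

namespace Cfsg.Agent.CycDefect

variable {G : Type*} [Group G]

theorem sum_eq_sum_cosets {A : Type*} [AddCommMonoid A] (D : Subgroup G) [Fintype G]
    [Fintype (G ⧸ D)] [Fintype D] (f : G → A) :
    ∑ g, f g = ∑ o : G ⧸ D, ∑ d : D, f (o.out * (d : G)) := by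
  rw [← Finset.sum_product', Finset.univ_product_univ]
  symm
  refine Fintype.sum_bijective (fun od : (G ⧸ D) × D => od.1.out * (od.2 : G)) ⟨?_, ?_⟩ _ _
    fun _ => rfl
  · rintro ⟨o, d⟩ ⟨o', d'⟩ h
    dsimp only at h
    have ho : o = o' := by
      rw [← o.out_eq, ← o'.out_eq]
      show (QuotientGroup.mk o.out : G ⧸ D) = QuotientGroup.mk o'.out
      rw [QuotientGroup.eq, show o'.out = o.out * d * (d' : G)⁻¹ by rw [h, mul_inv_cancel_right],
        mul_assoc, inv_mul_cancel_left]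
      exact D.mul_mem d.2 (inv_mem d'.2)
    subst ho
    rw [Subtype.ext (mul_left_cancel h)]
  · intro g
    obtain ⟨d, hd⟩ := QuotientGroup.mk_out_eq_mul D g
    refine ⟨(QuotientGroup.mk g, d⁻¹), ?_⟩
    show (QuotientGroup.mk g : G ⧸ D).out * ((d⁻¹ : D) : G) = g
    rw [hd, Subgroup.coe_inv, mul_inv_cancel_right]

/-- An equivariant sum over a set with free action is a sum over the group. -/
theorem sum_free_orbits {P α A : Type*} [Group P] [Fintype P] [MulAction P α] [Fintype α]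
    [AddCommMonoid A] (hfree : ∀ (u : P) (a : α), u • a = a → u = 1) (Φ : P → A →+ A) (f : α → A)
    (hf : ∀ u a, f (u • a) = Φ u (f a)) :
    ∃ y : A, ∑ a, f a = ∑ u, Φ u y := by
  classical
  have := Fintype.ofFinite (MulAction.orbitRel.Quotient P α)
  refine ⟨∑ ω : MulAction.orbitRel.Quotient P α, f ω.out, ?_⟩
  simp only [map_sum]
  rw [Finset.sum_comm, ← Finset.sum_product', Finset.univ_product_univ]
  symm
  refine Fintype.sum_bijective
    (fun q : MulAction.orbitRel.Quotient P α × P => q.2 • q.1.out) ⟨?_, ?_⟩ _ _ fun q =>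
      (hf q.2 q.1.out).symm
  · rintro ⟨ω, u⟩ ⟨ω', u'⟩ h
    dsimp only at h
    have hω : ω = ω' := by
      rw [← ω.out_eq, ← ω'.out_eq]
      refine Quotient.sound ?_
      show ω.out ∈ MulAction.orbit P ω'.out
      rw [MulAction.mem_orbit_iff]
      exact ⟨u⁻¹ * u', by rw [mul_smul, ← h, inv_smul_smul]⟩
    subst hω
    have h1 := hfree (u⁻¹ * u') ω.out (by rw [mul_smul, ← h, inv_smul_smul])
    rw [inv_mul_eq_one] at h1
    rw [h1]
  · intro a
    have h : (Quotient.mk _ a : MulAction.orbitRel.Quotient P α).out ∈ MulAction.orbit P a :=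
      MulAction.orbitRel_apply.1 (Quotient.mk_out (s := MulAction.orbitRel P α) a)
    obtain ⟨u, hu⟩ := h
    refine ⟨(Quotient.mk _ a, u⁻¹), ?_⟩
    show u⁻¹ • (Quotient.mk _ a : MulAction.orbitRel.Quotient P α).out = a
    rw [← hu]
    exact inv_smul_smul u a

/-- The cosets inside an intermediate subgroup. -/
theorem sum_cosets_filter {A : Type*} [AddCommMonoid A] {D H : Subgroup G} (hDH : D ≤ H)
    [Fintype (G ⧸ D)] [Fintype (H ⧸ D.subgroupOf H)] [DecidablePred (· ∈ H)] (F : G → A)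
    (hF : ∀ g, ∀ d ∈ D, F (g * d) = F g) :
    ∑ o ∈ Finset.univ.filter (fun o : G ⧸ D => o.out ∈ H), F o.out =
      ∑ q : H ⧸ D.subgroupOf H, F ((q.out : H) : G) := by
  classical
  symm
  refine Finset.sum_bij (fun q _ => (QuotientGroup.mk ((q.out : H) : G) : G ⧸ D))
    (fun q _ => ?_) ?_ ?_ ?_
  · obtain ⟨d, hd⟩ := QuotientGroup.mk_out_eq_mul D ((q.out : H) : G)
    refine Finset.mem_filter.2 ⟨Finset.mem_univ _, ?_⟩
    rw [hd]
    exact H.mul_mem q.out.2 (hDH d.2)
  · intro a _ b _ hab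
    rw [← a.out_eq, ← b.out_eq]
    show (QuotientGroup.mk a.out : H ⧸ _) = QuotientGroup.mk b.out
    rw [QuotientGroup.eq] at hab ⊢
    rw [Subgroup.mem_subgroupOf]
    exact hab
  · intro o ho
    refine ⟨QuotientGroup.mk (⟨o.out, (Finset.mem_filter.1 ho).2⟩ : H), Finset.mem_univ _, ?_⟩
    obtain ⟨d, hd⟩ := QuotientGroup.mk_out_eq_mul (D.subgroupOf H)
      (⟨o.out, (Finset.mem_filter.1 ho).2⟩ : H)
    rw [hd]
    refine Eq.trans ?_ o.out_eq
    show (QuotientGroup.mk _ : G ⧸ D) = QuotientGroup.mk o.out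
    rw [QuotientGroup.eq, Subgroup.coe_mul, mul_inv_rev]
    simpa using inv_mem (Subgroup.mem_subgroupOf.1 d.2)
  · intro q _
    obtain ⟨d, hd⟩ := QuotientGroup.mk_out_eq_mul D ((q.out : H) : G)
    rw [hd, hF _ d d.2]

section conjugates

variable {k V : Type*} [Field k] [AddCommGroup V] [Module k V]

theorem conj_well_defined (φ : Representation k G V) {L : Subgroup G} {f : Module.End k V}
    (hf : ∀ l ∈ L, φ l * f = f * φ l) (g : G) {l : G} (hl : l ∈ L) :
    φ (g * l) * f * φ (g * l)⁻¹ = φ g * f * φ g⁻¹ := by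
  rw [map_mul φ, mul_inv_rev, map_mul φ, mul_assoc (φ g), hf l hl]
  simp only [← mul_assoc]
  rw [mul_assoc _ (φ l) (φ l⁻¹), ← map_mul, mul_inv_cancel, map_one, mul_one]

/-- The sum of the conjugates over cosets commutes with the group. -/
theorem sum_conj_comm (φ : Representation k G V) {L : Subgroup G} [Fintype (G ⧸ L)]
    {f : Module.End k V} (hf : ∀ l ∈ L, φ l * f = f * φ l) (g : G) :
    φ g * (∑ o : G ⧸ L, φ o.out * f * φ o.out⁻¹) =
      (∑ o : G ⧸ L, φ o.out * f * φ o.out⁻¹) * φ g := by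
  have hout : ∀ a : G, φ (a : G ⧸ L).out * f * φ ((a : G ⧸ L).out)⁻¹ = φ a * f * φ a⁻¹ := fun a => by
    obtain ⟨l, hl⟩ := QuotientGroup.mk_out_eq_mul L a
    rw [hl, conj_well_defined φ hf a l.2]
  rw [Finset.mul_sum, Finset.sum_mul]
  refine Fintype.sum_equiv (MulAction.toPerm g) _ _ fun o => ?_
  have e : (g • o : G ⧸ L) = ((g * o.out : G) : G ⧸ L) := by
    rw [← smul_eq_mul g, MulAction.Quotient.coe_smul_out]
  show φ g * (φ o.out * f * φ o.out⁻¹) = φ (g • o : G ⧸ L).out * f * φ ((g • o : G ⧸ L).out)⁻¹ * φ g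
  rw [e, hout, mul_inv_rev, map_mul φ, map_mul φ]
  simp only [mul_assoc, ← map_mul φ g⁻¹, inv_mul_cancel, map_one, mul_one]

end conjugates

end Cfsg.Agent.CycDefect
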