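import Cfsg.Agent.Lib.CycDefect.Structure
import Cfsg.Agent.Lib.BrauerPairs.Correspondence

/-!
# Nilpotent blocks with cyclic defect group
-/

set_option autoImplicit false
set_option linter.unusedSectionVars false

namespace Cfsg.Agent.CycDefect

open Cfsg Cfsg.Agent.Blocks Cfsg.Agent.BrauerPairs

variable {G : Type*} [Group G] [Finite G] {p : ℕ} [Fact p.Prime] {M : Ideal AlgInt}

theorem nilpotent_iff_rank_one (hM : IsPModular p M) {B : Set (IrrCharacter G)} (hB : IsPBlock M B)
    {P : Subgroup G} (hPD : IsDefectGroup p M B P) (hcyc : IsCyclic P) :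
    IsNilpotentBlock p M B ↔ blockRank p B = 1 := by
  classical
  refine ⟨fun h => blockRank_of_nilpotent hM h hPD, fun h => ?_⟩
  obtain ⟨c, hc⟩ := exists_pair_of_defectGroup hM hB hPD
  have hmax := isMaximal_of_isDefectGroup hM hc hPD
  have := Fintype.ofFinite G
  have := Fintype.ofFinite (IrrCharacter G)
  rw [S4687.result p M hM B P c hmax (comm_of_cyclic hcyc)]
  intro x hx hst
  rcases eq_or_ne P ⊥ with rfl | hP1
  · rw [Subgroup.mem_centralizer_iff]
    intro y hy
    rw [SetLike.mem_coe, Subgroup.mem_bot] at hy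
    rw [hy, one_mul, mul_one]
  have he := (exists_structure hM hmax hcyc hP1
    (e := (Subgroup.centralizer (P : Set G)).relIndex (pairStab M P c)) rfl).1
  rw [h, eq_comm, Subgroup.relIndex_eq_one] at he
  exact he ((mem_pairStab_iff hM hmax.1.1.2).2 ⟨hx, hst⟩)

end Cfsg.Agent.CycDefect
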