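import Cfsg.Agent.Lib.CycDefect.Reps
import Cfsg.Agent.Lib.CycDefect.CentreGen

/-!
# A block algebra with one simple module and a primitive idempotent with uniserial corner

`IsGen bb π n`: `bb` is a central idempotent, `π` a central nilpotent of `bb` whose annihilator among
the invariant elements of `bb` is at most one-dimensional.
* `exists_simple`, `simple_equiv`: exactly one simple module;
* `pi_act_zero`;
* `exists_corner`: an idempotent `ε` of rank one on the simple module with `ε A ε` spanned by the
  powers of `π`, and `bb` in the two-sided ideal of `ε`;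
* `extend_apply`, `extend_comm`: extension of maps from `ε X`.
-/

set_option autoImplicit false
set_option maxHeartbeats 1000000
set_option linter.unusedSectionVars false
set_option linter.style.haveILetI false

namespace Cfsg.Agent.CycDefect

open Cfsg.Agent.BrauerPairs Representation

variable {k : Type*} [Field k] {K : Type*} [Group K] [Finite K]

/-- Invariant idempotent with a nilpotent invariant element having a small annihilator. -/
structure IsGen (bb π : MonoidAlgebra k K) (n : ℕ) : Prop where
  fixed_bb : Fixed ⊤ bb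
  bb_mul : bb * bb = bb
  bb_ne : bb ≠ 0
  fixed_pi : Fixed ⊤ π
  pi_mul : π * bb = π
  pi_pow : π ^ n = 0
  ann : ∀ x ∈ fixedIdeal bb, ∀ y ∈ fixedIdeal bb, π * x = 0 → π * y = 0 → y ≠ 0 → ∃ c : k, x = c • y

/-- The functional `x ↦ trace (x on V)`. -/
noncomputable def traceFun {V : Type*} [AddCommGroup V] [Module k V]
    (ρ : Representation k K V) : MonoidAlgebra k K →ₗ[k] k :=
  (LinearMap.trace k V).comp ρ.asAlgebraHom.toLinearMap

theorem traceFun_apply {V : Type*} [AddCommGroup V] [Module k V] (ρ : Representation k K V)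
    (x : MonoidAlgebra k K) : traceFun ρ x = LinearMap.trace k V (ρ.asAlgebraHom x) := rfl

variable {bb π : MonoidAlgebra k K} {n : ℕ} (hg : IsGen bb π n)
include hg

theorem IsGen.bb_central (x : MonoidAlgebra k K) : bb * x = x * bb := by
  have := Fintype.ofFinite K
  exact hg.fixed_bb.commute SuppIn.top

theorem IsGen.pi_central (x : MonoidAlgebra k K) : π * x = x * π := by
  have := Fintype.ofFinite K
  exact hg.fixed_pi.commute SuppIn.top

theorem IsGen.pi_act_zero [IsAlgClosed k] {V : Type*} [AddCommGroup V] [Module k V]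
    [FiniteDimensional k V] (ρ : Representation k K V) [ρ.IsIrreducible] :
    ρ.asAlgebraHom π = 0 := by
  obtain ⟨c, hc⟩ := central_scalar ρ hg.fixed_pi
  have h := congrArg ρ.asAlgebraHom hg.pi_pow
  rw [map_pow, map_zero, hc, smul_pow, one_pow] at h
  rw [hc]
  by_cases hV : (1 : Module.End k V) = 0
  · rw [hV, smul_zero]
  · rw [eq_zero_of_pow_eq_zero ((smul_eq_zero.1 h).resolve_right hV), zero_smul]

theorem IsGen.funEl_mem {L : MonoidAlgebra k K →ₗ[k] k} (hcomm : ∀ x y, L (x * y) = L (y * x))
    (hbb : ∀ x, L (bb * x) = L x) (hπ : ∀ x, L (π * x) = 0) :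
    funEl L ∈ fixedIdeal bb ∧ π * funEl L = 0 := by
  have := Fintype.ofFinite K
  refine ⟨⟨fixed_funEl L hcomm, ?_⟩, ?_⟩
  · ext g
    rw [coeff_funEl_mul, hbb, coeff_funEl]
  · rw [hg.pi_central]
    ext g
    rw [coeff_funEl_mul, hπ, MonoidAlgebra.coeff_zero, Finsupp.zero_apply]

theorem IsGen.traceFun_mem [IsAlgClosed k] {V : Type*} [AddCommGroup V] [Module k V]
    [FiniteDimensional k V] (ρ : Representation k K V) [ρ.IsIrreducible]
    (hρ : ρ.asAlgebraHom bb = 1) :
    funEl (traceFun ρ) ∈ fixedIdeal bb ∧ π * funEl (traceFun ρ) = 0 :=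
  hg.funEl_mem
    (fun x y => by rw [traceFun_apply, traceFun_apply, map_mul ρ.asAlgebraHom, map_mul ρ.asAlgebraHom, LinearMap.trace_mul_comm])
    (fun x => by rw [traceFun_apply, traceFun_apply, map_mul ρ.asAlgebraHom, hρ, one_mul])
    (fun x => by rw [traceFun_apply, map_mul ρ.asAlgebraHom, hg.pi_act_zero ρ, zero_mul, map_zero])

theorem IsGen.traceFun_ne_zero [IsAlgClosed k] {V : Type*} [AddCommGroup V] [Module k V]
    [FiniteDimensional k V] (ρ : Representation k K V) [ρ.IsIrreducible] :
    funEl (traceFun ρ) ≠ 0 := by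
  intro h0
  obtain ⟨v, hv⟩ : ∃ v : V, v ≠ 0 := by
    by_contra hno
    push Not at hno
    obtain ⟨a, b, hab⟩ := (IsSimpleModule.nontrivial (MonoidAlgebra k K) ρ.asModule).exists_pair_ne
    exact hab ((hno a).trans (hno b).symm)
  obtain ⟨φ, hφ⟩ : ∃ φ : Module.Dual k V, φ v ≠ 0 := by
    by_contra h
    push Not at h
    exact hv ((Module.forall_dual_apply_eq_zero_iff k v).mp h)
  obtain ⟨r, hr⟩ := exists_asAlgebraHom_eq ρ (((φ v)⁻¹ • φ).smulRight v)
  have hzero : traceFun ρ = 0 := by
    refine funEl_injective (h0.trans ?_)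
    ext g
    simp [coeff_funEl]
  have h1 := LinearMap.congr_fun hzero r
  rw [traceFun_apply, hr, LinearMap.trace_smulRight, LinearMap.smul_apply, smul_eq_mul,
    inv_mul_cancel₀ hφ, LinearMap.zero_apply] at h1
  exact one_ne_zero h1

theorem IsGen.simple_equiv [IsAlgClosed k] {d d' : ℕ} (ρ : Representation k K (Fin d → k))
    (σ : Representation k K (Fin d' → k)) [ρ.IsIrreducible] [σ.IsIrreducible]
    (hρ : ρ.asAlgebraHom bb = 1) (hσ : σ.asAlgebraHom bb = 1) : Nonempty (ρ.Equiv σ) := by
  classical
  by_contra hno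
  have hne : IsEmpty (ρ.Equiv σ) := not_nonempty_iff.1 hno
  obtain ⟨c, hc⟩ := hg.ann _ (hg.traceFun_mem ρ hρ).1 _ (hg.traceFun_mem σ hσ).1
    (hg.traceFun_mem ρ hρ).2 (hg.traceFun_mem σ hσ).2 (hg.traceFun_ne_zero σ)
  rw [← funEl_smul] at hc
  have hL := funEl_injective hc
  let dd : Fin 2 → ℕ := ![d, d']
  let R : ∀ i : Fin 2, Representation k K (Fin (dd i) → k) := Fin.cons ρ (Fin.cons σ fun i => i.elim0)
  have hirr : ∀ i, (R i).IsIrreducible := fun i => by
    fin_cases i
    · show ρ.IsIrreducible; infer_instance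
    · show σ.IsIrreducible; infer_instance
  have hne2 : ∀ i j, i ≠ j → IsEmpty ((R i).Equiv (R j)) := fun i j hij => by
    fin_cases i <;> fin_cases j
    · exact absurd rfl hij
    · exact hne
    · exact ⟨fun e => hne.false e.symm⟩
    · exact absurd rfl hij
  have hind := ModRep.linearIndependent_trace (fun i => Fin (dd i) → k) R hirr hne2
  rw [Fintype.linearIndependent_iff] at hind
  have h0 := hind ![1, -c] (funext fun g => by
    have := LinearMap.congr_fun hL (MonoidAlgebra.single g 1)
    rw [LinearMap.smul_apply, traceFun_apply, traceFun_apply, asAlgebraHom_single,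
      asAlgebraHom_single, one_smul, one_smul, smul_eq_mul] at this
    rw [Finset.sum_apply, Fin.sum_univ_two]
    show (1 : k) * LinearMap.trace k _ (ρ g) + -c * LinearMap.trace k _ (σ g) = 0
    rw [this]
    ring) 0
  exact one_ne_zero h0

/-- An element killing a simple module of the block kills all of them. -/
theorem IsGen.apply_eq_zero [IsAlgClosed k] {d : ℕ} (ρ : Representation k K (Fin d → k))
    [ρ.IsIrreducible] (hρ : ρ.asAlgebraHom bb = 1) {V : Type*} [AddCommGroup V] [Module k V]
    [FiniteDimensional k V] (σ : Representation k K V) [σ.IsIrreducible] {x : MonoidAlgebra k K}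
    (hxb : x * bb = x) (hx : ρ.asAlgebraHom x = 0) : σ.asAlgebraHom x = 0 := by
  obtain ⟨c, hc⟩ := central_scalar σ hg.fixed_bb
  have h2 := congrArg σ.asAlgebraHom hg.bb_mul
  rw [map_mul, hc, smul_mul_smul_comm, one_mul] at h2
  have h3 : (c * c - c) • (1 : Module.End k V) = 0 := by rw [sub_smul, h2, sub_self]
  by_cases hV : (1 : Module.End k V) = 0
  · exact LinearMap.ext fun v => by simpa using LinearMap.congr_fun hV (σ.asAlgebraHom x v)
  have hc01 : c = 0 ∨ c = 1 := by
    rcases mul_eq_zero.1 ((show c * (c - 1) = c * c - c by ring).trans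
      ((smul_eq_zero.1 h3).resolve_right hV)) with h | h
    · exact Or.inl h
    · exact Or.inr (sub_eq_zero.1 h)
  rcases hc01 with rfl | rfl
  · rw [← hxb, map_mul, hc, zero_smul, mul_zero]
  rw [one_smul] at hc
  haveI : (finModel σ).IsIrreducible := conjRep_irreducible σ _
  obtain ⟨e⟩ := hg.simple_equiv ρ (finModel σ) hρ
    ((conjRep_asAlgebraHom _ _ _).trans (by rw [hc, Module.End.one_eq_id, LinearEquiv.conj_id]; rfl))
  have hcomm : ∀ (a : MonoidAlgebra k K) (w : Fin d → k), e.toLinearEquiv (ρ.asAlgebraHom a w) =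
      (finModel σ).asAlgebraHom a (e.toLinearEquiv w) := by
    intro a w
    induction a using MonoidAlgebra.induction_linear with
    | zero => simp
    | add a b ha hb => simp [map_add, ha, hb]
    | single g t =>
      rw [asAlgebraHom_single, asAlgebraHom_single, LinearMap.smul_apply, LinearMap.smul_apply,
        map_smul]
      congr 1
      exact LinearMap.congr_fun (e.toIntertwiningMap.isIntertwining' g) w
  refine LinearMap.ext fun v => ?_
  have h := hcomm x (e.toLinearEquiv.symm ((Module.finBasis k V).equivFun v))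
  rw [hx, LinearMap.zero_apply, map_zero, LinearEquiv.apply_symm_apply, finModel, conjRep_asAlgebraHom,
    LinearEquiv.conj_apply_apply, LinearEquiv.symm_apply_apply] at h
  exact (Module.finBasis k V).equivFun.map_eq_zero_iff.1 h.symm

theorem IsGen.exists_simple [IsAlgClosed k] :
    ∃ (d : ℕ) (ρ : Representation k K (Fin d → k)), ρ.IsIrreducible ∧ ρ.asAlgebraHom bb = 1 := by
  classical
  let π₀ : Representation k K (MonoidAlgebra k K) :=
    { toFun := fun g => LinearMap.mulLeft k (MonoidAlgebra.single g 1)
      map_one' := by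
        rw [← MonoidAlgebra.one_def, LinearMap.mulLeft_one]
        rfl
      map_mul' := fun g h => LinearMap.ext fun v => by
        rw [Module.End.mul_apply, LinearMap.mulLeft_apply, LinearMap.mulLeft_apply,
          LinearMap.mulLeft_apply, ← mul_assoc, MonoidAlgebra.single_mul_single, one_mul] }
  have hπ₀ : ∀ x y : MonoidAlgebra k K, π₀.asAlgebraHom x y = x * y := by
    intro x y
    induction x using MonoidAlgebra.induction_linear with
    | zero => simp
    | add a b ha hb => simp [map_add, ha, hb, add_mul]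
    | single g t =>
      rw [asAlgebraHom_single, LinearMap.smul_apply]
      show t • (MonoidAlgebra.single g 1 * y) = _
      rw [← smul_mul_assoc, MonoidAlgebra.smul_single, smul_eq_mul, mul_one]
  let W : Subrepresentation π₀ := ⟨LinearMap.range (LinearMap.mulLeft k bb), fun g v hv => by
    obtain ⟨w, rfl⟩ := hv
    refine ⟨MonoidAlgebra.single g 1 * w, ?_⟩
    show bb * (MonoidAlgebra.single g 1 * w) = MonoidAlgebra.single g 1 * (bb * w)
    rw [← mul_assoc, hg.bb_central, mul_assoc]⟩
  obtain ⟨S, hSW, hS0, hSirr⟩ := CyclicDefect.exists_minimal_invariant π₀ W fun h => hg.bb_ne (by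
    have : bb * 1 ∈ W.toSubmodule := ⟨1, rfl⟩
    rw [h] at this
    simpa using this)
  haveI := hSirr
  refine ⟨_, finModel S.toRepresentation, conjRep_irreducible _ _, ?_⟩
  rw [finModel, conjRep_asAlgebraHom]
  have hone : S.toRepresentation.asAlgebraHom bb = 1 := by
    refine LinearMap.ext fun v => ?_
    have hcoe : ∀ a : MonoidAlgebra k K,
        ((S.toRepresentation.asAlgebraHom a v : S.toSubmodule) : MonoidAlgebra k K) =
          π₀.asAlgebraHom a (v : MonoidAlgebra k K) := by
      intro a
      induction a using MonoidAlgebra.induction_linear with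
      | zero => simp
      | add a b ha hb => simp [map_add, ha, hb]
      | single g t => simp [asAlgebraHom_single]; rfl
    refine Subtype.ext ?_
    rw [hcoe, hπ₀, Module.End.one_apply]
    obtain ⟨w, hw⟩ := hSW v.2
    rw [← hw, LinearMap.mulLeft_apply, ← mul_assoc, hg.bb_mul]
  rw [hone, Module.End.one_eq_id, LinearEquiv.conj_id]
  rfl

theorem IsGen.nilp_act.{w} [IsAlgClosed k] {d : ℕ} (ρ : Representation k K (Fin d → k))
    [ρ.IsIrreducible] (hρ : ρ.asAlgebraHom bb = 1) (J : Submodule k (MonoidAlgebra k K))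
    (hJ : ∀ y ∈ J, y * bb = y ∧ ρ.asAlgebraHom y = 0) :
    ∀ (N : ℕ) {X : Type w} [AddCommGroup X] [Module k X] [FiniteDimensional k X]
      (σ : Representation k K X), Module.finrank k X ≤ N → ∀ y ∈ J ^ N, σ.asAlgebraHom y = 0 := by
  intro N
  induction N with
  | zero =>
    intro X _ _ _ σ hdim y _
    rw [nonpos_iff_eq_zero] at hdim
    have : Subsingleton X := Module.finrank_zero_iff.1 hdim
    exact LinearMap.ext fun v => Subsingleton.elim _ _
  | succ N ih =>
    intro X _ _ _ σ hdim y hy
    by_cases htop : (⊤ : Submodule k X) = ⊥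
    · refine LinearMap.ext fun v => ?_
      have hv : ∀ u : X, u = 0 := fun u => (Submodule.mem_bot k).1 (htop ▸ Submodule.mem_top)
      exact (hv _).trans (hv _).symm
    obtain ⟨S, -, hS0, hSirr⟩ := CyclicDefect.exists_minimal_invariant σ
      ⟨⊤, fun _ _ _ => Submodule.mem_top⟩ htop
    haveI := hSirr
    let σQ := σ.quotient S.toSubmodule fun g z hz => S.apply_mem_toSubmodule g hz
    have hdimQ : Module.finrank k (X ⧸ S.toSubmodule) ≤ N := by
      have h1 := S.toSubmodule.finrank_quotient_add_finrank
      have h3 : 0 < Module.finrank k S.toSubmodule := by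
        rw [Nat.pos_iff_ne_zero, Ne, Submodule.finrank_eq_zero]
        exact hS0
      omega
    have hQ : ∀ (a : MonoidAlgebra k K) (v : X),
        σQ.asAlgebraHom a (Submodule.Quotient.mk v) = Submodule.Quotient.mk (σ.asAlgebraHom a v) := by
      intro a v
      induction a using MonoidAlgebra.induction_linear with
      | zero => simp
      | add a a' ha ha' => simp [map_add, ha, ha']
      | single g t =>
        rw [asAlgebraHom_single, asAlgebraHom_single, LinearMap.smul_apply, LinearMap.smul_apply,
          Submodule.Quotient.mk_smul]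
        rfl
    have hcoe : ∀ (a : MonoidAlgebra k K) (v : S.toSubmodule),
        ((S.toRepresentation.asAlgebraHom a v : S.toSubmodule) : X) = σ.asAlgebraHom a (v : X) := by
      intro a v
      induction a using MonoidAlgebra.induction_linear with
      | zero => simp
      | add a b ha hb => simp [map_add, ha, hb]
      | single g t => simp [asAlgebraHom_single]; rfl
    rw [pow_succ'] at hy
    induction hy using Submodule.mul_induction_on' with
    | mem_mul_mem a ha b hb =>
      refine LinearMap.ext fun v => ?_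
      rw [map_mul, Module.End.mul_apply, LinearMap.zero_apply]
      have hmem : σ.asAlgebraHom b v ∈ S.toSubmodule := by
        rw [← Submodule.Quotient.mk_eq_zero S.toSubmodule, ← hQ, ih σQ hdimQ b hb, LinearMap.zero_apply]
      have h := hcoe a ⟨_, hmem⟩
      rw [hg.apply_eq_zero ρ hρ S.toRepresentation (hJ a ha).1 (hJ a ha).2, LinearMap.zero_apply] at h
      exact h.symm
    | add a _ b _ ha hb => rw [map_add, ha, hb, add_zero]

omit hg in
/-- A family spanning `bb` inside the ideal of `ε`, with the corner of `ε` spanned by powers of `π`. -/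
structure IsCorner [Fintype K] (bb π ε : MonoidAlgebra k K) (n : ℕ) (c : K × K → k) : Prop where
  idem : ε * ε = ε
  mul_bb : ε * bb = ε
  decomp : bb = ∑ q : K × K, c q •
    (MonoidAlgebra.single q.1 1 * ε * MonoidAlgebra.single q.2 1)
  span : ∀ x, ε * x * ε ∈ Submodule.span k (Set.range fun i : Fin n => π ^ (i : ℕ) * ε)

theorem IsGen.exists_corner [IsAlgClosed k] [Fintype K] {d : ℕ}
    (ρ : Representation k K (Fin d → k)) [hρi : ρ.IsIrreducible] (hρ : ρ.asAlgebraHom bb = 1) :
    ∃ (ε : MonoidAlgebra k K) (c : K × K → k), IsCorner bb π ε n c ∧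
      ∃ s₀ : Fin d → k, s₀ ≠ 0 ∧ ρ.asAlgebraHom ε s₀ = s₀ ∧
        ∀ v, ∃ a : k, ρ.asAlgebraHom ε v = a • s₀ := by
  classical
  obtain ⟨v₀, hv₀⟩ : ∃ v : Fin d → k, v ≠ 0 := by
    by_contra hno
    push Not at hno
    obtain ⟨a, b, hab⟩ := (IsSimpleModule.nontrivial (MonoidAlgebra k K) ρ.asModule).exists_pair_ne
    exact hab ((hno a).trans (hno b).symm)
  obtain ⟨φ, hφ⟩ : ∃ φ : Module.Dual k (Fin d → k), φ v₀ ≠ 0 := by
    by_contra h
    push Not at h
    exact hv₀ ((Module.forall_dual_apply_eq_zero_iff k v₀).mp h)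
  set E : Module.End k (Fin d → k) := ((φ v₀)⁻¹ • φ).smulRight v₀ with hE
  have hEE : E * E = E := LinearMap.ext fun v => by
    simp [hE, inv_mul_cancel₀ hφ]
  obtain ⟨a, ha⟩ := exists_asAlgebraHom_eq ρ E
  haveI : FiniteDimensional k (MonoidAlgebra k K) :=
    Module.Finite.of_basis (MonoidAlgebra.basis K k)
  obtain ⟨ε, hεε, hεb, hερ⟩ := exists_idem_of_image (A := MonoidAlgebra k K) ρ.asAlgebraHom
    (a := a * bb) (bb := bb) (by rw [mul_assoc, hg.bb_mul]) hEE (by rw [map_mul, ha, hρ, mul_one])
  have hbε : bb * ε = ε := by rw [hg.bb_central, hεb]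
  have hE0 : E v₀ = v₀ := by simp [hE, inv_mul_cancel₀ hφ]
  have htrE : LinearMap.trace k _ E = 1 := by
    rw [hE, LinearMap.trace_smulRight, LinearMap.smul_apply, smul_eq_mul, inv_mul_cancel₀ hφ]
  -- the two-sided ideal of `ε`
  let el : K → MonoidAlgebra k K := fun g => MonoidAlgebra.single g 1
  let gens : K × K → MonoidAlgebra k K := fun q => el q.1 * ε * el q.2
  set I := Submodule.span k (Set.range gens) with hI
  have hspanel : ∀ x : MonoidAlgebra k K, x ∈ Submodule.span k (Set.range el) := fun x => by
    induction x using MonoidAlgebra.induction_linear with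
    | zero => exact zero_mem _
    | add a b ha hb => exact add_mem ha hb
    | single g t =>
      rw [show MonoidAlgebra.single g t = t • el g by simp [el]]
      exact Submodule.smul_mem _ _ (Submodule.subset_span ⟨g, rfl⟩)
  have hmemI : ∀ x y, x * ε * y ∈ I := by
    intro x y
    have h1 : ∀ g, x * ε * el g ∈ I := by
      intro g
      induction hspanel x using Submodule.span_induction with
      | mem z hz =>
        obtain ⟨h, rfl⟩ := hz
        exact Submodule.subset_span ⟨(h, g), rfl⟩
      | zero => simp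
      | add z w _ _ hz hw => rw [add_mul, add_mul]; exact add_mem hz hw
      | smul t z _ hz => rw [smul_mul_assoc, smul_mul_assoc]; exact Submodule.smul_mem _ _ hz
    induction hspanel y using Submodule.span_induction with
    | mem z hz =>
      obtain ⟨g, rfl⟩ := hz
      exact h1 g
    | zero => simp
    | add z w _ _ hz hw => rw [mul_add]; exact add_mem hz hw
    | smul t z _ hz => rw [mul_smul_comm]; exact Submodule.smul_mem _ _ hz
  have hIl : ∀ z ∈ I, ∀ x, x * z ∈ I := fun z hz x => by
    induction hz using Submodule.span_induction with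
    | mem z hz =>
      obtain ⟨q, rfl⟩ := hz
      show x * (el q.1 * ε * el q.2) ∈ I
      rw [← mul_assoc, ← mul_assoc]
      exact hmemI _ _
    | zero => simp
    | add z w _ _ hz hw => rw [mul_add]; exact add_mem hz hw
    | smul t z _ hz => rw [mul_smul_comm]; exact Submodule.smul_mem _ _ hz
  have hbI : bb ∈ I := by
    set J := I ⊔ LinearMap.range (LinearMap.mulLeft k (1 - bb)) with hJ
    by_contra hbno
    have hJl : ∀ z ∈ J, ∀ g, el g * z ∈ J := by
      intro z hz g
      obtain ⟨i, hi, _, ⟨y, rfl⟩, rfl⟩ := Submodule.mem_sup.1 hz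
      rw [mul_add]
      refine add_mem (Submodule.mem_sup_left (hIl i hi _))
        (Submodule.mem_sup_right ⟨el g * y, ?_⟩)
      rw [LinearMap.mulLeft_apply, LinearMap.mulLeft_apply, ← mul_assoc, ← mul_assoc, sub_mul, one_mul,
        mul_sub, mul_one, hg.bb_central]
    let π₀ : Representation k K (MonoidAlgebra k K) :=
      { toFun := fun g => LinearMap.mulLeft k (el g)
        map_one' := LinearMap.ext fun v => by
          rw [LinearMap.mulLeft_apply, Module.End.one_apply]
          show MonoidAlgebra.single (1 : K) (1 : k) * v = v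
          rw [← MonoidAlgebra.one_def, one_mul]
        map_mul' := fun g h => LinearMap.ext fun v => by
          rw [Module.End.mul_apply, LinearMap.mulLeft_apply, LinearMap.mulLeft_apply,
            LinearMap.mulLeft_apply, ← mul_assoc]
          show MonoidAlgebra.single (g * h) (1 : k) * v = _
          rw [MonoidAlgebra.single_mul_single, one_mul] }
    let πQ := π₀.quotient J fun g z hz => hJl z hz g
    have hπQ : ∀ x y : MonoidAlgebra k K,
        πQ.asAlgebraHom x (Submodule.Quotient.mk y) = Submodule.Quotient.mk (x * y) := by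
      intro x y
      induction x using MonoidAlgebra.induction_linear with
      | zero => simp
      | add a b ha hb => simp [map_add, ha, hb, add_mul]
      | single g t =>
        rw [asAlgebraHom_single, LinearMap.smul_apply,
          show MonoidAlgebra.single g t = t • el g by simp [el], smul_mul_assoc,
          Submodule.Quotient.mk_smul]
        rfl
    have hJtop : J ≠ ⊤ := by
      intro htop
      obtain ⟨i, hi, _, ⟨y, rfl⟩, he⟩ := Submodule.mem_sup.1 (htop ▸ Submodule.mem_top :
        (bb : MonoidAlgebra k K) ∈ J)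
      refine hbno ?_
      have h1 := congrArg (bb * ·) he
      simp only [LinearMap.mulLeft_apply, mul_add, ← mul_assoc, mul_sub, mul_one, hg.bb_mul, sub_self,
        zero_mul, add_zero] at h1
      rw [← h1]
      exact hIl i hi bb
    obtain ⟨S, -, hS0, hSirr⟩ := CyclicDefect.exists_minimal_invariant πQ
      ⟨⊤, fun _ _ _ => Submodule.mem_top⟩ (fun h => hJtop (by
        rw [eq_top_iff]
        intro z _
        have : (Submodule.Quotient.mk z : MonoidAlgebra k K ⧸ J) ∈
            (⊤ : Submodule k (MonoidAlgebra k K ⧸ J)) := Submodule.mem_top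
        rw [show (⊤ : Submodule k (MonoidAlgebra k K ⧸ J)) = ⊥ from h, Submodule.mem_bot,
          Submodule.Quotient.mk_eq_zero] at this
        exact this))
    obtain ⟨w, hw, hw0⟩ := Submodule.exists_mem_ne_zero_of_ne_bot hS0
    haveI := hSirr
    have hcoe : ∀ (x : MonoidAlgebra k K) (v : S.toSubmodule),
        ((S.toRepresentation.asAlgebraHom x v : S.toSubmodule) : MonoidAlgebra k K ⧸ J) =
          πQ.asAlgebraHom x (v : MonoidAlgebra k K ⧸ J) := by
      intro x v
      induction x using MonoidAlgebra.induction_linear with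
      | zero => simp
      | add a b ha hb => simp [map_add, ha, hb]
      | single g t => simp [asAlgebraHom_single]; rfl
    have hbb1 : S.toRepresentation.asAlgebraHom bb = 1 := by
      refine LinearMap.ext fun v => Subtype.ext ?_
      rw [hcoe, Module.End.one_apply]
      obtain ⟨y, hy⟩ := Submodule.Quotient.mk_surjective J (v : MonoidAlgebra k K ⧸ J)
      rw [← hy, hπQ, Submodule.Quotient.eq]
      refine Submodule.mem_sup_right ⟨-y, ?_⟩
      rw [LinearMap.mulLeft_apply, sub_mul, one_mul, mul_neg]
      abel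
    have hε0 : S.toRepresentation.asAlgebraHom ε = 0 := by
      refine LinearMap.ext fun v => Subtype.ext ?_
      rw [hcoe, LinearMap.zero_apply]
      obtain ⟨y, hy⟩ := Submodule.Quotient.mk_surjective J (v : MonoidAlgebra k K ⧸ J)
      rw [← hy, hπQ]
      refine (Submodule.Quotient.mk_eq_zero J).2 (Submodule.mem_sup_left ?_)
      have := hmemI 1 y
      rwa [one_mul] at this
    haveI : (finModel S.toRepresentation).IsIrreducible := conjRep_irreducible _ _
    have h0 := hg.apply_eq_zero (finModel S.toRepresentation) ((conjRep_asAlgebraHom _ _ _).trans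
      (by rw [hbb1, Module.End.one_eq_id, LinearEquiv.conj_id]; rfl)) ρ hεb
      ((conjRep_asAlgebraHom _ _ _).trans (by rw [hε0, map_zero]))
    rw [hερ] at h0
    exact hv₀ (by rw [← hE0, h0, LinearMap.zero_apply])
  obtain ⟨c, hc⟩ := (Submodule.mem_span_range_iff_exists_fun k).1 hbI
  -- the kernel is nilpotent
  let J : Submodule k (MonoidAlgebra k K) :=
    { carrier := {x | x * bb = x ∧ ρ.asAlgebraHom x = 0}
      add_mem' := fun {x y} hx hy => ⟨by rw [add_mul, hx.1, hy.1], by rw [map_add, hx.2, hy.2, add_zero]⟩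
      zero_mem' := ⟨zero_mul _, map_zero _⟩
      smul_mem' := fun t x hx => ⟨by rw [smul_mul_assoc, hx.1], by rw [map_smul, hx.2, smul_zero]⟩ }
  let π₀ : Representation k K (MonoidAlgebra k K) :=
    { toFun := fun g => LinearMap.mulLeft k (el g)
      map_one' := LinearMap.ext fun v => by
        rw [LinearMap.mulLeft_apply, Module.End.one_apply]
        show MonoidAlgebra.single (1 : K) (1 : k) * v = v
        rw [← MonoidAlgebra.one_def, one_mul]
      map_mul' := fun g h => LinearMap.ext fun v => by
        rw [Module.End.mul_apply, LinearMap.mulLeft_apply, LinearMap.mulLeft_apply,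
          LinearMap.mulLeft_apply, ← mul_assoc]
        show MonoidAlgebra.single (g * h) (1 : k) * v = _
        rw [MonoidAlgebra.single_mul_single, one_mul] }
  have hπ₀ : ∀ x y : MonoidAlgebra k K, π₀.asAlgebraHom x y = x * y := by
    intro x y
    induction x using MonoidAlgebra.induction_linear with
    | zero => simp
    | add a b ha hb => simp [map_add, ha, hb, add_mul]
    | single g t =>
      rw [asAlgebraHom_single, LinearMap.smul_apply,
        show MonoidAlgebra.single g t = t • el g by simp [el], smul_mul_assoc]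
      rfl
  have hJn : ∀ x ∈ J ^ Module.finrank k (MonoidAlgebra k K), x = 0 := fun x hx => by
    have := LinearMap.congr_fun (hg.nilp_act ρ hρ J (fun y hy => hy) _ π₀ le_rfl x hx) 1
    rwa [hπ₀, mul_one, LinearMap.zero_apply] at this
  -- the corner
  have hrank : ∀ x, ε * x * ε = x → ∃ t : k, ρ.asAlgebraHom x = t • E := by
    intro x hx
    refine ⟨((φ v₀)⁻¹ * φ (ρ.asAlgebraHom x v₀)), LinearMap.ext fun v => ?_⟩
    conv_lhs => rw [← hx, map_mul, map_mul, hερ, Module.End.mul_apply, Module.End.mul_apply]
    simp only [hE, LinearMap.smulRight_apply, LinearMap.smul_apply, smul_eq_mul, map_smul, smul_smul]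
    congr 1
    ring
  have hπε : π * ε = ε * π := hg.pi_central ε
  let Cor : Submodule k (MonoidAlgebra k K) :=
    { carrier := {x | ε * x * ε = x}
      add_mem' := fun {x y} hx hy => by
        show ε * (x + y) * ε = x + y
        rw [mul_add, add_mul, hx, hy]
      zero_mem' := by
        show ε * 0 * ε = 0
        rw [mul_zero, zero_mul]
      smul_mem' := fun t x hx => by
        show ε * (t • x) * ε = t • x
        rw [mul_smul_comm, smul_mul_assoc, hx] }
  have hcor : ∀ x, ε * x * ε ∈ Cor := fun x => by
    show ε * (ε * x * ε) * ε = ε * x * ε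
    simp only [← mul_assoc, hεε]
    rw [mul_assoc _ ε ε, hεε]
  have hcor' : ∀ x ∈ Cor, ε * x = x ∧ x * ε = x := fun x (hx : ε * x * ε = x) => by
    constructor
    · calc ε * x = ε * (ε * x * ε) := by rw [hx]
        _ = ε * x * ε := by simp only [← mul_assoc, hεε]
        _ = x := hx
    · calc x * ε = ε * x * ε * ε := by rw [hx]
        _ = ε * x * ε := by simp only [mul_assoc, hεε]
        _ = x := hx
  have hcormul : ∀ x ∈ Cor, ∀ y ∈ Cor, x * y ∈ Cor := fun x hx y hy => by
    show ε * (x * y) * ε = x * y
    rw [← mul_assoc, (hcor' x hx).1, mul_assoc, (hcor' y hy).2]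
  set J₀ := J ⊓ Cor with hJ₀
  set P := Cor.map (LinearMap.mulLeft k π) with hP
  have hPJ : P ≤ J₀ := by
    rintro _ ⟨y, hy, rfl⟩
    refine ⟨⟨?_, ?_⟩, ?_⟩
    · rw [LinearMap.mulLeft_apply, mul_assoc, ← hg.bb_central y, ← mul_assoc, hg.pi_mul]
    · rw [LinearMap.mulLeft_apply, map_mul, hg.pi_act_zero ρ, zero_mul]
    · show ε * (π * y) * ε = π * y
      rw [← mul_assoc, ← hπε, mul_assoc π, (hcor' y hy).1, mul_assoc, (hcor' y hy).2]
  have hJP : J₀ * P ≤ P := by
    rw [Submodule.mul_le]
    rintro x hx _ ⟨y, hy, rfl⟩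
    exact ⟨x * y, hcormul x hx.2 y hy, by
      rw [LinearMap.mulLeft_apply, LinearMap.mulLeft_apply, ← mul_assoc, ← mul_assoc, hg.pi_central]⟩
  have hεC : ε ∈ Cor := by show ε * ε * ε = ε; rw [hεε, hεε]
  have hsplit : ∀ x ∈ Cor, ∃ t : k, x - t • ε ∈ J₀ := by
    intro x hx
    obtain ⟨t, ht⟩ := hrank x hx
    refine ⟨t, ⟨?_, ?_⟩, sub_mem hx (Cor.smul_mem t hεC)⟩
    · rw [sub_mul, smul_mul_assoc, hεb, ← (hcor' x hx).2, mul_assoc, hεb]
    · rw [map_sub, map_smul, ht, hερ, sub_self]
  have hfund : J₀ ≤ P ⊔ J₀ * J₀ := by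
    set W := P ⊔ J₀ * J₀ with hW
    intro j hj
    by_contra hjW
    have hWρ : ∀ w ∈ W, ρ.asAlgebraHom w = 0 := by
      intro w hw
      obtain ⟨a, ha, b, hb, rfl⟩ := Submodule.mem_sup.1 hw
      have hb0 : ρ.asAlgebraHom b = 0 :=
        Submodule.mul_induction_on (C := fun b => ρ.asAlgebraHom b = 0) hb
          (fun x hx y _ => by rw [map_mul, hx.1.2, zero_mul])
          (fun x y hx hy => by rw [map_add, hx, hy, add_zero])
      rw [map_add, (hPJ ha).1.2, hb0, add_zero]
    have hjW' : j ∉ W ⊔ k ∙ ε := fun h => by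
      obtain ⟨w, hw, z, hz, he⟩ := Submodule.mem_sup.1 h
      obtain ⟨t, rfl⟩ := Submodule.mem_span_singleton.1 hz
      have h1 := congrArg ρ.asAlgebraHom he
      rw [map_add, hWρ w hw, map_smul, hερ, hj.1.2, zero_add] at h1
      have ht : t = 0 := by
        have h2 := LinearMap.congr_fun h1 v₀
        rw [LinearMap.smul_apply, hE0, LinearMap.zero_apply] at h2
        exact (smul_eq_zero.1 h2).resolve_right hv₀
      rw [ht, zero_smul, add_zero] at he
      exact hjW (he ▸ hw)
    obtain ⟨μ₀, hμj, hμW⟩ := Submodule.exists_dual_map_eq_bot_of_notMem hjW' inferInstance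
    have hμ0 : ∀ w ∈ W ⊔ k ∙ ε, μ₀ w = 0 := fun w hw => by
      have := Submodule.mem_map_of_mem (f := μ₀) hw
      rwa [hμW, Submodule.mem_bot] at this
    have hμcomm : ∀ x ∈ Cor, ∀ y ∈ Cor, μ₀ (x * y) = μ₀ (y * x) := by
      intro x hx y hy
      obtain ⟨t, ht⟩ := hsplit x hx
      obtain ⟨t', ht'⟩ := hsplit y hy
      rw [← sub_eq_zero, ← map_sub]
      refine hμ0 _ (Submodule.mem_sup_left (Submodule.mem_sup_right ?_))
      have e : x * y - y * x = (x - t • ε) * (y - t' • ε) - (y - t' • ε) * (x - t • ε) := by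
        simp only [sub_mul, mul_sub, smul_sub, smul_mul_assoc, mul_smul_comm, hεε, (hcor' x hx).1,
          (hcor' x hx).2, (hcor' y hy).1, (hcor' y hy).2, smul_smul, mul_comm t t']
        abel
      rw [e]
      exact sub_mem (Submodule.mul_mem_mul ht ht') (Submodule.mul_mem_mul ht' ht)
    let L : MonoidAlgebra k K →ₗ[k] k := ∑ q : K × K, c q • (μ₀.comp
      ((LinearMap.mulRight k (el q.1 * ε)).comp (LinearMap.mulLeft k (ε * el q.2))))
    have hL : ∀ x, L x = ∑ q : K × K, c q * μ₀ (ε * el q.2 * x * (el q.1 * ε)) := fun x => by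
      simp only [L, LinearMap.sum_apply, LinearMap.smul_apply, LinearMap.comp_apply,
        LinearMap.mulLeft_apply, LinearMap.mulRight_apply, smul_eq_mul]
    have hins : ∀ x y, μ₀ (ε * x * (y * ε)) =
        ∑ r : K × K, c r * μ₀ (ε * x * el r.1 * ε * (ε * el r.2 * y * ε)) := by
      intro x y
      have e : ε * x * (y * ε) =
          ∑ r : K × K, c r • (ε * x * el r.1 * ε * (ε * el r.2 * y * ε)) := by
        calc ε * x * (y * ε) = ε * x * (bb * (y * ε)) := by
              rw [← mul_assoc bb, hg.bb_central, mul_assoc y, hbε]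
          _ = _ := by
              rw [← hc, Finset.sum_mul, Finset.mul_sum]
              refine Finset.sum_congr rfl fun r _ => ?_
              rw [smul_mul_assoc, mul_smul_comm]
              congr 1
              show ε * x * (el r.1 * ε * el r.2 * (y * ε)) = _
              simp only [← mul_assoc]
              rw [mul_assoc _ ε ε, hεε]
      rw [e, map_sum]
      exact Finset.sum_congr rfl fun r _ => by rw [map_smul, smul_eq_mul]
    have hswap : ∀ x y, L (x * y) = L (y * x) := by
      intro x y
      have e : ∀ x y, L (x * y) = ∑ q : K × K, ∑ r : K × K, c q * (c r *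
          μ₀ (ε * (el q.2 * x) * el r.1 * ε * (ε * el r.2 * (y * el q.1) * ε))) := by
        intro x y
        rw [hL]
        refine Finset.sum_congr rfl fun q _ => ?_
        rw [show ε * el q.2 * (x * y) * (el q.1 * ε) = ε * (el q.2 * x) * ((y * el q.1) * ε) by
          simp only [mul_assoc], hins, Finset.mul_sum]
      rw [e, e, Finset.sum_comm]
      refine Finset.sum_congr rfl fun q _ => Finset.sum_congr rfl fun r _ => ?_
      rw [hμcomm _ (by simpa only [mul_assoc] using hcor (el r.2 * x * el q.1)) _
        (by simpa only [mul_assoc] using hcor (el q.2 * (y * el r.1))), mul_left_comm]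
      simp only [mul_assoc]
    have hLb : ∀ x, L (bb * x) = L x := fun x => by
      rw [hL, hL]
      refine Finset.sum_congr rfl fun q _ => ?_
      rw [show ε * el q.2 * (bb * x) = ε * bb * (el q.2 * x) by
        rw [← mul_assoc, mul_assoc ε, ← hg.bb_central (el q.2), ← mul_assoc, mul_assoc],
        hεb]
      simp only [mul_assoc]
    have hLπ : ∀ x, L (π * x) = 0 := fun x => by
      rw [hL]
      refine Finset.sum_eq_zero fun q _ => ?_
      have e : ε * el q.2 * (π * x) * (el q.1 * ε) = π * (ε * (el q.2 * x * el q.1) * ε) := by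
        calc ε * el q.2 * (π * x) * (el q.1 * ε) = ε * (el q.2 * π) * x * (el q.1 * ε) := by
              simp only [mul_assoc]
          _ = ε * (π * el q.2) * x * (el q.1 * ε) := by rw [hg.pi_central]
          _ = π * ε * el q.2 * x * (el q.1 * ε) := by rw [← mul_assoc ε π, ← hπε]
          _ = _ := by simp only [mul_assoc]
      rw [e]
      rw [hμ0 (π * (ε * (el q.2 * x * el q.1) * ε))
        (Submodule.mem_sup_left (Submodule.mem_sup_left ⟨_, hcor _, rfl⟩)), mul_zero]
    obtain ⟨hz1, hz2⟩ := hg.funEl_mem hswap hLb hLπ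
    obtain ⟨t, ht⟩ := hg.ann _ hz1 _ (hg.traceFun_mem ρ hρ).1 hz2 (hg.traceFun_mem ρ hρ).2
      (hg.traceFun_ne_zero ρ)
    rw [← funEl_smul] at ht
    have hLt := funEl_injective ht
    have hLcor : ∀ x ∈ Cor, L x = μ₀ x := by
      intro x hx
      have hx2 : x * bb = x := by rw [← (hcor' x hx).2, mul_assoc, hεb]
      rw [hL]
      calc ∑ q : K × K, c q * μ₀ (ε * el q.2 * x * (el q.1 * ε))
          = ∑ q : K × K, c q * μ₀ (x * (ε * el q.1 * ε) * (ε * el q.2 * ε)) := by
            refine Finset.sum_congr rfl fun q _ => ?_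
            rw [← hμcomm _ (hcor (el q.2)) _ (hcormul x hx _ (hcor (el q.1)))]
            congr 2
            calc ε * el q.2 * x * (el q.1 * ε) = ε * el q.2 * (ε * x * ε) * (el q.1 * ε) := by
                  rw [show ε * x * ε = x from hx]
              _ = ε * el q.2 * ε * (x * (ε * el q.1 * ε)) := by
                  conv_rhs => rw [← show ε * x * ε = x from hx]
                  simp only [mul_assoc]
                  rw [← mul_assoc ε ε (el q.1 * ε), hεε, ← mul_assoc ε ε (x * _), hεε]
        _ = μ₀ (x * ε * bb * ε) := by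
            rw [← hc, Finset.mul_sum, Finset.sum_mul, map_sum]
            refine Finset.sum_congr rfl fun q _ => ?_
            rw [mul_smul_comm, smul_mul_assoc, map_smul, smul_eq_mul]
            congr 2
            show _ = x * ε * (el q.1 * ε * el q.2) * ε
            simp only [mul_assoc]
            rw [← mul_assoc ε ε (el q.2 * ε), hεε]
        _ = μ₀ x := by rw [(hcor' x hx).2, hx2, (hcor' x hx).2]
    have h1 := hLcor ε hεC
    rw [hLt, LinearMap.smul_apply, traceFun_apply, hερ, htrE,
      hμ0 ε (Submodule.mem_sup_right (Submodule.mem_span_singleton_self ε)), smul_eq_mul, mul_one] at h1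
    have h2 := hLcor j hj.2
    rw [hLt, h1, zero_smul, LinearMap.zero_apply] at h2
    exact hμj h2.symm
  have hiter : ∀ i : ℕ, J₀ ≤ P ⊔ J₀ ^ (i + 2) := by
    intro i
    induction i with
    | zero => rw [zero_add, pow_two]; exact hfund
    | succ i ih =>
      refine ih.trans (sup_le le_sup_left ?_)
      have hpowP : ∀ j : ℕ, J₀ ^ (j + 1) * P ≤ P := by
        intro j
        induction j with
        | zero => rw [zero_add, pow_one]; exact hJP
        | succ j ihj =>
          rw [pow_succ' J₀ (j + 1), mul_assoc]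
          exact (Submodule.mul_le.2 fun a ha b hb => Submodule.mul_mem_mul ha (ihj hb)).trans hJP
      calc J₀ ^ (i + 2) = J₀ ^ (i + 1) * J₀ := pow_succ _ _
        _ ≤ J₀ ^ (i + 1) * (P ⊔ J₀ * J₀) :=
          Submodule.mul_le.2 fun a ha b hb => Submodule.mul_mem_mul ha (hfund hb)
        _ = J₀ ^ (i + 1) * P ⊔ J₀ ^ (i + 1) * (J₀ * J₀) := Submodule.mul_sup _ _ _
        _ ≤ P ⊔ J₀ ^ (i + 1 + 2) := sup_le_sup (hpowP i) (by rw [← pow_two, ← pow_add])
  have hJ₀P : J₀ ≤ P := by
    intro x hx
    obtain ⟨a, ha, b, hb, rfl⟩ :=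
      Submodule.mem_sup.1 (hiter (Module.finrank k (MonoidAlgebra k K)) hx)
    have hmono : ∀ i : ℕ, J₀ ^ i ≤ J ^ i := fun i => by
      induction i with
      | zero => rw [pow_zero, pow_zero]
      | succ i ihi =>
        rw [pow_succ, pow_succ]
        exact Submodule.mul_le.2 fun a ha b hb => Submodule.mul_mem_mul (ihi ha) hb.1
    have hb' := hmono _ hb
    rw [add_comm _ 2, pow_add] at hb'
    have hb0 : b = 0 :=
      Submodule.mul_induction_on (C := fun b => b = 0) hb'
        (fun u _ v hv => by rw [hJn v hv, mul_zero])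
        (fun u v hu hv => by rw [hu, hv, add_zero])
    rw [hb0, add_zero]
    exact ha
  have hexp : ∀ (i : ℕ) (x : MonoidAlgebra k K), x ∈ Cor → ∃ y ∈ Cor, x - π ^ i * y ∈
      Submodule.span k (Set.range fun j : Fin i => π ^ (j : ℕ) * ε) := by
    intro i x hx
    induction i with
    | zero => exact ⟨x, hx, by simp⟩
    | succ i ih =>
      obtain ⟨y, hy, hxy⟩ := ih
      obtain ⟨t, ht⟩ := hsplit y hy
      obtain ⟨y', hy', hy'e⟩ := hJ₀P ht
      refine ⟨y', hy', ?_⟩
      have e : x - π ^ (i + 1) * y' = x - π ^ i * y + t • (π ^ i * ε) := by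
        rw [LinearMap.mulLeft_apply] at hy'e
        rw [pow_succ, mul_assoc, hy'e, mul_sub, mul_smul_comm]
        abel
      rw [e]
      refine add_mem (Submodule.span_mono ?_ hxy)
        (Submodule.smul_mem _ _ (Submodule.subset_span ⟨Fin.last i, rfl⟩))
      rintro _ ⟨j, rfl⟩
      exact ⟨j.castSucc, rfl⟩
  refine ⟨ε, c, ⟨hεε, hεb, hc.symm, fun x => ?_⟩, v₀, hv₀, by rw [hερ, hE0],
    fun v => ⟨(φ v₀)⁻¹ * φ v, by rw [hερ]; simp [hE, smul_smul]⟩⟩
  obtain ⟨y, -, hxy⟩ := hexp n _ (hcor x)
  rwa [hg.pi_pow, zero_mul, sub_zero] at hxy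

omit hg in
/-- The extension of a map from `ε X`. -/
noncomputable def extend [Fintype K] {X Y : Type*} [AddCommGroup X] [Module k X] [AddCommGroup Y]
    [Module k Y] (σ : Representation k K X) (τ : Representation k K Y) (ε : MonoidAlgebra k K)
    (c : K × K → k) (g : X →ₗ[k] Y) : X →ₗ[k] Y :=
  ∑ q : K × K, c q • (τ q.1).comp (g.comp (σ.asAlgebraHom (ε * MonoidAlgebra.single q.2 1)))

omit hg in
theorem extend_def [Fintype K] {X Y : Type*} [AddCommGroup X] [Module k X] [AddCommGroup Y]
    [Module k Y] (σ : Representation k K X) (τ : Representation k K Y) (ε : MonoidAlgebra k K)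
    (c : K × K → k) (g : X →ₗ[k] Y) (x : X) : extend σ τ ε c g x =
      ∑ q : K × K, c q • τ q.1 (g (σ.asAlgebraHom (ε * MonoidAlgebra.single q.2 1) x)) := by
  simp only [extend, LinearMap.sum_apply, LinearMap.smul_apply, LinearMap.comp_apply]

section extension

variable [Fintype K] {ε : MonoidAlgebra k K} {c : K × K → k}
  (hcor : IsCorner bb π ε n c) {X Y : Type*} [AddCommGroup X]
  [Module k X] [AddCommGroup Y] [Module k Y] (σ : Representation k K X) (τ : Representation k K Y)
  (g : X →ₗ[k] Y)
  (hε : ∀ x, τ.asAlgebraHom ε (g (σ.asAlgebraHom ε x)) = g (σ.asAlgebraHom ε x))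
  (hπ : ∀ x, g (σ.asAlgebraHom π (σ.asAlgebraHom ε x)) = τ.asAlgebraHom π (g (σ.asAlgebraHom ε x)))
include hcor hε hπ

theorem extend_apply (x : X) (hx : σ.asAlgebraHom ε x = x) : extend σ τ ε c g x = g x := by
  have hgε : ∀ w, g (σ.asAlgebraHom (ε * w * ε) x) = τ.asAlgebraHom (ε * w * ε) (g x) := by
    suffices H : ∀ z ∈ Submodule.span k (Set.range fun i : Fin n => π ^ (i : ℕ) * ε),
        g (σ.asAlgebraHom z x) = τ.asAlgebraHom z (g x) from fun w => H _ (hcor.span w)
    intro z hz
    induction hz using Submodule.span_induction with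
    | mem z hz =>
      obtain ⟨i, rfl⟩ := hz
      have key : ∀ j : ℕ, g (σ.asAlgebraHom (π ^ j) x) = τ.asAlgebraHom (π ^ j) (g x) ∧
          σ.asAlgebraHom ε (σ.asAlgebraHom (π ^ j) x) = σ.asAlgebraHom (π ^ j) x := by
        intro j
        induction j with
        | zero => simp [hx]
        | succ j ih =>
          refine ⟨?_, ?_⟩
          · rw [pow_succ', map_mul, map_mul, Module.End.mul_apply, Module.End.mul_apply, ← ih.1,
              ← ih.2, hπ]
          · rw [pow_succ', map_mul, Module.End.mul_apply, ← Module.End.mul_apply, ← map_mul,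
              ← hg.pi_central, map_mul, Module.End.mul_apply, ih.2]
      simp only [map_mul, Module.End.mul_apply]
      rw [hx, (key i).1]
      congr 1
      conv_rhs => rw [← hx]
      rw [hε, hx]
    | zero => simp
    | add a b _ _ ha hb => simp [map_add, ha, hb]
    | smul t a _ ha => simp [map_smul, ha]
  calc extend σ τ ε c g x
      = ∑ q : K × K, c q • τ q.1 (g (σ.asAlgebraHom (ε * MonoidAlgebra.single q.2 1 * ε) x)) := by
        rw [extend_def]
        refine Finset.sum_congr rfl fun q _ => ?_
        rw [map_mul σ.asAlgebraHom (ε * _) ε, Module.End.mul_apply, hx]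
    _ = τ.asAlgebraHom (bb * ε) (g x) := by
        rw [hcor.decomp, Finset.sum_mul, map_sum, LinearMap.sum_apply]
        refine Finset.sum_congr rfl fun q _ => ?_
        rw [hgε, smul_mul_assoc, map_smul, LinearMap.smul_apply,
          show MonoidAlgebra.single q.1 1 * ε * MonoidAlgebra.single q.2 1 * ε =
            MonoidAlgebra.single q.1 (1 : k) * (ε * MonoidAlgebra.single q.2 1 * ε) by
              simp only [mul_assoc],
          map_mul τ.asAlgebraHom (MonoidAlgebra.single q.1 (1 : k)), Module.End.mul_apply,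
          asAlgebraHom_single, one_smul]
    _ = g x := by
        rw [hg.bb_central, hcor.mul_bb]
        conv_rhs => rw [← hx, ← hε, hx]

theorem extend_comm (a : MonoidAlgebra k K) (x : X) :
    extend σ τ ε c g (σ.asAlgebraHom a x) = τ.asAlgebraHom a (extend σ τ ε c g x) := by
  have key : ∀ (w : MonoidAlgebra k K) (y : X),
      g (σ.asAlgebraHom (ε * w * ε) (σ.asAlgebraHom ε y)) =
        τ.asAlgebraHom (ε * w * ε) (g (σ.asAlgebraHom ε y)) := by
    suffices H : ∀ z ∈ Submodule.span k (Set.range fun i : Fin n => π ^ (i : ℕ) * ε), ∀ y,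
        g (σ.asAlgebraHom z (σ.asAlgebraHom ε y)) = τ.asAlgebraHom z (g (σ.asAlgebraHom ε y))
        from fun w => H _ (hcor.span w)
    intro z hz y
    induction hz using Submodule.span_induction with
    | mem z hz =>
      obtain ⟨i, rfl⟩ := hz
      have hεy : σ.asAlgebraHom ε (σ.asAlgebraHom ε y) = σ.asAlgebraHom ε y := by
        rw [← Module.End.mul_apply, ← map_mul, hcor.idem]
      have key' : ∀ j : ℕ, g (σ.asAlgebraHom (π ^ j) (σ.asAlgebraHom ε y)) =
          τ.asAlgebraHom (π ^ j) (g (σ.asAlgebraHom ε y)) ∧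
          σ.asAlgebraHom ε (σ.asAlgebraHom (π ^ j) (σ.asAlgebraHom ε y)) =
            σ.asAlgebraHom (π ^ j) (σ.asAlgebraHom ε y) := by
        intro j
        induction j with
        | zero => simp [hεy]
        | succ j ih =>
          refine ⟨?_, ?_⟩
          · rw [pow_succ', map_mul, map_mul, Module.End.mul_apply, Module.End.mul_apply, ← ih.1,
              ← ih.2, hπ]
          · rw [pow_succ', map_mul, Module.End.mul_apply, ← Module.End.mul_apply, ← map_mul,
              ← hg.pi_central, map_mul, Module.End.mul_apply, ih.2]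
      simp only [map_mul, Module.End.mul_apply]
      rw [hεy, (key' i).1, hε]
    | zero => simp
    | add a b _ _ ha hb => simp [map_add, ha, hb]
    | smul t a _ ha => simp [map_smul, ha]
  have hstep : ∀ h : K, g (σ.asAlgebraHom (ε * MonoidAlgebra.single h 1) (σ.asAlgebraHom a x)) =
      ∑ q : K × K, c q • τ.asAlgebraHom (ε * (MonoidAlgebra.single h 1 * a * MonoidAlgebra.single q.1 1) * ε)
        (g (σ.asAlgebraHom (ε * MonoidAlgebra.single q.2 1) x)) := by
    intro h
    have e : ε * MonoidAlgebra.single h 1 * a = ∑ q : K × K, c q •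
        ((ε * (MonoidAlgebra.single h 1 * a * MonoidAlgebra.single q.1 1) * ε) *
          (ε * (ε * MonoidAlgebra.single q.2 1))) := by
      calc ε * MonoidAlgebra.single h 1 * a = ε * MonoidAlgebra.single h 1 * a * bb := by
            conv_lhs => rw [← hcor.mul_bb]
            simp only [mul_assoc]
            rw [hg.bb_central]
            simp only [mul_assoc]
        _ = _ := by
            rw [hcor.decomp, Finset.mul_sum]
            refine Finset.sum_congr rfl fun q _ => ?_
            rw [mul_smul_comm]
            congr 1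
            simp only [← mul_assoc]
            rw [mul_assoc _ ε ε, hcor.idem, mul_assoc _ ε ε, hcor.idem]
    rw [← Module.End.mul_apply, ← map_mul, e, map_sum, LinearMap.sum_apply, map_sum]
    refine Finset.sum_congr rfl fun q _ => ?_
    rw [map_smul, LinearMap.smul_apply, map_smul,
      map_mul σ.asAlgebraHom (ε * (MonoidAlgebra.single h 1 * a * MonoidAlgebra.single q.1 1) * ε),
      Module.End.mul_apply, map_mul σ.asAlgebraHom ε, Module.End.mul_apply, key,
      ← Module.End.mul_apply (σ.asAlgebraHom ε), ← map_mul, ← mul_assoc ε ε, hcor.idem]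
  have hτε : ∀ (h : K) (v : X), τ.asAlgebraHom ε (g (σ.asAlgebraHom (ε * MonoidAlgebra.single h 1) v)) =
      g (σ.asAlgebraHom (ε * MonoidAlgebra.single h 1) v) := fun h v => by
    rw [map_mul σ.asAlgebraHom, Module.End.mul_apply, hε]
  rw [extend_def, extend_def]
  simp only [hstep, Finset.smul_sum, map_sum]
  rw [Finset.sum_comm]
  refine Finset.sum_congr rfl fun q _ => ?_
  set v := g (σ.asAlgebraHom (ε * MonoidAlgebra.single q.2 1) x) with hv
  calc ∑ r : K × K, c r • τ r.1 (c q • τ.asAlgebraHom
        (ε * (MonoidAlgebra.single r.2 1 * a * MonoidAlgebra.single q.1 1) * ε) v)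
      = c q • τ.asAlgebraHom (bb * (a * MonoidAlgebra.single q.1 1 * ε)) v := by
        rw [hcor.decomp, Finset.sum_mul, map_sum, LinearMap.sum_apply, Finset.smul_sum]
        refine Finset.sum_congr rfl fun r _ => ?_
        rw [map_smul, smul_mul_assoc, map_smul, LinearMap.smul_apply, smul_comm,
          show MonoidAlgebra.single r.1 1 * ε * MonoidAlgebra.single r.2 1 *
              (a * MonoidAlgebra.single q.1 1 * ε) = MonoidAlgebra.single r.1 (1 : k) *
              (ε * (MonoidAlgebra.single r.2 1 * a * MonoidAlgebra.single q.1 1) * ε) by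
            simp only [mul_assoc],
          map_mul τ.asAlgebraHom (MonoidAlgebra.single r.1 (1 : k)), Module.End.mul_apply,
          asAlgebraHom_single, one_smul]
    _ = τ.asAlgebraHom a (c q • τ q.1 v) := by
        rw [← mul_assoc, hg.bb_central, mul_assoc, hg.bb_central, hcor.mul_bb, map_mul, map_mul,
          Module.End.mul_apply, Module.End.mul_apply, hv, hτε, map_smul, asAlgebraHom_single, one_smul]

end extension

end Cfsg.Agent.CycDefect
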