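import Cfsg.Agent.Lib.CycDefect.Lower
import Cfsg.Agent.Lib.CycDefect.Lattice
import Cfsg.Agent.Lib.CycDefect.Orbit
import Cfsg.Agent.Lib.CyclicDefect.Comb
import Cfsg.Agent.Lib.BlockDefect.RegInner

/-!
# The structure of a block with cyclic defect group

* `exists_structure`: `l(B) = e`, `e + (|P| - 1)/e` characters, the exceptional characters and the
  signed relation on the `p`-regular elements;
* `apply_singular_eq_of_dec`, `dvd_degree_sub_of_dec`: characters with equal decomposition numbers agree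
  on the `p`-singular elements, and their degrees are congruent modulo `|G|_p`.
-/

set_option autoImplicit false
set_option maxHeartbeats 1000000
set_option synthInstance.maxHeartbeats 200000
set_option linter.unusedSectionVars false

namespace Cfsg.Agent.CycDefect

open Cfsg Cfsg.Agent.Blocks Cfsg.Agent.BrauerPairs Cfsg.Agent.SecondMain Cfsg.Agent.FreeInertial
open Cfsg.Agent.Star

variable {G : Type*} [Group G] [Finite G] {p : ℕ} [Fact p.Prime] {M : Ideal AlgInt}
  {B : Set (IrrCharacter G)} {P : Subgroup G}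
  {c : Set (IrrCharacter (Subgroup.centralizer (P : Set G)))}

theorem freeInertial (hM : IsPModular p M) (hmax : IsMaximalBrauerPair p M B P c) (hcyc : IsCyclic P) :
    FreeInertial.Free M P c := fun _ ht _ hx hx1 hfix => free hM hmax hcyc ht hx hx1 hfix

/-- Two characters with the same decomposition numbers agree on the singular elements. -/
theorem apply_singular_eq_of_dec (hM : IsPModular p M) (hmax : IsMaximalBrauerPair p M B P c)
    (hab : ∀ x ∈ P, ∀ y ∈ P, x * y = y * x) (hfree : FreeInertial.Free M P c) {χ χ' : IrrCharacter G}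
    (hχ : χ ∈ B) (hχ' : χ' ∈ B) {a b : ℂ}
    (hdec : ∀ v ∈ P, v ≠ 1 → a * dec p M P c (Subgroup.zpowers v) (χ : G → ℂ) v =
      b * dec p M P c (Subgroup.zpowers v) (χ' : G → ℂ) v) {g : G} (hg : p ∣ orderOf g) :
    a * (χ : G → ℂ) g = b * (χ' : G → ℂ) g := by
  classical
  have := Fintype.ofFinite G
  obtain ⟨u, s, hgus, hug, hsg, ⟨n, hn⟩, hso⟩ := Transfer.exists_pPart_mul (p := p) g
  have hs : ¬ p ∣ orderOf s := hM.1.coprime_iff_not_dvd.mp hso.symm
  have hcs : Commute u s := by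
    obtain ⟨i, hi⟩ := Subgroup.mem_zpowers_iff.mp hug
    obtain ⟨j, hj⟩ := Subgroup.mem_zpowers_iff.mp hsg
    have h1 := (Commute.refl g).zpow_zpow i j
    rwa [hi, hj] at h1
  have hu1 : u ≠ 1 := fun h => hs (by rw [h, one_mul] at hgus; rwa [← hgus])
  have hB : IsPBlock M B := hmax.1.2.1
  rw [hgus, ← sum_piece_pairs hM ⟨n, hn⟩ hs hcs hB hχ, ← sum_piece_pairs hM ⟨n, hn⟩ hs hcs hB hχ',
    Finset.mul_sum, Finset.mul_sum]
  refine Finset.sum_congr rfl fun q hq => ?_
  obtain ⟨hq1, hqB⟩ := Finset.mem_filter.1 hq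
  obtain ⟨hq2, -⟩ := mem_pairsAt.1 hq1
  obtain ⟨x, hx⟩ := exists_conj_le_maximal hM hmax hqB
  have hxu : x * u * x⁻¹ ∈ P := conjIdx_mem_P (p := p) (x := x) hq2 hx
  obtain ⟨Q, f⟩ := q
  obtain rfl : Q = Subgroup.zpowers u := hq2
  set v := x * u * x⁻¹ with hv
  have hv1 : v ≠ 1 := fun h => hu1 (conj_eq_one_iff.1 h)
  have hQv : conjSub x (Subgroup.zpowers u) = Subgroup.zpowers v := conjSub_zpowers' x u
  -- the conjugate pair lies below the maximal one
  have key : ∀ (W : Subgroup G) (f' : Set (IrrCharacter (Subgroup.centralizer (W : Set G)))),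
      W = Subgroup.zpowers v → SubpairLE p M W f' P c → ∀ ψ : IrrCharacter G,
      piece ⟨W, f'⟩ (ψ : G → ℂ) (x * (u * s) * x⁻¹) =
        dec p M P c (Subgroup.zpowers v) (ψ : G → ℂ) v *
          th p M P c (Subgroup.zpowers v) (x * s * x⁻¹) := by
    intro W f' hW hle ψ
    subst hW
    rw [blk_eq hM hmax (Subgroup.zpowers_le.2 hxu) hle, piece_def,
      show x * (u * s) * x⁻¹ = v * (x * s * x⁻¹) by rw [hv]; group]
    refine piece_local hM hmax hab hfree (Subgroup.zpowers_le.2 hxu)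
      (fun h => hv1 (Subgroup.zpowers_eq_bot.1 h)) (fun h _ m => irr_class ψ m h)
      (fun h hh => SecondMain.mem_centralizer_zpowers_iff.1 hh)
      (SecondMain.mem_centralizer_zpowers_iff.2 ?_) (by rwa [SecondMain.orderOf_conj])
    exact hcs.map (MulAut.conj x).toMonoidHom
  rw [← piece_conj (⟨_, f⟩ : BrauerPairIdx G) (irr_class χ) x (u * s),
    ← piece_conj (⟨_, f⟩ : BrauerPairIdx G) (irr_class χ') x (u * s),
    show conjIdx x (⟨_, f⟩ : BrauerPairIdx G) =
      ⟨conjSub x (Subgroup.zpowers u), conjBlock (Subgroup.zpowers u) x f⟩ from rfl,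
    key _ _ hQv hx, key _ _ hQv hx, ← mul_assoc, ← mul_assoc, hdec v hxu hv1]

/-- Degrees of characters with proportional decomposition numbers. -/
theorem dvd_degree_sub_of_dec (hM : IsPModular p M) (hmax : IsMaximalBrauerPair p M B P c)
    (hab : ∀ x ∈ P, ∀ y ∈ P, x * y = y * x) (hfree : FreeInertial.Free M P c) {χ χ' : IrrCharacter G}
    (hχ : χ ∈ B) (hχ' : χ' ∈ B) {a b : ℤ}
    (hdec : ∀ v ∈ P, v ≠ 1 → (a : ℂ) * dec p M P c (Subgroup.zpowers v) (χ : G → ℂ) v =
      (b : ℂ) * dec p M P c (Subgroup.zpowers v) (χ' : G → ℂ) v) :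
    (p : ℤ) ^ (Nat.card G).factorization p ∣
      a * (charDegree (χ : G → ℂ) : ℤ) - b * (charDegree (χ' : G → ℂ) : ℤ) := by
  obtain ⟨S⟩ := (Sylow.nonempty : Nonempty (Sylow p G))
  have := Fintype.ofFinite G
  have := Fintype.ofFinite (S : Subgroup G)
  obtain ⟨n₁, h₁⟩ := BlockDefect.sum_subgroup_eq (Char.IsIrrCharacter.isCharacter χ.2) (S : Subgroup G)
  obtain ⟨n₂, h₂⟩ := BlockDefect.sum_subgroup_eq (Char.IsIrrCharacter.isCharacter χ'.2) (S : Subgroup G)
  have h := BlockDefect.sum_pGroup_eq_apply_one hM.1 S.isPGroup'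
    (f := fun g => (a : ℂ) * (χ : G → ℂ) g - (b : ℂ) * (χ' : G → ℂ) g) (fun y hy =>
      sub_eq_zero.2 (apply_singular_eq_of_dec hM hmax hab hfree hχ hχ' hdec hy))
  rw [Finset.sum_sub_distrib, ← Finset.mul_sum, ← Finset.mul_sum, h₁, h₂] at h
  simp only [← charDegree_cast] at h
  refine ⟨a * n₁ - b * n₂, Int.cast_injective (α := ℂ) ?_⟩
  push_cast
  rw [← h, show (Nat.card (S : Subgroup G) : ℂ) = (p : ℂ) ^ (Nat.card G).factorization p by
    rw [S.card_eq_multiplicity, Nat.cast_pow]]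
  ring

/-- The decomposition numbers of a block with cyclic defect group and inertial index `e`. -/
structure Param (p : ℕ) (M : Ideal AlgInt) (B : Set (IrrCharacter G)) (P : Subgroup G)
    (c : Set (IrrCharacter (Subgroup.centralizer (P : Set G)))) (e f : ℕ) where
  /-- The characters, `e` ordinary ones and `f` exceptional ones. -/
  χ : Fin e ⊕ Fin f → IrrCharacter G
  mem : ∀ a, χ a ∈ B
  injective : Function.Injective χ
  surj : ∀ ψ ∈ B, ∃ a, χ a = ψ
  /-- The signs. -/
  s : Fin e ⊕ Fin f → ℤ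
  s_cases : ∀ a, s a = 1 ∨ s a = -1
  s_exc : ∀ j j', s (Sum.inr j) = s (Sum.inr j')
  /-- The signs of the decomposition numbers. -/
  σ : G → ℤ
  σ_cases : ∀ v, σ v = 1 ∨ σ v = -1
  /-- Representatives of the orbits of linear characters. -/
  rep : Fin f → (P →* ℂˣ)
  rep_ne : ∀ j, rep j ≠ 1
  cover : ∀ l, l ≠ 1 → ∃! j, l ∈ orb e (rep j)
  dec_inl : ∀ i (v : P), v ≠ 1 →
    (σ (v : G) : ℂ) * dec p M P c (Subgroup.zpowers (v : G)) (χ (Sum.inl i) : G → ℂ) v =
      -(s (Sum.inl i) : ℂ)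
  dec_inr : ∀ j (v : P), v ≠ 1 →
    (σ (v : G) : ℂ) * dec p M P c (Subgroup.zpowers (v : G)) (χ (Sum.inr j) : G → ℂ) v =
      (s (Sum.inr j) : ℂ) * orbSum e (rep j) v
  rel : ∀ g : G, ¬ p ∣ orderOf g → ∀ j, (s (Sum.inr j) : ℂ) * (χ (Sum.inr j) : G → ℂ) g +
    ∑ i, (s (Sum.inl i) : ℂ) * (χ (Sum.inl i) : G → ℂ) g = 0

open scoped Classical in
/-- The decomposition numbers and counts of a block with cyclic defect group. -/
theorem exists_param (hM : IsPModular p M) (hmax : IsMaximalBrauerPair p M B P c) (hcyc : IsCyclic P)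
    (hP1 : P ≠ ⊥) {e : ℕ} (he : (Subgroup.centralizer (P : Set G)).relIndex (pairStab M P c) = e) :
    blockRank p B = e ∧ ∃ f, 0 < f ∧ Nat.card P = e * f + 1 ∧ Nat.card B = e + f ∧
      Nonempty (Param p M B P c e f) := by
  have := Fintype.ofFinite B
  have := Fintype.ofFinite (IrrCharacter G)
  have := Fintype.ofFinite (Coset M P c)
  have hab := comm_of_cyclic hcyc
  have hfree := freeInertial hM hmax hcyc
  obtain ⟨f, n, hf, hq, hgram, hrow, horth, σ, rep, hσ, hrep, hcov, hform⟩ :=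
    CycDefect.exists_lattice hM hmax hab hfree hP1
  obtain ⟨he0, hk⟩ := card_eq_rank_add hM hmax hab hfree
  rw [he] at hq hgram he0 hk
  have horb : ∀ j, dualOrb (M := M) (c := c) (rep j) = orb e (rep j) := fun j =>
    dualOrb_eq_orb hM hmax hcyc hP1 he (hrep j)
  have hkl : Nat.card B = blockRank p B + f := by
    have hq1 : Nat.card P - 1 = e * f := by omega
    rw [hq1] at hk
    exact Nat.eq_of_mul_eq_mul_right he0 (by rw [add_mul, mul_comm f]; exact hk)
  have hle : e ≤ blockRank p B := he ▸ relIndex_le_blockRank hM hmax hcyc hP1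
  have : Nonempty (Fin f) := ⟨⟨0, hf⟩⟩
  obtain ⟨hcard, exc, hinj, hexc, hcst⟩ := CyclicDefect.gram_structure (fun i j => n i j) e he0 hgram hrow
    (by rw [Fintype.card_fin, ← Nat.card_eq_fintype_card, hkl]; omega)
  rw [Fintype.card_fin, ← Nat.card_eq_fintype_card] at hcard
  refine ⟨by omega, f, hf, hq, hcard, ?_⟩
  choose s₁ hs₁ hsn using hexc
  have hX : Fintype.card {i : B // ∀ j, exc j ≠ i} = e := by
    rw [show Fintype.card {i : B // ∀ j, exc j ≠ i} = Fintype.card {i : B // ¬ i ∈ Set.range exc} from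
      Fintype.card_congr (Equiv.subtypeEquivRight fun i => by simp), Fintype.card_subtype_compl,
      show Fintype.card {i : B // i ∈ Set.range exc} = f by
        rw [← Nat.card_eq_fintype_card]
        exact (Nat.card_range_of_injective hinj).trans (Nat.card_fin f), ← Nat.card_eq_fintype_card]
    omega
  let ε := (Fintype.equivFinOfCardEq hX).symm
  choose s₂ hs₂ hcn using fun i : Fin e => hcst (ε i).1 (ε i).2
  let χB : Fin e ⊕ Fin f → B := Sum.elim (fun i => (ε i).1) exc
  have hχinj : Function.Injective χB :=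
    Function.Injective.sumElim (Subtype.val_injective.comp ε.injective) hinj
      fun i j h => (ε i).2 j h.symm
  have hsurj : Function.Surjective χB := fun i => by
    by_cases h : ∀ j, exc j ≠ i
    · exact ⟨Sum.inl (ε.symm ⟨i, h⟩), by simp [χB]⟩
    · push Not at h
      obtain ⟨j, hj⟩ := h
      exact ⟨Sum.inr j, hj⟩
  let s : Fin e ⊕ Fin f → ℤ := Sum.elim s₂ s₁
  have hrel : ∀ g : G, ¬ p ∣ orderOf g → ∀ j, (s₁ j : ℂ) * ((exc j).1 : G → ℂ) g +
      ∑ i, (s₂ i : ℂ) * ((ε i).1.1 : G → ℂ) g = 0 := by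
    intro g hg j
    rw [← horth j g hg, ← Equiv.sum_comp (Equiv.ofBijective χB ⟨hχinj, hsurj⟩), Fintype.sum_sum_type,
      add_comm (∑ _ : Fin e, _)]
    congr 1
    · rw [Finset.sum_eq_single j]
      · show _ = ((exc j).1 : G → ℂ) g * (n (exc j) j : ℂ)
        rw [hsn j j, if_pos rfl, mul_comm]
      · intro j' _ hne
        show ((exc j').1 : G → ℂ) g * (n (exc j') j : ℂ) = 0
        rw [hsn j' j, if_neg (Ne.symm hne), Int.cast_zero, mul_zero]
      · exact fun h => absurd (Finset.mem_univ _) h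
    · refine Finset.sum_congr rfl fun i _ => ?_
      show _ = ((ε i).1.1 : G → ℂ) g * (n (ε i).1 j : ℂ)
      rw [hcn i j, mul_comm]
  let j₀ : Fin f := ⟨0, hf⟩
  have hseq : ∀ j, s₁ j = s₁ j₀ := by
    intro j
    have h1 : ¬ p ∣ orderOf (1 : G) := by simpa using (Fact.out : p.Prime).ne_one
    have h := (hrel 1 h1 j).trans (hrel 1 h1 j₀).symm
    rw [add_right_cancel_iff, ← charDegree_cast, ← charDegree_cast] at h
    have h' : s₁ j * (charDegree ((exc j).1 : G → ℂ) : ℤ) =
        s₁ j₀ * (charDegree ((exc j₀).1 : G → ℂ) : ℤ) :=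
      Int.cast_injective (α := ℂ) (by push_cast; exact h)
    have p1 := charDegree_pos (exc j).1
    have p2 := charDegree_pos (exc j₀).1
    rcases hs₁ j with e | e <;> rcases hs₁ j₀ with e' | e' <;> rw [e, e'] at h' ⊢ <;> omega
  have hall : ∀ v : P, v ≠ 1 → ∑ j, orbSum e (rep j) v = -1 := by
    intro v hv
    let := FreeInertial.commP hab
    have := Fintype.ofFinite (P →* ℂˣ)
    have h0 : ∑ l : P →* ℂˣ, (l v : ℂ) = 0 := by rw [sum_dual, if_neg hv]
    rw [← Finset.add_sum_erase Finset.univ _ (Finset.mem_univ (1 : P →* ℂˣ))] at h0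
    simp only [orbSum]
    rw [← Finset.sum_biUnion]
    · rw [show (Finset.univ : Finset (Fin f)).biUnion (fun j => orb e (rep j)) =
          Finset.univ.erase (1 : P →* ℂˣ) from ?_]
      · simp only [MonoidHom.one_apply, Units.val_one] at h0
        linear_combination h0
      ext l
      simp only [Finset.mem_biUnion, Finset.mem_univ, true_and, Finset.mem_erase, and_true]
      constructor
      · rintro ⟨j, hj⟩ rfl
        obtain ⟨t, ht, hμ⟩ := mem_dualOrb.1 ((horb j).symm ▸ hj)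
        refine hrep j (MonoidHom.ext fun x => ?_)
        obtain ⟨x', rfl⟩ := Finite.injective_iff_surjective.1 (conjP_injective ht) x
        exact (DFunLike.congr_fun hμ x').symm
      · intro hl
        obtain ⟨j, hj, -⟩ := hcov l hl
        exact ⟨j, horb j ▸ hj⟩
    · intro j _ j' _ hne
      rw [Function.onFun, Finset.disjoint_left]
      intro l hl hl'
      rw [← horb] at hl hl'
      have hl1 : l ≠ 1 := by
        rintro rfl
        obtain ⟨t, ht, hμ⟩ := mem_dualOrb.1 hl
        refine hrep j (MonoidHom.ext fun x => ?_)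
        obtain ⟨x', rfl⟩ := Finite.injective_iff_surjective.1 (conjP_injective ht) x
        exact (DFunLike.congr_fun hμ x').symm
      obtain ⟨j₁, -, huniq⟩ := hcov l hl1
      exact hne ((huniq j hl).trans (huniq j' hl').symm)
  refine ⟨⟨fun a => (χB a).1, fun a => (χB a).2, Subtype.val_injective.comp hχinj,
    fun ψ hψ => (hsurj ⟨ψ, hψ⟩).imp fun a ha => congrArg Subtype.val ha,
    s, fun a => ?_, fun j j' => (hseq j).trans (hseq j').symm, σ, hσ, rep, hrep,
    fun l hl => by simpa only [horb] using hcov l hl, fun i v hv => ?_, fun j v hv => ?_,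
    fun g hg j => hrel g hg j⟩⟩
  · cases a with
    | inl i => exact hs₂ i
    | inr j => exact hs₁ j
  · rw [hform _ v hv, Finset.sum_congr rfl fun j _ => by
      rw [horb, show n (χB (Sum.inl i)) j = s₂ i from hcn i j], ← Finset.mul_sum]
    rw [show ∑ j, ∑ μ ∈ orb e (rep j), (μ v : ℂ) = -1 from hall v hv, mul_neg, mul_one]
    rfl
  · rw [hform _ v hv, Finset.sum_eq_single j]
    · rw [show n (χB (Sum.inr j)) j = s₁ j from (hsn j j).trans (if_pos rfl), horb]
      rfl
    · intro j' _ hne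
      rw [show n (χB (Sum.inr j)) j' = 0 from (hsn j j').trans (if_neg hne), Int.cast_zero, zero_mul]
    · exact fun h => absurd (Finset.mem_univ _) h

open scoped Classical in
/-- The structure of a block with cyclic defect group. -/
theorem exists_structure [Fintype (IrrCharacter G)] (hM : IsPModular p M)
    (hmax : IsMaximalBrauerPair p M B P c) (hcyc : IsCyclic P) (hP1 : P ≠ ⊥) {e : ℕ}
    (he : (Subgroup.centralizer (P : Set G)).relIndex (pairStab M P c) = e) :
    blockRank p B = e ∧ ∃ (f : ℕ) (exc : Fin f → IrrCharacter G) (δ₀ : ℤ) (δ : IrrCharacter G → ℤ),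
      0 < f ∧ Nat.card P = e * f + 1 ∧ Nat.card B = e + f ∧ Function.Injective exc ∧
      (∀ j, exc j ∈ B) ∧ (δ₀ = 1 ∨ δ₀ = -1) ∧
      (∀ χ ∈ B, χ ∉ Set.range exc → δ χ = 1 ∨ δ χ = -1) ∧
      (∀ g : G, ¬ p ∣ orderOf g → ∀ j, (δ₀ : ℂ) * (exc j : G → ℂ) g +
        ∑ χ ∈ Finset.univ.filter (fun χ => χ ∈ B ∧ χ ∉ Set.range exc), (δ χ : ℂ) * (χ : G → ℂ) g = 0) ∧
      ∀ χ ∈ B, χ ∉ Set.range exc → ∀ χ' ∈ B, χ' ∉ Set.range exc → ∀ v ∈ P, v ≠ 1 →
        (δ χ : ℂ) * dec p M P c (Subgroup.zpowers v) (χ : G → ℂ) v =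
          (δ χ' : ℂ) * dec p M P c (Subgroup.zpowers v) (χ' : G → ℂ) v := by
  obtain ⟨hl, f, hf, hq, hk, ⟨D⟩⟩ := exists_param hM hmax hcyc hP1 he
  refine ⟨hl, f, fun j => D.χ (Sum.inr j), D.s (Sum.inr ⟨0, hf⟩),
    fun χ => Function.extend D.χ D.s 1 χ, hf, hq, hk, D.injective.comp Sum.inr_injective,
    fun j => D.mem _, D.s_cases _, fun χ hχ _ => ?_, fun g hg j => ?_,
    fun χ hχ hn χ' hχ' hn' v hv hv1 => ?_⟩
  · obtain ⟨a, rfl⟩ := D.surj χ hχ
    simp only [D.injective.extend_apply]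
    exact D.s_cases a
  · refine Eq.trans ?_ (D.rel g hg j)
    rw [D.s_exc j ⟨0, hf⟩]
    congr 1
    symm
    refine Finset.sum_bij (fun i _ => D.χ (Sum.inl i)) (fun i _ => Finset.mem_filter.2
      ⟨Finset.mem_univ _, D.mem _, fun ⟨j, hj⟩ => Sum.inr_ne_inl (D.injective hj)⟩)
      (fun a _ b _ h => Sum.inl_injective (D.injective h)) (fun χ hχ => ?_)
      fun i _ => by simp only [D.injective.extend_apply]
    obtain ⟨a, rfl⟩ := D.surj χ (Finset.mem_filter.1 hχ).2.1
    cases a with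
    | inl i => exact ⟨i, Finset.mem_univ _, rfl⟩
    | inr j' => exact absurd ⟨j', rfl⟩ (Finset.mem_filter.1 hχ).2.2
  · obtain ⟨a, rfl⟩ := D.surj χ hχ
    obtain ⟨a', rfl⟩ := D.surj χ' hχ'
    simp only [D.injective.extend_apply]
    cases a with
    | inr j => exact absurd ⟨j, rfl⟩ hn
    | inl i =>
    cases a' with
    | inr j => exact absurd ⟨j, rfl⟩ hn'
    | inl i' =>
    have h1 := D.dec_inl i ⟨v, hv⟩ (fun h => hv1 (congrArg Subtype.val h))
    have h2 := D.dec_inl i' ⟨v, hv⟩ (fun h => hv1 (congrArg Subtype.val h))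
    have hσ0 : (D.σ v : ℂ) ≠ 0 := by
      rcases D.σ_cases v with h | h <;> rw [h] <;> norm_num
    refine mul_left_cancel₀ hσ0 ?_
    rw [mul_left_comm, h1, mul_left_comm, h2]
    rcases D.s_cases (Sum.inl i) with e1 | e1 <;> rcases D.s_cases (Sum.inl i') with e2 | e2 <;>
      rw [e1, e2] <;> push_cast <;> ring

end Cfsg.Agent.CycDefect
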