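import Cfsg.Agent.Lib.CycDefect.Serial
import Cfsg.Agent.Lib.CycDefect.Orbits

/-!
# A simple module has such maps onto at most one extension

Setting: `C ≤ H` normal, `bb, π` generating data on `k[C]`, `τ₁, τ₂` representations of `H` with the
same simple restriction `ρ` to `C`.
* `exists_retraction`: an endomorphism commuting with `H`, fixed by `q₁` and killed by `q₂`;
* `good_unique`.
-/

set_option autoImplicit false
set_option maxHeartbeats 1600000
set_option linter.unusedSectionVars false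
set_option linter.style.haveILetI false

namespace Cfsg.Agent.CycDefect

open Cfsg.Agent.BrauerPairs Cfsg.Agent.Star Representation

variable {k : Type*} [Field k] [IsAlgClosed k] {G : Type*} [Group G] [Finite G]
  {C H : Subgroup G} {bb π : MonoidAlgebra k C} {n : ℕ}
  {S : Type*} [AddCommGroup S] [Module k S] [FiniteDimensional k S] {ρ : Representation k C S}
  {V : Type*} [AddCommGroup V] [Module k V] {φ : Representation k G V}

theorem IsHom.apply_up {τ : Representation k H S} {q : V →ₗ[k] S} (hq : IsHom φ τ q) (hCH : C ≤ H)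
    (hτ : ∀ c : C, τ ⟨c, hCH c.2⟩ = ρ c) (x : MonoidAlgebra k C) (v : V) :
    q (φ.asAlgebraHom (up C x) v) = ρ.asAlgebraHom x (q v) := by
  rw [hq.apply_actH (fun y hy => suppIn_up C x y fun h => hy (hCH h)), actH_up hCH]
  rw [show τ.comp (Subgroup.inclusion hCH) = ρ from MonoidHom.ext fun c => hτ c]

variable [ρ.IsIrreducible]

theorem exists_retraction [Fintype C] (hCH : C ≤ H)
    (hidx : ((C.relIndex H : ℕ) : k) ≠ 0) (hg : IsGen bb π n)
    {ε : MonoidAlgebra k C} {c : C × C → k} (hcor : IsCorner bb π ε n c)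
    {s₀ : S} (hs₀ : s₀ ≠ 0) (hεs : ρ.asAlgebraHom ε s₀ = s₀)
    (hrk : ∀ v, ∃ a : k, ρ.asAlgebraHom ε v = a • s₀) (hρ : ρ.asAlgebraHom bb = 1)
    (hB : Fixed H (up C bb))
    (hπH : ∀ h ∈ H, ∃ y, cj h (up C π) = up C π * up C y)
    {τ₁ τ₂ : Representation k H S} (h₁ : ∀ c : C, τ₁ ⟨c, hCH c.2⟩ = ρ c)
    (h₂ : ∀ c : C, τ₂ ⟨c, hCH c.2⟩ = ρ c) (hne : τ₁ ≠ τ₂)
    {q₁ q₂ : V →ₗ[k] S} (hq₁ : IsHom φ τ₁ q₁) (hq₁0 : q₁ ≠ 0) (hq₂ : IsHom φ τ₂ q₂) :
    ∃ f : Module.End k V, (∀ h ∈ H, φ h * f = f * φ h) ∧ q₁.comp f = q₁ ∧ q₂.comp f = 0 := by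
  classical
  have := Fintype.ofFinite G
  let σ : Representation k C V := φ.comp C.subtype
  have hσ : ∀ x, φ.asAlgebraHom (up C x) = σ.asAlgebraHom x := asAlgebraHom_up φ
  set P : Module.End k V := σ.asAlgebraHom π with hP
  set Bv : Module.End k V := σ.asAlgebraHom bb with hBv
  have hPc : ∀ x, P * σ.asAlgebraHom x = σ.asAlgebraHom x * P := fun x => by
    rw [hP, ← map_mul, ← map_mul, hg.pi_central]
  have hBc : ∀ x, Bv * σ.asAlgebraHom x = σ.asAlgebraHom x * Bv := fun x => by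
    rw [hBv, ← map_mul, ← map_mul, hg.bb_central]
  have hρπ : ρ.asAlgebraHom π = 0 := hg.pi_act_zero ρ
  have hqB₁ : ∀ v, q₁ (Bv v) = q₁ v := fun v => by
    rw [hBv, ← hσ, hq₁.apply_up hCH h₁, hρ, Module.End.one_apply]
  have hqB₂ : ∀ v, q₂ (Bv v) = q₂ v := fun v => by
    rw [hBv, ← hσ, hq₂.apply_up hCH h₂, hρ, Module.End.one_apply]
  have hqP₁ : ∀ v, q₁ (P v) = 0 := fun v => by
    rw [hP, ← hσ, hq₁.apply_up hCH h₁, hρπ, LinearMap.zero_apply]
  have hqP₂ : ∀ v, q₂ (P v) = 0 := fun v => by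
    rw [hP, ← hσ, hq₂.apply_up hCH h₂, hρπ, LinearMap.zero_apply]
  have hPn : P ^ n = 0 := by rw [hP, ← map_pow, hg.pi_pow, map_zero]
  have hBB : ∀ v, Bv (Bv v) = Bv v := fun v => by
    rw [← Module.End.mul_apply, hBv, ← map_mul, hg.bb_mul]
  -- the least power with a vector not killed by `q₁`
  have hex : ∃ j, ∃ v, (P ^ j) v = 0 ∧ Bv v = v ∧ q₁ v ≠ 0 := by
    obtain ⟨v, hv⟩ : ∃ v, q₁ v ≠ 0 := by
      by_contra h
      push Not at h
      exact hq₁0 (LinearMap.ext h)
    exact ⟨n, Bv v, by rw [hPn, LinearMap.zero_apply], hBB v, by rwa [hqB₁]⟩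
  obtain ⟨i₀, hi₀⟩ : ∃ i, Nat.find hex = i + 1 := by
    refine Nat.exists_eq_succ_of_ne_zero fun h0 => ?_
    obtain ⟨v, hv0, -, hqv⟩ := Nat.find_spec hex
    rw [h0, pow_zero, Module.End.one_apply] at hv0
    exact hqv (by rw [hv0, map_zero])
  obtain ⟨v₀, hv₀, hv₀B, hqv₀⟩ := Nat.find_spec hex
  rw [hi₀] at hv₀
  have hPB : ∀ (j : ℕ) (v : V), (P ^ j) (Bv v) = Bv ((P ^ j) v) := fun j v =>
    LinearMap.congr_fun (Commute.pow_left (show Commute P Bv from hPc bb) j).eq v
  have hmin : ∀ v, (P ^ i₀) v = 0 → q₁ v = 0 := fun v hv => by_contra fun h =>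
    Nat.find_min hex (show i₀ < Nat.find hex by omega)
      ⟨Bv v, by rw [hPB, hv, map_zero], hBB v, by rwa [hqB₁]⟩
  obtain ⟨q', hq'⟩ := CyclicDefect.exists_factor (P ^ i₀) q₁ fun v hv =>
    LinearMap.mem_ker.2 (hmin v (LinearMap.mem_ker.1 hv))
  have hq'P : ∀ v, q' ((P ^ (i₀ + 1)) v) = 0 := fun v => by
    rw [pow_succ, Module.End.mul_apply, ← LinearMap.comp_apply, hq', hqP₁]
  -- the kernel of the power is invariant under `H`
  let Kj : Submodule k V := LinearMap.ker (P ^ (i₀ + 1)) ⊓ LinearMap.ker (Bv - 1)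
  have hKmem : ∀ v, v ∈ Kj ↔ (P ^ (i₀ + 1)) v = 0 ∧ Bv v = v := fun v => by
    simp only [Kj, Submodule.mem_inf, LinearMap.mem_ker, LinearMap.sub_apply, Module.End.one_apply,
      sub_eq_zero]
  have hKσ : ∀ x, ∀ v ∈ Kj, σ.asAlgebraHom x v ∈ Kj := fun x v hv => by
    rw [hKmem] at hv ⊢
    refine ⟨?_, ?_⟩
    · rw [← Module.End.mul_apply, (Commute.pow_left (show Commute P (σ.asAlgebraHom x) from hPc x) _).eq,
        Module.End.mul_apply, hv.1, map_zero]
    · rw [← Module.End.mul_apply, hBc, Module.End.mul_apply, hv.2]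
  have hKH : ∀ h ∈ H, ∀ v ∈ Kj, φ h v ∈ Kj := fun h hh v hv => by
    rw [hKmem] at hv ⊢
    refine ⟨?_, ?_⟩
    · obtain ⟨y, hy⟩ := hπH h⁻¹ (inv_mem hh)
      have hconj : φ h⁻¹ * P * φ h = P * σ.asAlgebraHom y := by
        have h0 := congrArg φ.asAlgebraHom hy
        rwa [cj_asAlgebraHom, inv_inv, map_mul, hσ, hσ] at h0
      have hpow : ∀ j : ℕ, φ h⁻¹ * P ^ j * φ h = σ.asAlgebraHom y ^ j * P ^ j := fun j => by
        induction j with
        | zero => simp [← map_mul]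
        | succ j ih =>
          calc φ h⁻¹ * P ^ (j + 1) * φ h = φ h⁻¹ * P ^ j * φ h * (φ h⁻¹ * P * φ h) := by
                simp only [mul_assoc]
                rw [← mul_assoc (φ h) (φ h⁻¹), ← map_mul, mul_inv_cancel, map_one, one_mul, pow_succ,
                  mul_assoc]
            _ = σ.asAlgebraHom y ^ (j + 1) * P ^ (j + 1) := by
                rw [ih, hconj, hPc, pow_succ, pow_succ,
                  mul_assoc (σ.asAlgebraHom y ^ j) (P ^ j), ← mul_assoc (P ^ j),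
                  (Commute.pow_left (show Commute P (σ.asAlgebraHom y) from hPc y) j).eq]
                simp only [mul_assoc]
      have h1 := LinearMap.congr_fun (hpow (i₀ + 1)) v
      simp only [Module.End.mul_apply] at h1
      rw [hv.1, map_zero] at h1
      have h2 := congrArg (φ h) h1
      rwa [map_zero, ← Module.End.mul_apply (φ h), ← map_mul, mul_inv_cancel, map_one,
        Module.End.one_apply] at h2
    · have h0 : φ h * Bv = Bv * φ h := by
        have := congrArg φ.asAlgebraHom (hB h hh)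
        rw [cj_asAlgebraHom, hσ] at this
        calc φ h * Bv = φ h * Bv * φ h⁻¹ * φ h := by
              rw [mul_assoc _ (φ h⁻¹), ← map_mul, inv_mul_cancel, map_one, mul_one]
          _ = Bv * φ h := by rw [this]
      rw [← Module.End.mul_apply, ← h0, Module.End.mul_apply, hv.2]
  have hq₁σ : ∀ x v, q₁ (σ.asAlgebraHom x v) = ρ.asAlgebraHom x (q₁ v) := fun x v => by
    rw [← hσ, hq₁.apply_up hCH h₁]
  have hq₂σ : ∀ x v, q₂ (σ.asAlgebraHom x v) = ρ.asAlgebraHom x (q₂ v) := fun x v => by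
    rw [← hσ, hq₂.apply_up hCH h₂]
  have hone : ∀ (x : C) (v : V), φ (x : G) v = σ.asAlgebraHom (MonoidAlgebra.single x 1) v :=
    fun x v => by rw [asAlgebraHom_single, one_smul]; rfl
  have hsurj : Kj.map q₁ = ⊤ := by
    let W : Subrepresentation ρ := ⟨Kj.map q₁, fun x w hw => by
      obtain ⟨u, hu, rfl⟩ := Submodule.mem_map.1 hw
      refine ⟨σ.asAlgebraHom (MonoidAlgebra.single x 1) u, hKσ _ u hu, ?_⟩
      rw [hq₁σ, asAlgebraHom_single, one_smul]⟩
    rcases IsSimpleOrder.eq_bot_or_eq_top W with h | h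
    · refine absurd ?_ hqv₀
      have hm : q₁ v₀ ∈ W.toSubmodule := Submodule.mem_map_of_mem ((hKmem v₀).2 ⟨hv₀, hv₀B⟩)
      rw [h] at hm
      exact (Submodule.mem_bot k).mp hm
    · exact congrArg Subrepresentation.toSubmodule h
  -- the vector sent to `s₀` by `q₁` and killed by `q₂`
  obtain ⟨m, hmK, hmε, hm₁, hm₂⟩ : ∃ m ∈ Kj, σ.asAlgebraHom ε m = m ∧ q₁ m = s₀ ∧ q₂ m = 0 := by
    obtain ⟨u, huK, hu⟩ := Submodule.mem_map.1 (hsurj.symm ▸ Submodule.mem_top : s₀ ∈ Kj.map q₁)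
    obtain ⟨m₁, hm₁K, hm₁1, hm₁2⟩ : ∃ m ∈ Kj, q₁ m = s₀ ∧ q₂ m = 0 := by
      let W : Subrepresentation ρ := ⟨(Kj ⊓ LinearMap.ker q₁).map q₂, fun x w hw => by
        obtain ⟨u, ⟨hu, hu0⟩, rfl⟩ := Submodule.mem_map.1 hw
        refine ⟨σ.asAlgebraHom (MonoidAlgebra.single x 1) u, ⟨hKσ _ u hu, ?_⟩, ?_⟩
        · rw [SetLike.mem_coe, LinearMap.mem_ker, hq₁σ, LinearMap.mem_ker.1 hu0, map_zero]
        · rw [hq₂σ, asAlgebraHom_single, one_smul]⟩
      rcases IsSimpleOrder.eq_bot_or_eq_top W with h | h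
      · have hker : ∀ w ∈ Kj, q₁ w = 0 → q₂ w = 0 := fun w hw hw0 => by
          have hm : q₂ w ∈ W.toSubmodule := Submodule.mem_map_of_mem ⟨hw, LinearMap.mem_ker.2 hw0⟩
          rw [h] at hm
          exact (Submodule.mem_bot k).mp hm
        obtain ⟨sec, hsec⟩ := LinearMap.exists_rightInverse_of_surjective (q₁.comp Kj.subtype)
          (by rw [LinearMap.range_comp, Submodule.range_subtype, hsurj])
        have hsec' : ∀ s, q₁ ((sec s : Kj) : V) = s := fun s => LinearMap.congr_fun hsec s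
        let T : Module.End k S := q₂.comp (Kj.subtype.comp sec)
        have hT : ∀ w ∈ Kj, q₂ w = T (q₁ w) := fun w hw => by
          have := hker (w - (sec (q₁ w) : Kj)) (sub_mem hw (sec _).2) (by rw [map_sub, hsec', sub_self])
          rwa [map_sub, sub_eq_zero] at this
        have hTH : ∀ h : H, ∀ s, T (τ₁ h s) = τ₂ h (T s) := fun h s => by
          have := hT _ (hKH h h.2 _ (sec s).2)
          rw [hq₁ h, hq₂ h, hsec'] at this
          exact this.symm
        obtain ⟨t, ht⟩ := ModRep.exists_scalar ρ T fun x s => by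
          have := hTH ⟨x, hCH x.2⟩ s
          rwa [h₁, h₂] at this
        have ht0 : t = 0 := by
          by_contra ht0
          refine hne (MonoidHom.ext fun h => LinearMap.ext fun s => smul_right_injective S ht0 ?_)
          have := hTH h s
          rwa [ht, ht, map_smul] at this
        exact ⟨u, huK, hu, by rw [hT u huK, ht, ht0, zero_smul]⟩
      · have hq₂u : q₂ u ∈ W.toSubmodule := by rw [h]; exact Submodule.mem_top
        obtain ⟨u', ⟨hu'K, hu'0⟩, hu'⟩ := Submodule.mem_map.1 hq₂u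
        exact ⟨u - u', sub_mem huK hu'K, by rw [map_sub, hu, LinearMap.mem_ker.1 hu'0, sub_zero],
          by rw [map_sub, hu', sub_self]⟩
    refine ⟨σ.asAlgebraHom ε m₁, hKσ _ _ hm₁K, ?_, ?_, ?_⟩
    · rw [← Module.End.mul_apply, ← map_mul, hcor.idem]
    · rw [hq₁σ, hm₁1, hεs]
    · rw [hq₂σ, hm₁2, map_zero]
  obtain ⟨θ, hθ⟩ : ∃ θ : Module.Dual k S, θ s₀ = 1 := by
    obtain ⟨θ, hθ⟩ : ∃ θ : Module.Dual k S, θ s₀ ≠ 0 := by
      by_contra h
      push Not at h
      exact hs₀ ((Module.forall_dual_apply_eq_zero_iff k s₀).mp h)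
    exact ⟨(θ s₀)⁻¹ • θ, by rw [LinearMap.smul_apply, smul_eq_mul, inv_mul_cancel₀ hθ]⟩
  let g : V →ₗ[k] V :=
    ∑ i ∈ Finset.range (i₀ + 1), ((θ.comp q').comp (P ^ (i₀ - i))).smulRight ((P ^ i) m)
  have hg_apply : ∀ v, g v =
      ∑ i ∈ Finset.range (i₀ + 1), θ (q' ((P ^ (i₀ - i)) v)) • (P ^ i) m := fun v => by
    simp only [g, LinearMap.sum_apply, LinearMap.smulRight_apply, LinearMap.comp_apply]
  have hgε : ∀ v, σ.asAlgebraHom ε (g v) = g v := fun v => by
    rw [hg_apply, map_sum]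
    refine Finset.sum_congr rfl fun i _ => ?_
    rw [map_smul, ← Module.End.mul_apply (σ.asAlgebraHom ε),
      ← (Commute.pow_left (show Commute P (σ.asAlgebraHom ε) from hPc ε) i).eq, Module.End.mul_apply, hmε]
  have hgP : ∀ v, g (P v) = P (g v) := fun v => by
    rw [hg_apply, hg_apply, map_sum, Finset.sum_range_succ', Finset.sum_range_succ (fun i => P _) i₀]
    simp only [map_smul, ← Module.End.mul_apply, ← pow_succ, ← pow_succ']
    rw [Nat.sub_zero, hq'P, map_zero, zero_smul, ((hKmem m).1 hmK).1, smul_zero, add_zero, add_zero]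
    refine Finset.sum_congr rfl fun i hi => ?_
    rw [show i₀ - (i + 1) + 1 = i₀ - i by have := Finset.mem_range.mp hi; omega]
  have hqg₁ : ∀ v, q₁ (g v) = θ (q₁ v) • s₀ := fun v => by
    rw [hg_apply, map_sum, Finset.sum_range_succ', Finset.sum_eq_zero (fun i _ => by
      rw [map_smul, pow_succ', Module.End.mul_apply, hqP₁, smul_zero]), zero_add, pow_zero,
      Module.End.one_apply, map_smul, hm₁, Nat.sub_zero, ← LinearMap.comp_apply q', hq']
  have hqg₂ : ∀ v, q₂ (g v) = 0 := fun v => by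
    rw [hg_apply, map_sum, Finset.sum_range_succ', Finset.sum_eq_zero (fun i _ => by
      rw [map_smul, pow_succ', Module.End.mul_apply, hqP₂, smul_zero]), zero_add, pow_zero,
      Module.End.one_apply, map_smul, hm₂, smul_zero]
  set f₀ := extend σ σ ε c g with hf₀
  have hεx : ∀ v, σ.asAlgebraHom ε (σ.asAlgebraHom ε v) = σ.asAlgebraHom ε v := fun v => by
    rw [← Module.End.mul_apply, ← map_mul, hcor.idem]
  have hext := fun v => extend_apply hg hcor σ σ g (fun x => hgε _) (fun x => hgP _) v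
  have hcomm := fun a v => extend_comm hg hcor σ σ g (fun x => hgε _) (fun x => hgP _) a v
  have hBsum : ∀ (q : V →ₗ[k] S), (∀ x v, q (σ.asAlgebraHom x v) = ρ.asAlgebraHom x (q v)) →
      ∀ (a : V →ₗ[k] S), (∀ x v, a (σ.asAlgebraHom x v) = ρ.asAlgebraHom x (a v)) →
      (∀ v, a (σ.asAlgebraHom ε v) = q (σ.asAlgebraHom ε v)) → ∀ v, a v = q v := by
    intro q hq a ha hε v
    have h1 : ∀ b : V →ₗ[k] S, (∀ x v, b (σ.asAlgebraHom x v) = ρ.asAlgebraHom x (b v)) →
        b v = ∑ r : C × C, c r • ρ.asAlgebraHom (MonoidAlgebra.single r.1 1)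
          (b (σ.asAlgebraHom ε (σ.asAlgebraHom (MonoidAlgebra.single r.2 1) v))) := fun b hb => by
      have e : b (σ.asAlgebraHom bb v) = b v := by rw [hb, hρ, Module.End.one_apply]
      rw [← e, hcor.decomp, map_sum, LinearMap.sum_apply, map_sum]
      refine Finset.sum_congr rfl fun r _ => ?_
      rw [map_smul, LinearMap.smul_apply, map_smul, map_mul σ.asAlgebraHom, map_mul σ.asAlgebraHom,
        Module.End.mul_apply, Module.End.mul_apply, hb]
    rw [h1 a ha, h1 q hq]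
    exact Finset.sum_congr rfl fun r _ => by rw [hε]
  have hqf₀₁ : ∀ v, q₁ (f₀ v) = q₁ v :=
    hBsum q₁ hq₁σ (q₁.comp f₀)
      (fun x w => by rw [LinearMap.comp_apply, LinearMap.comp_apply, hf₀, hcomm, hq₁σ])
      fun w => by
        rw [LinearMap.comp_apply, hf₀, hext _ (hεx w), hqg₁, hq₁σ]
        obtain ⟨a, ha⟩ := hrk (q₁ w)
        rw [ha, map_smul, hθ, smul_eq_mul, mul_one]
  have hqf₀₂ : ∀ v, q₂ (f₀ v) = 0 :=
    hBsum 0 (fun x w => by simp) (q₂.comp f₀)
      (fun x w => by rw [LinearMap.comp_apply, LinearMap.comp_apply, hf₀, hcomm, hq₂σ])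
      fun w => by rw [LinearMap.comp_apply, hf₀, hext _ (hεx w), hqg₂]; rfl
  have hf₀C : ∀ x ∈ C, φ x * f₀ = f₀ * φ x := fun x hx => LinearMap.ext fun v => by
    rw [Module.End.mul_apply, Module.End.mul_apply, show x = ((⟨x, hx⟩ : C) : G) from rfl, hone,
      hone ⟨x, hx⟩ v, hf₀, hcomm]
  -- average over the cosets
  let φH : Representation k H V := φ.comp H.subtype
  have := Fintype.ofFinite (H ⧸ C.subgroupOf H)
  let F : Module.End k V := ∑ o : H ⧸ C.subgroupOf H, φH o.out * f₀ * φH o.out⁻¹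
  have hF := sum_conj_comm φH (L := C.subgroupOf H) (f := f₀)
    (fun l hl => hf₀C _ (Subgroup.mem_subgroupOf.1 hl))
  refine ⟨(C.relIndex H : k)⁻¹ • F, fun h hh => ?_, LinearMap.ext fun v => ?_, LinearMap.ext fun v => ?_⟩
  · rw [mul_smul_comm, smul_mul_assoc]
    exact congrArg _ (hF ⟨h, hh⟩)
  · rw [LinearMap.comp_apply, LinearMap.smul_apply, map_smul, LinearMap.sum_apply, map_sum]
    have : ∀ o : H ⧸ C.subgroupOf H, q₁ ((φH o.out * f₀ * φH o.out⁻¹) v) = q₁ v := fun o => by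
      show q₁ (φ ((o.out : H) : G) (f₀ (φ ((o.out⁻¹ : H) : G) v))) = _
      rw [hq₁, hqf₀₁, hq₁, ← Module.End.mul_apply, ← map_mul, mul_inv_cancel, map_one,
        Module.End.one_apply]
    rw [Finset.sum_congr rfl fun o _ => this o, Finset.sum_const, Finset.card_univ,
      ← Nat.card_eq_fintype_card, ← Subgroup.index_eq_card, ← Nat.cast_smul_eq_nsmul k]
    exact inv_smul_smul₀ hidx _
  · rw [LinearMap.comp_apply, LinearMap.smul_apply, map_smul, LinearMap.sum_apply, map_sum,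
      Finset.sum_eq_zero, smul_zero, LinearMap.zero_apply]
    intro o _
    show q₂ (φ ((o.out : H) : G) (f₀ (φ ((o.out⁻¹ : H) : G) v))) = 0
    rw [hq₂, hqf₀₂, map_zero]

variable {p : ℕ} [Fact p.Prime] [CharP k p] [FiniteDimensional k V] [φ.IsIrreducible]

/-- A simple module has maps which are not traced onto at most one extension of `ρ`. -/
theorem good_unique [Fintype C] (hCH : C ≤ H)
    (hidx : ((C.relIndex H : ℕ) : k) ≠ 0) (hg : IsGen bb π n)
    {ε : MonoidAlgebra k C} {c : C × C → k} (hcor : IsCorner bb π ε n c)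
    {s₀ : S} (hs₀ : s₀ ≠ 0) (hεs : ρ.asAlgebraHom ε s₀ = s₀)
    (hrk : ∀ v, ∃ a : k, ρ.asAlgebraHom ε v = a • s₀) (hρ : ρ.asAlgebraHom bb = 1)
    (hB : Fixed H (up C bb))
    (hπH : ∀ h ∈ H, ∃ y, cj h (up C π) = up C π * up C y)
    {D N : Subgroup G} (hDC : D ≤ C) (hHN : H ≤ N)
    {c₁ : MonoidAlgebra k G} (hc₁ : Fixed D c₁) (hc₁C : SuppIn C c₁)
    (hc₁B : c₁ * up C bb = c₁) (hc₁T : relTr D H c₁ = up C bb)
    (hN : ∀ g, g ∉ N → ∀ d ∈ D, g⁻¹ * d * g ∈ D → d = 1)
    (hsep : ∀ g ∈ N, g ∉ H → up C bb * cj g (up C bb) = 0)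
    {τ₁ τ₂ : Representation k H S} (h₁ : ∀ c : C, τ₁ ⟨c, hCH c.2⟩ = ρ c)
    (h₂ : ∀ c : C, τ₂ ⟨c, hCH c.2⟩ = ρ c) (hne : τ₁ ≠ τ₂)
    {q₁ q₂ : V →ₗ[k] S} (hq₁ : IsHom φ τ₁ q₁) (hn₁ : NotTraced φ τ₁ q₁) (hq₂ : IsHom φ τ₂ q₂)
    (hn₂ : NotTraced φ τ₂ q₂) : False := by
  classical
  have := Fintype.ofFinite G
  have hq₁0 : q₁ ≠ 0 := fun h => hn₁ 0 (by
    rw [h]
    refine LinearMap.ext fun v => ?_
    have := Fintype.ofFinite H
    rw [nmHom_apply]
    simp)
  obtain ⟨f, hf, hqf₁, hqf₂⟩ := exists_retraction hCH hidx hg hcor hs₀ hεs hrk hρ hB hπH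
    h₁ h₂ hne hq₁ hq₁0 hq₂
  have hDH : D ≤ H := hDC.trans hCH
  set Bv := φ.asAlgebraHom (up C bb) with hBv
  let F : G → Module.End k V := fun g => φ g * (φ.asAlgebraHom c₁ * f) * φ g⁻¹
  have hf₁ : ∀ d ∈ D, φ d * (φ.asAlgebraHom c₁ * f) = φ.asAlgebraHom c₁ * f * φ d := fun d hd => by
    have h0 := congrArg φ.asAlgebraHom (hc₁ d hd)
    rw [cj_asAlgebraHom] at h0
    calc φ d * (φ.asAlgebraHom c₁ * f)
        = φ d * φ.asAlgebraHom c₁ * φ d⁻¹ * (φ d * f) := by
          simp only [mul_assoc]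
          rw [← mul_assoc (φ d⁻¹) (φ d), ← map_mul, inv_mul_cancel, map_one, one_mul]
      _ = φ.asAlgebraHom c₁ * f * φ d := by rw [h0, hf d (hDH hd), mul_assoc]
  have hFD : ∀ g, ∀ d ∈ D, F (g * d) = F g := fun g d hd => conj_well_defined φ hf₁ g hd
  have := Fintype.ofFinite (G ⧸ D)
  have := Fintype.ofFinite (H ⧸ D.subgroupOf H)
  have := Fintype.ofFinite D
  let T : Module.End k V := ∑ o : G ⧸ D, F o.out
  obtain ⟨t, ht⟩ := ModRep.exists_scalar φ T fun g v =>
    (LinearMap.congr_fun (sum_conj_comm φ hf₁ g) v).symm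
  -- the three parts
  have hin : ∑ o ∈ Finset.univ.filter (fun o : G ⧸ D => o.out ∈ H), F o.out = Bv * f := by
    rw [sum_cosets_filter hDH F hFD, hBv, ← hc₁T, relTr_def, map_sum, Finset.sum_mul]
    refine Finset.sum_congr rfl fun o _ => ?_
    set h := ((o.out : H) : G) with hh
    show φ h * (φ.asAlgebraHom c₁ * f) * φ h⁻¹ = _
    rw [cj_asAlgebraHom]
    simp only [mul_assoc]
    rw [← hf h⁻¹ (inv_mem o.out.2)]
  have houtside : ∀ (τ : Representation k H S), (∀ c : C, τ ⟨c, hCH c.2⟩ = ρ c) →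
      ∀ q : V →ₗ[k] S, IsHom φ τ q → ∃ γ, (t - 1) • q + (q - q.comp f) = nmHom φ τ γ := by
    intro τ hτ q hq
    have hqB : ∀ v, q (Bv v) = q v := fun v => by
      rw [hBv, hq.apply_up hCH hτ, hρ, Module.End.one_apply]
    have hmid : ∀ o : G ⧸ D, o.out ∈ N → o.out ∉ H → ∀ v, q (F o.out v) = 0 := by
      intro o hoN hoH v
      have hz : up C bb * cj o.out c₁ = 0 := by
        have hcomm : c₁ * up C bb = up C bb * c₁ := by
          have hBC : Fixed C (up C bb) := fun u hu => hB u (hCH hu)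
          rw [hBC.commute hc₁C]
        conv_lhs => rw [← hc₁B, hcomm, map_mul]
        rw [← mul_assoc, hsep _ hoN hoH, zero_mul]
      have h0 : Bv * F o.out = φ.asAlgebraHom (up C bb * cj o.out c₁) * (φ o.out * f * φ o.out⁻¹) := by
        show Bv * (φ o.out * (φ.asAlgebraHom c₁ * f) * φ o.out⁻¹) = _
        rw [map_mul φ.asAlgebraHom, cj_asAlgebraHom]
        simp only [hBv, mul_assoc]
        rw [← mul_assoc (φ o.out⁻¹) (φ o.out), ← map_mul, inv_mul_cancel, map_one, one_mul]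
      rw [← hqB, ← Module.End.mul_apply, h0, hz, map_zero, zero_mul, LinearMap.zero_apply, map_zero]
    -- the free orbits
    let α := {o : G ⧸ D // o.out ∉ N}
    have hstab : ∀ (d : D) (o : G ⧸ D), o.out ∉ N → ((d : G) • o : G ⧸ D).out ∉ N := fun d o ho h => by
      obtain ⟨d', hd'⟩ := QuotientGroup.mk_out_eq_mul D ((d : G) * o.out)
      have e : ((d : G) • o : G ⧸ D) = (((d : G) * o.out : G) : G ⧸ D) := by
        rw [← smul_eq_mul (d : G), MulAction.Quotient.coe_smul_out]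
      rw [e, hd', N.mul_mem_cancel_right (hHN (hDH d'.2)),
        N.mul_mem_cancel_left (hHN (hDH d.2))] at h
      exact ho h
    letI : MulAction D α :=
      { smul := fun d o => ⟨(d : G) • o.1, hstab d o.1 o.2⟩
        one_smul := fun o => Subtype.ext (by show ((1 : D) : G) • o.1 = o.1; simp)
        mul_smul := fun a b o => Subtype.ext (by
          show ((a * b : D) : G) • o.1 = (a : G) • ((b : G) • o.1)
          rw [Subgroup.coe_mul, mul_smul]) }
    obtain ⟨Y, hY⟩ := sum_free_orbits (P := D) (α := α) (A := Module.End k V)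
      (fun d o hdo => by
        have h0 : ((d : G) • o.1 : G ⧸ D) = o.1 := congrArg Subtype.val hdo
        have h1 : (d : G) * o.1.out ∈ ({g | (g : G ⧸ D) = o.1} : Set G) := by
          show (((d : G) * o.1.out : G) : G ⧸ D) = o.1
          rw [← smul_eq_mul (d : G), MulAction.Quotient.coe_smul_out]
          exact h0
        have h2 : o.1.out⁻¹ * (d : G) * o.1.out ∈ D := by
          have h3 : (o.1.out : G ⧸ D) = (((d : G) * o.1.out : G) : G ⧸ D) :=
            o.1.out_eq.trans h1.symm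
          rw [QuotientGroup.eq] at h3
          rwa [← mul_assoc] at h3
        exact Subtype.ext (hN _ o.2 d d.2 h2))
      (fun d => ((LinearMap.mulRight k (φ ((d : G)⁻¹))).comp (LinearMap.mulLeft k (φ (d : G)))).toAddMonoidHom)
      (fun o => F o.1.out) (fun d o => by
        show F ((d : G) • o.1).out = φ (d : G) * F o.1.out * φ ((d : G)⁻¹)
        obtain ⟨d', hd'⟩ := QuotientGroup.mk_out_eq_mul D ((d : G) * o.1.out)
        rw [show ((d : G) • o.1 : G ⧸ D) = (((d : G) * o.1.out : G) : G ⧸ D) by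
          rw [← smul_eq_mul (d : G), MulAction.Quotient.coe_smul_out], hd', hFD _ d' d'.2]
        simp only [F, map_mul φ, mul_inv_rev, mul_assoc])
    have hT : ∀ v, q (T v) = q (f v) + ∑ d : D, q (φ (d : G) (Y (φ ((d : G)⁻¹) v))) := by
      intro v
      have e1 : T = (∑ o ∈ Finset.univ.filter (fun o : G ⧸ D => o.out ∈ N), F o.out) +
          ∑ o : α, F o.1.out := by
        rw [← Finset.sum_subtype (Finset.univ.filter (fun o : G ⧸ D => o.out ∉ N)) (by simp)
          (fun o => F o.out)]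
        exact (Finset.sum_filter_add_sum_filter_not _ _ _).symm
      rw [e1, LinearMap.add_apply, map_add, hY,
        ← Finset.sum_filter_add_sum_filter_not (Finset.univ.filter (fun o : G ⧸ D => o.out ∈ N))
          (fun o : G ⧸ D => o.out ∈ H), LinearMap.add_apply, map_add, Finset.filter_filter,
        Finset.filter_filter]
      congr 1
      · rw [show Finset.univ.filter (fun o : G ⧸ D => o.out ∈ N ∧ o.out ∈ H) =
            Finset.univ.filter (fun o : G ⧸ D => o.out ∈ H) from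
          Finset.filter_congr fun o _ => ⟨fun h => h.2, fun h => ⟨hHN h, h⟩⟩, hin,
          Module.End.mul_apply, hqB, LinearMap.sum_apply, map_sum,
          Finset.sum_eq_zero (fun o ho => hmid o (Finset.mem_filter.1 ho).2.1 (Finset.mem_filter.1 ho).2.2 v),
          add_zero]
      · rw [LinearMap.sum_apply, map_sum]
        rfl
    refine ⟨(actH τ c₁).comp (q.comp Y), LinearMap.ext fun v => ?_⟩
    set X : V →ₗ[k] S := (t - 1) • q + (q - q.comp f) with hX
    have hXv : ∀ v, X v = ∑ d : D, q (φ (d : G) (Y (φ ((d : G)⁻¹) v))) := fun v => by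
      have := hT v
      rw [ht, map_smul] at this
      rw [hX, LinearMap.add_apply, LinearMap.smul_apply, LinearMap.sub_apply, LinearMap.comp_apply,
        sub_smul, one_smul]
      rw [this]
      abel
    have hXH : ∀ (h : H) v, X (φ (h : G) v) = τ h (X v) := fun h v => by
      simp only [hX, LinearMap.add_apply, LinearMap.smul_apply, LinearMap.sub_apply,
        LinearMap.comp_apply, map_add, map_smul, map_sub]
      rw [hq, ← Module.End.mul_apply f, ← hf h h.2, Module.End.mul_apply, hq]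
    have := Fintype.ofFinite H
    have := Fintype.ofFinite (D.subgroupOf H)
    show X v = _
    rw [nmHom_apply, sum_eq_sum_cosets (D.subgroupOf H)]
    have hinner : ∀ h : H, ∑ d : D.subgroupOf H,
        τ (h * (d : H)) (actH τ c₁ (q (Y (φ (((h * (d : H) : H) : G)⁻¹) v)))) =
        actH τ (cj (h : G) c₁) (X v) := by
      intro h
      rw [show actH τ (cj (h : G) c₁) (X v) = τ h (actH τ c₁ (X (φ ((h : G)⁻¹) v))) by
        rw [actH_cj, Module.End.mul_apply, Module.End.mul_apply]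
        congr 2
        exact (hXH h⁻¹ v).symm, hXv, map_sum, map_sum]
      refine Fintype.sum_equiv (Subgroup.subgroupOfEquivOfLe hDH).toEquiv _ _ fun d => ?_
      show _ = τ h (actH τ c₁ (q (φ ((d : H) : G) (Y (φ (((d : H) : G)⁻¹) (φ ((h : G)⁻¹) v))))))
      have hcd : actH τ c₁ * τ (d : H) = τ (d : H) * actH τ c₁ := by
        conv_lhs => rw [← hc₁ ((d : H) : G) (Subgroup.mem_subgroupOf.1 d.2), actH_cj]
        rw [mul_assoc, ← map_mul, inv_mul_cancel, map_one, mul_one]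
      rw [map_mul τ, Module.End.mul_apply, hq (d : H), ← Module.End.mul_apply (actH τ c₁), hcd,
        Module.End.mul_apply, Subgroup.coe_mul, mul_inv_rev, map_mul φ, Module.End.mul_apply]
    rw [Finset.sum_congr rfl (fun o _ => hinner o.out), ← LinearMap.sum_apply, ← actH_sum,
      ← relTr_def, hc₁T, actH_up hCH, show τ.comp (Subgroup.inclusion hCH) = ρ from MonoidHom.ext hτ,
      hρ, Module.End.one_apply]
  obtain ⟨γ₁, hγ₁⟩ := houtside τ₁ h₁ q₁ hq₁
  obtain ⟨γ₂, hγ₂⟩ := houtside τ₂ h₂ q₂ hq₂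
  rw [hqf₁, sub_self, add_zero] at hγ₁
  have ht1 : t = 1 := by
    by_contra ht1
    refine hn₁ ((t - 1)⁻¹ • γ₁) ?_
    have : nmHom φ τ₁ ((t - 1)⁻¹ • γ₁) = (t - 1)⁻¹ • nmHom φ τ₁ γ₁ := by
      have := Fintype.ofFinite H
      refine LinearMap.ext fun v => ?_
      simp [nmHom_apply, Finset.smul_sum]
    rw [this, ← hγ₁, inv_smul_smul₀ (sub_ne_zero.2 ht1)]
  rw [hqf₂, ht1, sub_self, zero_smul, sub_zero, zero_add] at hγ₂
  exact hn₂ γ₂ hγ₂

end Cfsg.Agent.CycDefect
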